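import Mathlib.AlgebraicGeometry.Noetherian
import Mathlib.RingTheory.KrullDimension.Zero
import Mathlib.RingTheory.Spectrum.Prime.Noetherian
import Mathlib.RingTheory.Artinian.Ring
import Mathlib.RingTheory.HopkinsLevitzki
import Mathlib.AlgebraicGeometry.Morphisms.QuasiFinite

/-!
Schemes without proper specialisations.
-/

set_option autoImplicit false

universe u

open CategoryTheory CategoryTheory.Limits AlgebraicGeometry

namespace Groth.Agent.Lib.GrpdGen

/-- In a locally Noetherian scheme without proper specialisations all points are open. -/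
theorem isOpen_singleton_of_forall_eq {X : Scheme.{u}} [IsLocallyNoetherian X] (h : ∀ a b : X, a ⤳ b → a = b)
    (x : X) : IsOpen ({x} : Set X) := by
  obtain ⟨U, hU, hxU, -⟩ := exists_isAffineOpen_mem_and_subset (X := X) (x := x) (U := ⊤) trivial
  have : IsNoetherianRing Γ(X, U) := IsLocallyNoetherian.component_noetherian ⟨U, hU⟩
  have hdim : Ring.KrullDimLE 0 Γ(X, U) := Ring.KrullDimLE.mk₀ fun I hI => by
    obtain ⟨M, hM, hIM⟩ := Ideal.exists_le_maximal I hI.ne_top
    have h1 := h _ _ (((PrimeSpectrum.le_iff_specializes ⟨I, hI⟩ ⟨M, hM.isPrime⟩).1 hIM).map hU.fromSpec.continuous)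
    have h2 := congrArg PrimeSpectrum.asIdeal (hU.fromSpec.isOpenEmbedding.injective h1)
    exact (show I = M from h2) ▸ hM
  have : IsArtinianRing Γ(X, U) := isArtinianRing_iff_isNoetherianRing_krullDimLE_zero.2 ⟨‹_›, hdim⟩
  obtain ⟨q, rfl⟩ : x ∈ Set.range hU.fromSpec := by rw [hU.range_fromSpec]; exact hxU
  rw [← Set.image_singleton]
  exact hU.fromSpec.isOpenEmbedding.isOpenMap _ (isOpen_discrete (α := PrimeSpectrum Γ(X, U)) {q})

/-- A Noetherian scheme without proper specialisations is finite. -/
theorem finite_of_forall_eq {X : Scheme.{u}} [IsLocallyNoetherian X] [CompactSpace X]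
    (h : ∀ a b : X, a ⤳ b → a = b) : Finite X :=
  have : DiscreteTopology X := discreteTopology_iff_isOpen_singleton.2 (isOpen_singleton_of_forall_eq h)
  finite_of_compact_of_discrete

end Groth.Agent.Lib.GrpdGen
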