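import Mathlib.AlgebraicGeometry.Morphisms.UniversallyOpen
import Mathlib.AlgebraicGeometry.Morphisms.Preimmersion
import Mathlib.AlgebraicGeometry.PullbackCarrier
import Mathlib.AlgebraicGeometry.ResidueField

/-!
Lifting generalisations in fibres along base change.
-/

set_option autoImplicit false

universe u

open CategoryTheory CategoryTheory.Limits AlgebraicGeometry

namespace Groth.Agent.Lib.GrpdGen

theorem flat_spec_residueField {Y T : Scheme.{u}} (g : T ⟶ Y) (τ : T) :
    Flat (Spec.map (g.residueFieldMap τ)) := by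
  rw [HasRingHomProperty.Spec_iff (P := @Flat)]
  let := (g.residueFieldMap τ).hom.toAlgebra
  exact Module.Flat.of_free

/-- A generalisation of the image of a point of a fibre product inside its fibre lifts to a generalisation inside
the fibre of the second projection. -/
theorem exists_lift_generization {P X T Y : Scheme.{u}} {fst : P ⟶ X} {snd : P ⟶ T} {f : X ⟶ Y} {g : T ⟶ Y}
    (sq : IsPullback fst snd f g) (z : P) (x' : X) (hx : x' ⤳ fst z) (hfib : f x' = f (fst z)) :
    ∃ z' : P, z' ⤳ z ∧ fst z' = x' ∧ snd z' = snd z := by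
  let ι₀ := Y.fromSpecResidueField (g (snd z))
  let c := Spec.map (g.residueFieldMap (snd z))
  have hc : c ≫ ι₀ = T.fromSpecResidueField (snd z) ≫ g := Scheme.Hom.SpecMap_residueFieldMap_fromSpecResidueField _ _
  have : Flat c := flat_spec_residueField g (snd z)
  let P₀ := pullback f ι₀
  let P₁ := pullback (pullback.snd f ι₀) c
  let π : P₁ ⟶ P := sq.lift (pullback.fst _ c ≫ pullback.fst f ι₀)
    (pullback.snd _ c ≫ T.fromSpecResidueField (snd z)) (by
      rw [Category.assoc, pullback.condition, pullback.condition_assoc, hc, Category.assoc])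
  have sq₁ : IsPullback π (pullback.snd (pullback.snd f ι₀) c) snd (T.fromSpecResidueField (snd z)) := by
    have h := (IsPullback.of_hasPullback (pullback.snd f ι₀) c).paste_horiz
      (IsPullback.of_hasPullback f ι₀)
    rw [hc] at h
    refine IsPullback.of_right ?_ (sq.lift_snd _ _ _) sq
    rw [sq.lift_fst]
    exact h
  have hπ : Topology.IsEmbedding π := by
    have : IsPreimmersion π := MorphismProperty.of_isPullback (P := @IsPreimmersion) sq₁.flip inferInstance
    exact π.isEmbedding
  obtain ⟨z₁, hz₁, -⟩ := Scheme.exists_preimage_of_isPullback sq₁ z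
    (IsLocalRing.closedPoint (T.residueField (snd z))) (Scheme.fromSpecResidueField_apply _ _).symm
  have he : Topology.IsEmbedding (pullback.fst f ι₀) := (pullback.fst f ι₀).isEmbedding
  obtain ⟨y₀, hy₀⟩ : x' ∈ Set.range (pullback.fst f ι₀) := by
    rw [Scheme.Pullback.range_fst, Scheme.range_fromSpecResidueField, Set.mem_preimage, Set.mem_singleton_iff, hfib,
      ← Scheme.Hom.comp_apply, sq.w, Scheme.Hom.comp_apply]
  have hπf : ∀ w, fst (π w) = pullback.fst f ι₀ (pullback.fst (pullback.snd f ι₀) c w) := fun w => by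
    rw [← Scheme.Hom.comp_apply, sq.lift_fst, Scheme.Hom.comp_apply]
  have hy : y₀ ⤳ pullback.fst (pullback.snd f ι₀) c z₁ :=
    he.isInducing.specializes_iff.1 (by rw [hy₀, ← hπf, hz₁]; exact hx)
  obtain ⟨w, hw, hwy⟩ := Flat.generalizingMap (pullback.fst (pullback.snd f ι₀) c) hy
  refine ⟨π w, hz₁ ▸ hw.map π.continuous, by rw [hπf, hwy, hy₀], ?_⟩
  rw [← Scheme.Hom.comp_apply, sq₁.w, Scheme.Hom.comp_apply, Scheme.fromSpecResidueField_apply]

end Groth.Agent.Lib.GrpdGen
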