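import Groth.Prelude.Def_AlgGrp
import Groth.Agent.Lib.GrpSch.Basic
import Groth.Agent.Lib.GrpdGen.FibreLift
import Groth.Agent.Lib.GrpdGen.Discrete
import Mathlib.AlgebraicGeometry.Morphisms.QuasiFinite

/-!
Quasi-finiteness of the stabiliser gives quasi-finiteness of `(g, x) ↦ (gx, x)`.
-/

set_option autoImplicit false

universe u

open CategoryTheory Limits MonoidalCategory CartesianMonoidalCategory MonObj AlgebraicGeometry

namespace Groth.Agent.Lib.GrpdGen

/-- A morphism whose kernel pair is quasi-finite over it is quasi-finite. -/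
theorem locallyQuasiFinite_of_kernelPair {K X Y : Scheme.{u}} {k₁ k₂ : K ⟶ X} {f : X ⟶ Y} [LocallyOfFiniteType f]
    (sq : IsPullback k₁ k₂ f f) [LocallyQuasiFinite k₂] : LocallyQuasiFinite f := by
  rw [locallyQuasiFinite_iff_isDiscrete_preimage_singleton]
  intro y
  have hinc : ∀ v' v : X, v' ⤳ v → f v' = f v → v' = v := by
    intro v' v hsp he
    let z := (sq.lift (𝟙 X) (𝟙 X) rfl) v
    have h1 : k₁ z = v := by rw [← Scheme.Hom.comp_apply, sq.lift_fst]; rfl
    obtain ⟨z', hz, hz1, hz2⟩ := exists_lift_generization sq z v' (h1.symm ▸ hsp) (h1.symm ▸ he)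
    have hd := (k₂.isDiscrete_preimage_singleton (k₂ z)).to_subtype
    have : z' = z := congrArg Subtype.val (Specializes.eq (X := ↥(k₂ ⁻¹' {k₂ z})) (x := ⟨z', hz2⟩) (y := ⟨z, rfl⟩)
      ((subtype_specializes_iff _ _).2 hz))
    rw [← hz1, this, h1]
  let p := f.fiberToSpecResidueField y
  have : LocallyOfFiniteType p := inferInstanceAs (LocallyOfFiniteType (pullback.snd f (Y.fromSpecResidueField y)))
  have : IsLocallyNoetherian (f.fiber y) := LocallyOfFiniteType.isLocallyNoetherian p
  have : IsPreimmersion (f.fiberι y) :=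
    inferInstanceAs (IsPreimmersion (pullback.fst f (Y.fromSpecResidueField y)))
  have : DiscreteTopology (f.fiber y) := discreteTopology_iff_isOpen_singleton.2
    (isOpen_singleton_of_forall_eq fun a b hab => by
      have hr : ∀ c, f (f.fiberι y c) = y := fun c => by
        have : f.fiberι y c ∈ Set.range (f.fiberι y) := ⟨c, rfl⟩
        rwa [Scheme.Hom.range_fiberι] at this
      exact (f.fiberι y).isEmbedding.injective
        (hinc _ _ (hab.map (f.fiberι y).continuous) ((hr a).trans (hr b).symm)))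
  exact ⟨(f.fiberHomeo y).discreteTopology⟩

variable {S : Scheme.{u}} {G X : Over S} [GrpObj G] (a : AlgGrp.Action G X)

theorem locallyQuasiFinite_shear [LocallyOfFiniteType (lift a.act (snd G X)).left]
    (hF : LocallyQuasiFinite (pullback.snd (lift a.act (snd G X)) (lift (𝟙 X) (𝟙 X))).left) :
    LocallyQuasiFinite (lift a.act (snd G X)).left := by
  let Φ := lift a.act (snd G X)
  let Δ := lift (𝟙 X) (𝟙 X)
  let k₁ := pullback.fst Φ Φ
  let k₂ := pullback.snd Φ Φ
  have hk : k₁ ≫ snd G X = k₂ ≫ snd G X ∧ k₁ ≫ a.act = k₂ ≫ a.act := by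
    have h := pullback.condition (f := Φ) (g := Φ)
    exact ⟨by simpa [Φ, k₁, k₂] using congrArg (· ≫ snd X X) h, by simpa [Φ, k₁, k₂] using congrArg (· ≫ fst X X) h⟩
  have hψ : lift ((k₂ ≫ fst G X)⁻¹ * (k₁ ≫ fst G X)) (k₂ ≫ snd G X) ≫ Φ = (k₂ ≫ snd G X) ≫ Δ := by
    apply CartesianMonoidalCategory.hom_ext
    · simp only [Φ, Δ, Category.assoc, lift_fst, Category.comp_id]
      rw [GrpSch.act_mul, show lift (k₁ ≫ fst G X) (k₂ ≫ snd G X) = k₁ by
        rw [← hk.1, ← comp_lift, lift_fst_snd, Category.comp_id], hk.2]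
      have := GrpSch.act_inv_act a (k₂ ≫ fst G X) (k₂ ≫ snd G X)
      rwa [show lift (k₂ ≫ fst G X) (k₂ ≫ snd G X) = k₂ by rw [← comp_lift, lift_fst_snd, Category.comp_id]] at this
    · simp only [Φ, Δ, Category.assoc, lift_snd, Category.comp_id]
  let ψ : pullback Φ Φ ⟶ pullback Φ Δ := pullback.lift _ _ hψ
  have hw : ψ ≫ pullback.snd Φ Δ = k₂ ≫ snd G X := pullback.lift_snd _ _ _
  have hst : ∀ {T : Over S} (m : T ⟶ pullback Φ Δ),
      (m ≫ pullback.fst Φ Δ) ≫ a.act = m ≫ pullback.snd Φ Δ ∧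
        (m ≫ pullback.fst Φ Δ) ≫ snd G X = m ≫ pullback.snd Φ Δ := fun m => by
    have h := congrArg (m ≫ ·) (pullback.condition (f := Φ) (g := Δ))
    exact ⟨by simpa [Φ, Δ] using congrArg (· ≫ fst X X) h, by simpa [Φ, Δ] using congrArg (· ≫ snd X X) h⟩
  have hl : ∀ c : PullbackCone (pullback.snd Φ Δ) (snd G X),
      lift ((c.snd ≫ fst G X) * ((c.fst ≫ pullback.fst Φ Δ) ≫ fst G X)) (c.snd ≫ snd G X) ≫ Φ = c.snd ≫ Φ := fun c => by
    apply CartesianMonoidalCategory.hom_ext
    · simp only [Φ, Category.assoc, lift_fst]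
      obtain ⟨h1, h2⟩ := hst c.fst
      rw [GrpSch.act_mul, show lift ((c.fst ≫ pullback.fst Φ Δ ≫ fst G X)) (c.snd ≫ snd G X) =
          c.fst ≫ pullback.fst Φ Δ by
        rw [← c.condition, ← h2, ← Category.assoc, ← comp_lift, lift_fst_snd, Category.comp_id], h1, c.condition,
        ← comp_lift_assoc, lift_fst_snd, Category.id_comp]
    · simp only [Φ, Category.assoc, lift_snd]
  have sq : IsPullback ψ k₂ (pullback.snd Φ Δ) (snd G X) := by
    refine ⟨⟨hw⟩, ⟨PullbackCone.IsLimit.mk hw (fun c => pullback.lift _ c.snd (hl c)) (fun c => ?_)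
      (fun c => pullback.lift_snd _ _ _) (fun c m h1 h2 => ?_)⟩⟩
    · apply pullback.hom_ext
      · simp only [ψ, k₁, k₂, Category.assoc, pullback.lift_fst, comp_lift, MonObj.comp_mul, GrpObj.comp_inv,
          pullback.lift_fst_assoc, pullback.lift_snd_assoc, lift_fst, inv_mul_cancel_left]
        rw [← Category.assoc c.fst]
        apply CartesianMonoidalCategory.hom_ext
        · rw [lift_fst]
        · rw [lift_snd, (hst c.fst).2, c.condition]
      · rw [Category.assoc, hw, pullback.lift_snd_assoc, c.condition]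
    · apply pullback.hom_ext
      · rw [pullback.lift_fst]
        apply CartesianMonoidalCategory.hom_ext
        · rw [lift_fst, ← h1, ← h2]
          simp only [ψ, k₁, k₂, Category.assoc, pullback.lift_fst_assoc, lift_fst, MonObj.comp_mul, GrpObj.comp_inv,
            mul_inv_cancel_left]
        · rw [lift_snd, ← h2, Category.assoc, Category.assoc, hk.1]
      · rw [pullback.lift_snd]; exact h2
  have : LocallyQuasiFinite (pullback.snd Φ Δ).left := hF
  have : LocallyQuasiFinite k₂.left :=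
    MorphismProperty.of_isPullback (P := @LocallyQuasiFinite) (sq.map (Over.forget S)) hF
  have : LocallyQuasiFinite ((Over.forget S).map (pullback.snd Φ Φ)) := ‹LocallyQuasiFinite k₂.left›
  have : LocallyOfFiniteType ((Over.forget S).map Φ) := ‹LocallyOfFiniteType (lift a.act (snd G X)).left›
  exact @locallyQuasiFinite_of_kernelPair _ _ _ _ _ _ this ((IsPullback.of_hasPullback Φ Φ).map (Over.forget S))
    ‹LocallyQuasiFinite k₂.left›

end Groth.Agent.Lib.GrpdGen
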