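import Groth.Agent.H63.GrpdBasic
import Groth.Agent.Lib.Flat55.FlatDescend
import Groth.Agent.Lib.GrpdGen.FibreLift
import Mathlib.AlgebraicGeometry.Morphisms.QuasiFinite
import Mathlib.AlgebraicGeometry.Morphisms.UniversallyOpen
import Mathlib.AlgebraicGeometry.Morphisms.FinitePresentation
import Mathlib.AlgebraicGeometry.ZariskisMainTheorem

/-!
Arrows of a groupoid scheme with target in a given scheme over the objects; spreading properties of the
source map along orbits.
-/

set_option autoImplicit false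

universe u

open CategoryTheory CategoryTheory.Limits AlgebraicGeometry Groth.Agent.H63.GrpdBasic

namespace Groth.Agent.Lib.GrpdGen

variable {S : Scheme.{u}} (G : Grpd.GroupoidScheme S)

/-- The source of the arrows with target in `U'`. -/
noncomputable abbrev sv {U' : Scheme.{u}} (u : U' ⟶ G.U) : pullback G.t u ⟶ G.U :=
  pullback.fst G.t u ≫ G.s

/-- The inverse of a composite. -/
theorem cmp_i {T : Scheme.{u}} (α β : T ⟶ G.R) (h : α ≫ G.s = β ≫ G.t) :
    cmp G α β h ≫ G.i = cmp G (β ≫ G.i) (α ≫ G.i) (by rw [Category.assoc, G.i_s, Category.assoc, G.i_t, h]) := by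
  have hc : (cmp G (β ≫ G.i) (α ≫ G.i) (by rw [Category.assoc, G.i_s, Category.assoc, G.i_t, h])) ≫ G.s =
      cmp G α β h ≫ G.t := by rw [cmp_s, cmp_t, Category.assoc, G.i_s]
  have h2 : cmp G (cmp G (β ≫ G.i) (α ≫ G.i) (by rw [Category.assoc, G.i_s, Category.assoc, G.i_t, h]))
      (cmp G α β h) hc = β ≫ G.s ≫ G.e := by
    rw [cmp_assoc G (β ≫ G.i) (α ≫ G.i) (cmp G α β h) _ (by rw [Category.assoc, G.i_s, cmp_t]),
      cmp_congr G rfl (inv_cmp_cancel G α β h) _ (by rw [Category.assoc, G.i_s]), inv_cmp]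
  refine (Eq.trans ?_ (cmp_cancel_right G _ _ hc))
  refine (one_cmp G (cmp G α β h ≫ G.i) _ ?_ _).symm
  rw [h2, Category.assoc, reassoc_of% G.i_t, reassoc_of% cmp_s G α β h]

variable {U₁ T : Scheme.{u}} (u : U₁ ⟶ G.U) (a : T ⟶ G.R) (b : T ⟶ U₁) (hab : a ≫ G.t = b ≫ u)

include hab in
theorem comp_arrow_cond :
    ((pullback.fst b (pullback.snd G.t u) ≫ a) ≫ G.i) ≫ G.s =
      (pullback.snd b (pullback.snd G.t u) ≫ pullback.fst G.t u) ≫ G.t := by
  rw [Category.assoc, G.i_s, Category.assoc, Category.assoc, pullback.condition, hab,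
    ← Category.assoc, pullback.condition, Category.assoc]

/-- For two arrows `a`, `r` with the same target in `U₁`, the arrow `a⁻¹ r`. -/
noncomputable def between : pullback b (pullback.snd G.t u) ⟶ G.R :=
  cmp G ((pullback.fst b (pullback.snd G.t u) ≫ a) ≫ G.i)
    (pullback.snd b (pullback.snd G.t u) ≫ pullback.fst G.t u) (comp_arrow_cond G u a b hab)

theorem between_s : between G u a b hab ≫ G.s = pullback.snd b (pullback.snd G.t u) ≫ sv G u := by
  rw [between, cmp_s, Category.assoc]

theorem between_t : between G u a b hab ≫ G.t = pullback.fst b (pullback.snd G.t u) ≫ a ≫ G.s := by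
  rw [between, cmp_t, Category.assoc, Category.assoc, G.i_t]

/-- Pairs of arrows with the same target are composable pairs. -/
theorem isPullback_between :
    IsPullback (pullback.fst b (pullback.snd G.t u)) (between G u a b hab) (a ≫ G.s) G.t := by
  have hl : ∀ c : PullbackCone (a ≫ G.s) G.t, (c.fst ≫ a) ≫ G.s = c.snd ≫ G.t := fun c => by
    rw [Category.assoc, c.condition]
  have hl' : ∀ c : PullbackCone (a ≫ G.s) G.t, cmp G (c.fst ≫ a) c.snd (hl c) ≫ G.t = (c.fst ≫ b) ≫ u := fun c => by
    rw [cmp_t, Category.assoc, hab, Category.assoc]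
  refine ⟨⟨(between_t G u a b hab).symm⟩, ⟨PullbackCone.IsLimit.mk (between_t G u a b hab).symm
    (fun c => pullback.lift c.fst (pullback.lift (cmp G (c.fst ≫ a) c.snd (hl c)) (c.fst ≫ b) (hl' c))
      (by rw [pullback.lift_snd]))
    (fun c => pullback.lift_fst _ _ _) (fun c => ?_) (fun c m h1 h2 => ?_)⟩⟩
  · rw [between, comp_cmp]
    refine (cmp_congr G ?_ ?_ _ _).trans (inv_cmp_cancel G (c.fst ≫ a) c.snd (hl c))
    · rw [← Category.assoc, pullback.lift_fst_assoc]
    · rw [pullback.lift_snd_assoc, pullback.lift_fst]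
  · apply pullback.hom_ext
    · rw [pullback.lift_fst, h1]
    · rw [pullback.lift_snd]
      apply pullback.hom_ext
      · rw [pullback.lift_fst, Category.assoc]
        rw [between, comp_cmp] at h2
        have k : (m ≫ pullback.fst b (pullback.snd G.t u) ≫ a) ≫ G.t =
            (m ≫ pullback.snd b (pullback.snd G.t u) ≫ pullback.fst G.t u) ≫ G.t := by
          simp only [Category.assoc, hab]
          rw [pullback.condition, pullback.condition_assoc]
        refine Eq.trans (cmp_inv_cancel_left G _ _ k).symm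
          (cmp_congr G (by rw [← h1, Category.assoc]) ?_ _ _)
        rw [← h2]
        exact cmp_congr G (by simp only [Category.assoc]) rfl _ _
      · rw [pullback.lift_snd, Category.assoc, ← pullback.condition, ← Category.assoc, h1]

theorem between_flat [Flat (a ≫ G.s)] : Flat (between G u a b hab) :=
  MorphismProperty.of_isPullback (P := @Flat) (isPullback_between G u a b hab) ‹_›

section Spread

omit a b hab

variable (Ω : (pullback G.t u).Opens) (O : U₁.Opens)

/-- The arrow of a point of `Ω`, as an arrow into `O`. -/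
noncomputable def intoImage (hO : (O : Set U₁) = pullback.snd G.t u '' (Ω : Set ↥(pullback G.t u))) :
    Ω.toScheme ⟶ O.toScheme :=
  IsOpenImmersion.lift O.ι (Ω.ι ≫ pullback.snd G.t u) (by
    rintro _ ⟨w, rfl⟩
    rw [Scheme.Opens.range_ι, hO, Scheme.Hom.comp_apply]
    exact ⟨_, w.2, rfl⟩)

variable (hO : (O : Set U₁) = pullback.snd G.t u '' (Ω : Set ↥(pullback G.t u)))

theorem intoImage_ι : intoImage G u Ω O hO ≫ O.ι = Ω.ι ≫ pullback.snd G.t u := IsOpenImmersion.lift_fac _ _ _

theorem intoImage_cond :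
    (Ω.ι ≫ pullback.fst G.t u) ≫ G.t = intoImage G u Ω O hO ≫ O.ι ≫ u := by
  rw [reassoc_of% intoImage_ι G u Ω O hO, Category.assoc, pullback.condition]

theorem surjective_intoImage : Surjective (intoImage G u Ω O hO) := by
  refine ⟨fun y => ?_⟩
  have hy : y.1 ∈ pullback.snd G.t u '' (Ω : Set ↥(pullback G.t u)) := hO ▸ y.2
  obtain ⟨w, hw, e⟩ := hy
  refine ⟨⟨w, hw⟩, O.ι.isOpenEmbedding.injective ?_⟩
  rw [← Scheme.Hom.comp_apply, intoImage_ι, Scheme.Hom.comp_apply]
  exact e

theorem flat_intoImage [Flat G.t] : Flat (intoImage G u Ω O hO) := by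
  have sq : IsPullback (intoImage G u Ω O hO) (𝟙 _) O.ι (Ω.ι ≫ pullback.snd G.t u) :=
    ⟨⟨by rw [intoImage_ι, Category.id_comp]⟩, ⟨PullbackCone.IsLimit.mk _ (fun c => c.snd)
      (fun c => by rw [← cancel_mono O.ι, Category.assoc, intoImage_ι, c.condition])
      (fun c => Category.comp_id _) (fun c m _ h2 => by rw [← h2, Category.comp_id])⟩⟩
  have : Flat (intoImage G u Ω O hO ≫ O.ι) := by rw [intoImage_ι]; infer_instance
  exact MorphismProperty.of_postcomp (W := @Flat) (W' := @IsOpenImmersion) _ O.ι inferInstance ‹_›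

include hO in
/-- Flatness of the source map spreads to all arrows into the image. -/
theorem flat_sv_of_image [Flat G.s] [Flat G.t] [Flat (Ω.ι ≫ sv G u)] : Flat (sv G (O.ι ≫ u)) := by
  have := flat_intoImage G u Ω O hO
  have := surjective_intoImage G u Ω O hO
  have : Flat ((Ω.ι ≫ pullback.fst G.t u) ≫ G.s) := by rw [Category.assoc]; infer_instance
  have := between_flat G (O.ι ≫ u) (Ω.ι ≫ pullback.fst G.t u) (intoImage G u Ω O hO) (intoImage_cond G u Ω O hO)
  have : Flat (pullback.snd (intoImage G u Ω O hO) (pullback.snd G.t (O.ι ≫ u)) ≫ sv G (O.ι ≫ u)) := by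
    rw [← between_s G _ _ _ (intoImage_cond G u Ω O hO)]; infer_instance
  exact Flat55.FlatDescend.flat_of_comp (pullback.snd (intoImage G u Ω O hO) (pullback.snd G.t (O.ι ≫ u))) _

/-- The map from `Ω` to the arrows into the image. -/
noncomputable def intoArrows : Ω.toScheme ⟶ pullback G.t (O.ι ≫ u) :=
  pullback.lift (Ω.ι ≫ pullback.fst G.t u) (intoImage G u Ω O hO) (intoImage_cond G u Ω O hO)

theorem isOpenImmersion_intoArrows : IsOpenImmersion (intoArrows G u Ω O hO) := by
  let v : pullback G.t (O.ι ≫ u) ⟶ pullback G.t u :=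
    pullback.map G.t (O.ι ≫ u) G.t u (𝟙 _) O.ι (𝟙 _) (by simp) (by simp)
  have hv : intoArrows G u Ω O hO ≫ v = Ω.ι := by
    apply pullback.hom_ext
    · simp [v, intoArrows, pullback.map, pullback.lift_fst]
    · simp [v, intoArrows, pullback.map, pullback.lift_snd, pullback.lift_snd_assoc, intoImage_ι]
  have : IsOpenImmersion (intoArrows G u Ω O hO ≫ v) := hv ▸ inferInstance
  exact IsOpenImmersion.of_comp _ v

include hO in
/-- If the source map is quasi-finite on `Ω` then its fibres on the arrows into the image have no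
specialisations. -/
theorem eq_of_specializes_of_image [LocallyQuasiFinite (Ω.ι ≫ sv G u)]
    (v' v : ↥(pullback G.t (O.ι ≫ u))) (hsp : v' ⤳ v) (hs : sv G (O.ι ≫ u) v' = sv G (O.ι ≫ u) v) : v' = v := by
  have := isOpenImmersion_intoArrows G u Ω O hO
  let q := pullback.snd G.t (O.ι ≫ u)
  let b := intoImage G u Ω O hO
  let a := Ω.ι ≫ pullback.fst G.t u
  let B := between G (O.ι ≫ u) a b (intoImage_cond G u Ω O hO)
  obtain ⟨w, hw⟩ := (surjective_intoImage G u Ω O hO).1 (q v)
  obtain ⟨z, -, hz⟩ := Scheme.Pullback.exists_preimage_pullback (f := b) (g := q) w v hw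
  -- inside the pairs of arrows
  let ψ : pullback b q ⟶ pullback q q := (pullbackSymmetry b q).hom ≫
    pullback.map q b q q (𝟙 _) (intoArrows G u Ω O hO) (𝟙 _) (by simp)
      (by rw [Category.comp_id]; exact (pullback.lift_snd _ _ _).symm)
  have hψ1 : ψ ≫ pullback.fst q q = pullback.snd b q := by
    simp [ψ, pullback.map, pullback.lift_fst]
  have hψ2 : ψ ≫ pullback.snd q q = pullback.fst b q ≫ intoArrows G u Ω O hO := by
    simp [ψ, pullback.map, pullback.lift_snd]
  let B' := between G (O.ι ≫ u) (pullback.fst G.t (O.ι ≫ u)) q pullback.condition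
  have hψB : ψ ≫ B' = B ≫ G.i := by
    simp only [B', B, between, comp_cmp, cmp_i]
    refine cmp_congr G ?_ ?_ _ _
    · rw [← Category.assoc, ← Category.assoc, hψ1]
    · rw [← Category.assoc, hψ2, Category.assoc, intoArrows, pullback.lift_fst, Category.assoc (pullback.fst b q ≫ a),
        i_i, Category.comp_id]
  obtain ⟨p, hp, hp1, hp2⟩ := exists_lift_generization (isPullback_between G (O.ι ≫ u) (pullback.fst G.t (O.ι ≫ u)) q
    pullback.condition) (ψ z) v' (by rw [← Scheme.Hom.comp_apply, hψ1, hz]; exact hsp)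
    (by rw [← Scheme.Hom.comp_apply ψ, hψ1, hz]; exact hs)
  obtain ⟨z', rfl⟩ : p ∈ Set.range ψ := hp.mem_open ψ.isOpenEmbedding.isOpen_range ⟨z, rfl⟩
  have hB : LocallyQuasiFinite B := MorphismProperty.of_isPullback (P := @LocallyQuasiFinite)
    (isPullback_between G (O.ι ≫ u) a b (intoImage_cond G u Ω O hO)) (by rw [Category.assoc]; infer_instance)
  have : LocallyQuasiFinite (B ≫ G.i) := by
    have : IsIso G.i := ⟨G.i, i_i G, i_i G⟩
    infer_instance
  have hzz : z' = z := by
    have hd := (B ≫ G.i).isDiscrete_preimage_singleton ((B ≫ G.i) z)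
    have := hd.to_subtype
    have h1 : (B ≫ G.i) z' = (B ≫ G.i) z := by
      rw [← hψB, Scheme.Hom.comp_apply, Scheme.Hom.comp_apply]; exact hp2
    exact congrArg Subtype.val (Specializes.eq (X := ↥((B ≫ G.i) ⁻¹' {(B ≫ G.i) z})) (x := ⟨z', h1⟩) (y := ⟨z, rfl⟩)
      ((subtype_specializes_iff _ _).2 (ψ.isEmbedding.isInducing.specializes_iff.1 hp)))
  rw [← hp1, hzz, ← Scheme.Hom.comp_apply, hψ1, hz]

end Spread

section Shift

omit a b hab

variable (j : T ⟶ G.R)

theorem shift_cond : (pullback.fst (sv G u) (j ≫ G.t) ≫ pullback.fst G.t u) ≫ G.s =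
    (pullback.snd (sv G u) (j ≫ G.t) ≫ j) ≫ G.t := by
  simp only [Category.assoc, pullback.condition]

/-- Composition with an arrow, on arrows into `U₁`. -/
noncomputable def shift : pullback (sv G u) (j ≫ G.t) ⟶ pullback G.t u :=
  pullback.lift (cmp G _ _ (shift_cond G u j)) (pullback.fst (sv G u) (j ≫ G.t) ≫ pullback.snd G.t u)
    (by rw [cmp_t, Category.assoc, Category.assoc, pullback.condition])

/-- Moving the source along arrows. -/
theorem isPullback_shift :
    IsPullback (shift G u j) (pullback.snd (sv G u) (j ≫ G.t)) (sv G u) (j ≫ G.s) := by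
  have hw : shift G u j ≫ sv G u = pullback.snd (sv G u) (j ≫ G.t) ≫ j ≫ G.s := by
    rw [shift, pullback.lift_fst_assoc, cmp_s, Category.assoc]
  have hc : ∀ c : PullbackCone (sv G u) (j ≫ G.s), (c.fst ≫ pullback.fst G.t u) ≫ G.s = ((c.snd ≫ j) ≫ G.i) ≫ G.t :=
    fun c => by simp only [Category.assoc, c.condition, G.i_t]
  have hk : ∀ c : PullbackCone (sv G u) (j ≫ G.s),
      cmp G (c.fst ≫ pullback.fst G.t u) ((c.snd ≫ j) ≫ G.i) (hc c) ≫ G.t = (c.fst ≫ pullback.snd G.t u) ≫ u :=
    fun c => by rw [cmp_t, Category.assoc, pullback.condition, Category.assoc]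
  refine ⟨⟨hw⟩, ⟨PullbackCone.IsLimit.mk hw
    (fun c => pullback.lift (pullback.lift (cmp G _ _ (hc c)) (c.fst ≫ pullback.snd G.t u) (hk c)) c.snd
      (by rw [pullback.lift_fst_assoc, cmp_s, Category.assoc, G.i_s, Category.assoc]))
    (fun c => ?_) (fun c => pullback.lift_snd _ _ _) (fun c m h1 h2 => ?_)⟩⟩
  · apply pullback.hom_ext
    · rw [Category.assoc, shift, pullback.lift_fst, comp_cmp]
      refine (cmp_congr G ?_ ?_ _ _).trans
        (cmp_inv_cancel_right G (c.fst ≫ pullback.fst G.t u) (c.snd ≫ j) (by simp only [Category.assoc, c.condition]))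
      · rw [pullback.lift_fst_assoc, pullback.lift_fst]
      · rw [pullback.lift_snd_assoc]
    · rw [Category.assoc, shift, pullback.lift_snd, pullback.lift_fst_assoc, pullback.lift_snd]
  · apply pullback.hom_ext
    · rw [pullback.lift_fst]
      apply pullback.hom_ext
      · rw [pullback.lift_fst]
        have e : (m ≫ shift G u j) ≫ pullback.fst G.t u = c.fst ≫ pullback.fst G.t u := by rw [h1]
        rw [Category.assoc, shift, pullback.lift_fst, comp_cmp] at e
        have k : (m ≫ pullback.fst (sv G u) (j ≫ G.t) ≫ pullback.fst G.t u) ≫ G.s =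
            (m ≫ pullback.snd (sv G u) (j ≫ G.t) ≫ j) ≫ G.t := by simp only [Category.assoc, pullback.condition]
        refine Eq.trans (Eq.trans (Category.assoc _ _ _) (cmp_cancel_right G _ _ k).symm) (cmp_congr G e ?_ _ (hc c))
        rw [← h2]; simp only [Category.assoc]
      · rw [pullback.lift_snd, ← h1, Category.assoc, Category.assoc, shift, pullback.lift_snd]
    · rw [pullback.lift_snd, h2]

end Shift

end Groth.Agent.Lib.GrpdGen
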