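import Groth.Agent.Lib.Flat55.Slicing
import Mathlib.RingTheory.Jacobson.Ring
import Mathlib.RingTheory.Spectrum.Prime.RingHom
import Mathlib.RingTheory.LocalRing.ResidueField.Fiber
import Mathlib.RingTheory.Ideal.AssociatedPrime.Localization
import Mathlib.RingTheory.Ideal.AssociatedPrime.Finiteness

/-!
An element of the ring of a slice cutting down the dimension of a fibre and keeping flatness.
-/

set_option autoImplicit false

universe u

namespace Groth.Agent.Lib.GrpdGen

/-- A non maximal prime in a fibre lies in a closed point of the fibre outside a given finite set. -/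
theorem exists_maximal_over {A B : Type u} [CommRing A] [CommRing B] [Algebra A B] [Algebra.FiniteType A B]
    (p : Ideal A) [p.IsPrime] (Q Q' : Ideal B) [Q.IsPrime] [Q'.IsPrime] (hQ : Q.comap (algebraMap A B) = p)
    (hQ' : Q'.comap (algebraMap A B) = p) (hlt : Q < Q') {s : Set (Ideal B)} (hs : s.Finite) :
    ∃ P : Ideal B, P.IsPrime ∧ P.comap (algebraMap A B) = p ∧ Q < P ∧ P ∉ s := by
  classical
  let e := PrimeSpectrum.primesOverOrderIsoFiber A B p
  let q := e ⟨Q, inferInstance, ⟨hQ.symm⟩⟩
  let q' := e ⟨Q', inferInstance, ⟨hQ'.symm⟩⟩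
  have hqq : q < q' := e.lt_iff_lt.2 hlt
  have : IsJacobsonRing (p.Fiber B) := isJacobsonRing_of_finiteType (A := p.ResidueField)
  have hinf : {M : Ideal (p.Fiber B) | q.asIdeal ≤ M ∧ M.IsMaximal}.Infinite := by
    intro hfin
    have hJ : q.asIdeal.jacobson = q.asIdeal := isJacobsonRing_iff_prime_eq.1 ‹_› _ q.isPrime
    have hle : (hfin.toFinset.inf id) ≤ q.asIdeal := by
      conv_rhs => rw [← hJ]
      exact le_sInf fun M hM => Finset.inf_le (hfin.mem_toFinset.2 hM)
    obtain ⟨M, hM, hMq⟩ := q.isPrime.inf_le'.1 hle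
    obtain ⟨hqM, hMax⟩ := hfin.mem_toFinset.1 hM
    have : q.asIdeal.IsMaximal := le_antisymm hqM hMq ▸ hMax
    exact absurd (this.eq_of_le q'.isPrime.ne_top hqq.le) (fun h => hqq.ne (PrimeSpectrum.ext h))
  let pull : Ideal (p.Fiber B) → Ideal B := fun M =>
    if h : M.IsPrime then (e.symm ⟨M, h⟩).1 else ⊤
  have hinj : Set.InjOn pull {M : Ideal (p.Fiber B) | q.asIdeal ≤ M ∧ M.IsMaximal} := by
    intro M hM M' hM' h
    simp only [pull, dif_pos hM.2.isPrime, dif_pos hM'.2.isPrime] at h
    exact congrArg PrimeSpectrum.asIdeal (e.symm.injective (Subtype.ext h))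
  obtain ⟨_, ⟨M, ⟨hqM, hMax⟩, rfl⟩, hMs⟩ := ((hinf.image hinj).sdiff (hs.union (Set.finite_singleton Q))).nonempty
  have hM := hMax.isPrime
  simp only [pull, dif_pos hM, Set.mem_union, Set.mem_singleton_iff, not_or] at hMs
  let P := e.symm ⟨M, hM⟩
  have hle : Q ≤ P.1 := by
    have h : q ≤ (⟨M, hM⟩ : PrimeSpectrum (p.Fiber B)) := hqM
    have := e.symm.le_iff_le.2 h
    rwa [show e.symm q = ⟨Q, inferInstance, ⟨hQ.symm⟩⟩ from e.symm_apply_apply _] at this
  exact ⟨P.1, P.2.1, P.2.2.over.symm, lt_of_le_of_ne hle (Ne.symm hMs.2), hMs.1⟩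

/-- A module element killed by an element outside the associated primes below `P` is killed outside `P`. -/
theorem exists_notMem_smul_eq_zero {B N : Type u} [CommRing B] [IsNoetherianRing B] [AddCommGroup N] [Module B N]
    [Module.Finite B N] (P : Ideal B) [P.IsPrime] (g : B)
    (hg : ∀ q ∈ associatedPrimes B N, q ≤ P → g ∉ q) (n : N) (v : B) (hv : v ∉ P) (h : (v * g) • n = 0) :
    ∃ w ∉ P, w • n = 0 := by
  by_contra hcon
  push Not at hcon
  have hI : (Module.annihilator B ↥(B ∙ n)) ≤ P := fun w hw => by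
    by_contra hwP
    exact hcon w hwP (congrArg Subtype.val
      (Module.mem_annihilator.1 hw ⟨n, Submodule.mem_span_singleton_self n⟩))
  obtain ⟨q, hq, hqP⟩ := Ideal.exists_minimalPrimes_le hI
  have hqN : q ∈ associatedPrimes B N :=
    IsAssociatedPrime.map_of_injective (B ∙ n).subtype
      (Module.associatedPrimes.minimalPrimes_annihilator_subset_associatedPrimes B ↥(B ∙ n) hq)
      (B ∙ n).injective_subtype
  have hmem : v * g ∈ q := hq.1.2 (Module.mem_annihilator.2 fun x => Subtype.ext (by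
    obtain ⟨c, hc⟩ := Submodule.mem_span_singleton.1 x.2
    change (v * g) • (x : N) = 0
    rw [← hc, smul_comm, h, smul_zero]))
  rcases hq.1.1.mem_or_mem hmem with h' | h'
  · exact hv (hqP h')
  · exact hg q hqN hqP h'

/-- Cutting a flat family: some element of `C` vanishes at a point of the fibre over `p`, not at `Q`, and the
slice is flat near that point. -/
theorem exists_cut {A B C : Type u} [CommRing A] [CommRing B] [CommRing C] [IsNoetherianRing A] [Algebra A B]
    [Algebra.FiniteType A B] [Module.Flat A B] (φ : C →+* B) (p : Ideal A) [p.IsPrime] (Q Q' : Ideal B)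
    [Q.IsPrime] [Q'.IsPrime] (hQ : Q.comap (algebraMap A B) = p) (hQ' : Q'.comap (algebraMap A B) = p) (hlt : Q < Q')
    (hinc : ∀ q q' : Ideal B, q.IsPrime → q'.IsPrime → q.comap (algebraMap A B) = p →
      q'.comap (algebraMap A B) = p → q < q' → q.comap φ ≠ q'.comap φ) :
    ∃ (g : C) (a : B) (P : Ideal B), P.IsPrime ∧ P.comap (algebraMap A B) = p ∧ g ∉ Q.comap φ ∧ φ g ∈ P ∧ a ∉ P ∧
      ((Ideal.Quotient.mk (Ideal.span {algebraMap B (Localization.Away a) (φ g)})).comp
        ((algebraMap B (Localization.Away a)).comp (algebraMap A B))).Flat := by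
  classical
  have : IsNoetherianRing B := Algebra.FiniteType.isNoetherianRing A B
  have : Algebra.FinitePresentation A B := Algebra.FinitePresentation.of_finiteType.1 ‹_›
  let J := p.map (algebraMap A B)
  have hfin := associatedPrimes.finite B (B ⧸ J)
  obtain ⟨P, hP, hPp, hQP, hPass⟩ := exists_maximal_over p Q Q' hQ hQ' hlt hfin
  let bad : Finset (Ideal B) := insert Q (hfin.toFinset.filter fun q => q ≤ P)
  have hbad : ∀ q ∈ bad, q.IsPrime ∧ q.comap (algebraMap A B) = p ∧ q < P := by
    intro q hq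
    rcases Finset.mem_insert.1 hq with rfl | hq
    · exact ⟨inferInstance, hQ, hQP⟩
    · obtain ⟨hqa, hqP⟩ := Finset.mem_filter.1 hq
      rw [Set.Finite.mem_toFinset] at hqa
      refine ⟨hqa.isPrime, le_antisymm (hPp ▸ Ideal.comap_mono hqP) ?_, lt_of_le_of_ne hqP fun h => hPass (h ▸ hqa)⟩
      refine le_trans Ideal.le_comap_map (Ideal.comap_mono ?_)
      have := IsAssociatedPrime.annihilator_le hqa
      rwa [Submodule.annihilator_top, Ideal.annihilator_quotient] at this
  obtain ⟨g, hgP, hgbad⟩ : ∃ g : C, g ∈ P.comap φ ∧ ∀ q ∈ bad, g ∉ q.comap φ := by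
    by_contra hcon
    push Not at hcon
    have hsub : ((P.comap φ : Ideal C) : Set C) ⊆ ⋃ q ∈ (bad : Set (Ideal B)), (q.comap φ : Set C) := fun g hg => by
      obtain ⟨q, hq, hgq⟩ := hcon g hg
      exact Set.mem_biUnion hq hgq
    obtain ⟨q, hq, hle⟩ := (Ideal.subset_union_prime (f := fun q : Ideal B => q.comap φ) Q Q
      (fun q hq _ _ => by have := (hbad q hq).1; exact Ideal.IsPrime.comap φ)).1 hsub
    obtain ⟨hq1, hq2, hq3⟩ := hbad q hq
    exact hinc q P hq1 hP hq2 hPp hq3 (le_antisymm (Ideal.comap_mono hq3.le) hle)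
  have hPl : P.LiesOver p := ⟨hPp.symm⟩
  let _ := Localization.AtPrime.algebraOfLiesOver p P
  have : Module.Flat (Localization.AtPrime p) (Localization.AtPrime P) := by
    have : Module.Flat A (Localization.AtPrime P) := Module.Flat.trans A B _
    exact (Module.flat_iff_of_isLocalization (R := A) (Localization.AtPrime p) p.primeCompl _).2 this
  have : IsScalarTower A (Localization.AtPrime p) (Localization.AtPrime P) := inferInstance
  have hreg : Ideal.Quotient.mk ((IsLocalRing.maximalIdeal (Localization.AtPrime p)).map (algebraMap _ (Localization.AtPrime P)))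
      (algebraMap B (Localization.AtPrime P) (φ g)) ∈ nonZeroDivisors _ := by
    -- regularity on the fibre
    have hJ : (IsLocalRing.maximalIdeal (Localization.AtPrime p)).map
        (algebraMap (Localization.AtPrime p) (Localization.AtPrime P)) = J.map (algebraMap B (Localization.AtPrime P)) := by
      rw [← IsLocalization.AtPrime.map_eq_maximalIdeal p, Ideal.map_map, Ideal.map_map,
        ← IsScalarTower.algebraMap_eq, ← IsScalarTower.algebraMap_eq]
    rw [mem_nonZeroDivisors_iff_right]
    intro c hc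
    obtain ⟨c, rfl⟩ := Ideal.Quotient.mk_surjective c
    rw [← map_mul, Ideal.Quotient.eq_zero_iff_mem, hJ] at hc
    rw [Ideal.Quotient.eq_zero_iff_mem, hJ]
    obtain ⟨b, s, rfl⟩ := IsLocalization.exists_mk'_eq P.primeCompl c
    rw [mul_comm, IsLocalization.mul_mk'_eq_mk'_of_mul] at hc
    rw [IsLocalization.mk'_mem_map_algebraMap_iff] at hc ⊢
    obtain ⟨v, hv, hvb⟩ := hc
    obtain ⟨w, hw, hwb⟩ := exists_notMem_smul_eq_zero (N := B ⧸ J) P (φ g)
      (fun q hq hqP => hgbad q (Finset.mem_insert_of_mem (Finset.mem_filter.2 ⟨hfin.mem_toFinset.2 hq, hqP⟩)))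
      (Ideal.Quotient.mk J b) v hv (by
        rw [Algebra.smul_def, Ideal.Quotient.algebraMap_eq, ← map_mul, Ideal.Quotient.eq_zero_iff_mem]
        rw [mul_assoc]; exact hvb)
    refine ⟨w, hw, ?_⟩
    rw [Algebra.smul_def, Ideal.Quotient.algebraMap_eq, ← map_mul, Ideal.Quotient.eq_zero_iff_mem] at hwb
    exact hwb
  obtain ⟨a, ha, hflat⟩ := Flat55.Slicing.exists_slice (R' := Localization.AtPrime p)
    (C' := Localization.AtPrime P) p P (fun r => by
      rw [← IsScalarTower.algebraMap_apply, ← IsScalarTower.algebraMap_apply]) (φ g) hgP hreg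
  exact ⟨g, a, P, hP, hPp, hgbad Q (Finset.mem_insert_self _ _), hgP, ha, (hflat (Localization.Away a)).2⟩

end Groth.Agent.Lib.GrpdGen
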