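import Groth.Agent.Lib.GrpdGen.Saturated
import Mathlib.AlgebraicGeometry.Limits

/-!
A dense saturated open with an affine quasi-section.
-/

set_option autoImplicit false

universe u

open CategoryTheory CategoryTheory.Limits AlgebraicGeometry
open Groth.Agent.H63.GrpdBasic

namespace Groth.Agent.Lib.GrpdGen

variable {S : Scheme.{u}} (G : Grpd.GroupoidScheme S)

/-- The range of the base change along an open immersion of sources. -/
theorem range_mapSnd {U₁ U'' : Scheme.{u}} (k : U₁ ⟶ U'') (d : U'' ⟶ G.U) {u₁ : U₁ ⟶ G.U} (h : k ≫ d = u₁) :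
    Set.range (pullback.map G.t u₁ G.t d (𝟙 _) k (𝟙 _) (by simp) (by simp [h])) =
      pullback.snd G.t d ⁻¹' Set.range k := by
  rw [Scheme.Pullback.range_map]
  ext x
  simp

/-- One side of a disjoint union. -/
theorem isPullback_side {W W₂ : G.U.Opens} (hW : G.t ⁻¹ᵁ W = G.s ⁻¹ᵁ W) (hle : W ≤ W₂) {U₁ U'' : Scheme.{u}}
    (k : U₁ ⟶ U'') [IsOpenImmersion k] (d : U'' ⟶ G.U) (u₁ : U₁ ⟶ G.U) (hk : k ≫ d = u₁)
    (hrange : Set.range k = d ⁻¹' (W : Set G.U)) (lw : pullback G.t u₁ ⟶ W) (hlw : lw ≫ W.ι = sv G u₁)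
    (lw₂ : pullback G.t d ⟶ W₂) (hlw₂ : lw₂ ≫ W₂.ι = sv G d) :
    IsPullback (pullback.map G.t u₁ G.t d (𝟙 _) k (𝟙 _) (by simp) (by simp [hk])) lw lw₂ (G.U.homOfLE hle) := by
  refine isPullback_of_range _ lw lw₂ _ ?_ ?_
  · rw [← cancel_mono W₂.ι, Category.assoc, Category.assoc, hlw₂, Scheme.homOfLE_ι, hlw]
    simp [pullback.map, pullback.lift_fst_assoc]
  · rw [range_mapSnd G k d hk, hrange]
    ext v
    have e : W₂.ι (lw₂ v) = sv G d v := by rw [← Scheme.Hom.comp_apply, hlw₂]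
    constructor
    · intro hv
      refine ⟨⟨_, (sv_mem_iff G d hW v).2 hv⟩, W₂.ι.isOpenEmbedding.injective ?_⟩
      rw [← Scheme.Hom.comp_apply, Scheme.homOfLE_ι, e]
      rfl
    · rintro ⟨w, hw⟩
      refine (sv_mem_iff G d hW v).1 ?_
      rw [← e, ← hw, ← Scheme.Hom.comp_apply, Scheme.homOfLE_ι]
      exact w.2

/-- Quasi-sections over disjoint saturated opens combine. -/
theorem Qs.union {W W' : G.U.Opens} {U₁ U₂ : Scheme.{u}} {u₁ : U₁ ⟶ G.U} {u₂ : U₂ ⟶ G.U} [IsImmersion u₁]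
    [IsImmersion u₂] (H₁ : Qs G W u₁) (H₂ : Qs G W' u₂) (hd : Disjoint (W : Set G.U) (W' : Set G.U)) :
    IsImmersion (coprod.desc u₁ u₂) ∧ Qs G (W ⊔ W') (coprod.desc u₁ u₂) := by
  let d := coprod.desc u₁ u₂
  have hl : coprod.inl ≫ d = u₁ := coprod.inl_desc _ _
  have hr : coprod.inr ≫ d = u₂ := coprod.inr_desc _ _
  have hcov : ∀ x : ↥(U₁ ⨿ U₂), x ∈ Set.range (coprod.inl : U₁ ⟶ U₁ ⨿ U₂) ∨
      x ∈ Set.range (coprod.inr : U₂ ⟶ U₁ ⨿ U₂) := fun x => by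
    obtain ⟨i, y, hy⟩ := (coprodOpenCover.{u, 0} U₁ U₂).exists_eq x
    rcases i with _ | _
    · exact Or.inl ⟨y, hy⟩
    · exact Or.inr ⟨y, hy⟩
  have h₁ : ∀ a, d (coprod.inl (C := Scheme.{u}) a) ∈ W := fun a => by
    rw [← Scheme.Hom.comp_apply, hl]; exact H₁.range_le ⟨a, rfl⟩
  have h₂ : ∀ a, d (coprod.inr (C := Scheme.{u}) a) ∈ W' := fun a => by
    rw [← Scheme.Hom.comp_apply, hr]; exact H₂.range_le ⟨a, rfl⟩
  have hrl : Set.range (coprod.inl : U₁ ⟶ U₁ ⨿ U₂) = d ⁻¹' (W : Set G.U) := by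
    refine Set.Subset.antisymm (by rintro _ ⟨a, rfl⟩; exact h₁ a) fun x hx => (hcov x).resolve_right ?_
    rintro ⟨a, rfl⟩
    exact Set.disjoint_left.1 hd hx (h₂ a)
  have hrr : Set.range (coprod.inr : U₂ ⟶ U₁ ⨿ U₂) = d ⁻¹' (W' : Set G.U) := by
    refine Set.Subset.antisymm (by rintro _ ⟨a, rfl⟩; exact h₂ a) fun x hx => (hcov x).resolve_left ?_
    rintro ⟨a, rfl⟩
    exact Set.disjoint_left.1 hd (h₁ a) hx
  have hrange : Set.range d ⊆ (W ⊔ W' : G.U.Opens) := by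
    rintro _ ⟨x, rfl⟩
    rcases hcov x with ⟨a, rfl⟩ | ⟨a, rfl⟩
    · exact Or.inl (h₁ a)
    · exact Or.inr (h₂ a)
  have hsat : G.t ⁻¹ᵁ (W ⊔ W') = G.s ⁻¹ᵁ (W ⊔ W') := by
    rw [Scheme.Hom.preimage_sup, Scheme.Hom.preimage_sup, H₁.sat, H₂.sat]
  let 𝒰 : (W ⊔ W').toScheme.OpenCover := Scheme.Cover.mkOfCovers Bool
    (fun b => (bif b then W else W').toScheme) (fun b => G.U.homOfLE (by cases b <;> simp))
    (fun x => by
      rcases x.2 with h | h
      · exact ⟨true, ⟨x.1, h⟩, (W ⊔ W').ι.isOpenEmbedding.injective (by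
          rw [← Scheme.Hom.comp_apply, Scheme.homOfLE_ι]; rfl)⟩
      · exact ⟨false, ⟨x.1, h⟩, (W ⊔ W').ι.isOpenEmbedding.injective (by
          rw [← Scheme.Hom.comp_apply, Scheme.homOfLE_ι]; rfl)⟩)
  -- the immersion
  let a : U₁ ⨿ U₂ ⟶ (W ⊔ W').toScheme := IsOpenImmersion.lift (W ⊔ W').ι d (by
    rw [Scheme.Opens.range_ι]; exact hrange)
  have ha : a ≫ (W ⊔ W').ι = d := IsOpenImmersion.lift_fac _ _ _
  have imm : ∀ {A : Scheme.{u}} (k : A ⟶ U₁ ⨿ U₂) [IsOpenImmersion k] (V : G.U.Opens) (hV : V ≤ W ⊔ W')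
      (u : A ⟶ G.U) [IsImmersion u] (_ : k ≫ d = u) (_ : Set.range k = d ⁻¹' (V : Set G.U)),
      IsImmersion (pullback.snd a (G.U.homOfLE hV)) := by
    intro A k _ V hV u _ hku hk
    have hru : Set.range u ⊆ Set.range V.ι := by
      rw [Scheme.Opens.range_ι, ← hku]
      rintro _ ⟨x, rfl⟩
      rw [Scheme.Hom.comp_apply]
      exact hk.le ⟨x, rfl⟩
    let g := IsOpenImmersion.lift V.ι u hru
    have hg : g ≫ V.ι = u := IsOpenImmersion.lift_fac _ _ _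
    have : IsImmersion g := by
      have : IsImmersion (g ≫ V.ι) := hg ▸ ‹_›
      exact IsImmersion.of_comp g V.ι
    have sq : IsPullback k g a (G.U.homOfLE hV) := by
      refine isPullback_of_range k g a _ ?_ ?_
      · rw [← cancel_mono (W ⊔ W').ι, Category.assoc, Category.assoc, ha, Scheme.homOfLE_ι, hg, hku]
      · rw [hk]
        ext x
        have e : (W ⊔ W').ι (a x) = d x := by rw [← Scheme.Hom.comp_apply, ha]
        constructor
        · intro hx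
          refine ⟨⟨_, hx⟩, (W ⊔ W').ι.isOpenEmbedding.injective ?_⟩
          rw [← Scheme.Hom.comp_apply, Scheme.homOfLE_ι, e]
          rfl
        · rintro ⟨w, hw⟩
          change d x ∈ V
          rw [← e, ← hw, ← Scheme.Hom.comp_apply, Scheme.homOfLE_ι]
          exact w.2
    rw [← (MorphismProperty.cancel_left_of_respectsIso @IsImmersion sq.isoPullback.hom _), sq.isoPullback_hom_snd]
    infer_instance
  have : IsImmersion a := IsZariskiLocalAtTarget.of_openCover 𝒰 fun b => by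
    cases b
    · exact imm coprod.inr W' le_sup_right u₂ hr hrr
    · exact imm coprod.inl W le_sup_left u₁ hl hrl
  have himm : IsImmersion d := by rw [← ha]; infer_instance
  obtain ⟨lw₁, hlw₁, f₁, g₁, p₁, s₁⟩ := H₁.exists_lift
  obtain ⟨lw₂, hlw₂, f₂, g₂, p₂, s₂⟩ := H₂.exists_lift
  have hsv : Set.range (sv G d) ⊆ Set.range (W ⊔ W').ι := by
    rintro _ ⟨v, rfl⟩
    rw [Scheme.Opens.range_ι]
    exact (sv_mem_iff G d hsat v).2 (hrange ⟨_, rfl⟩)
  let lw : pullback G.t d ⟶ (W ⊔ W').toScheme := IsOpenImmersion.lift (W ⊔ W').ι (sv G d) hsv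
  have hlw : lw ≫ (W ⊔ W').ι = sv G d := IsOpenImmersion.lift_fac _ _ _
  have sq₁ := isPullback_side G H₁.sat (le_sup_left : W ≤ W ⊔ W') coprod.inl d u₁ hl hrl lw₁ hlw₁ lw hlw
  have sq₂ := isPullback_side G H₂.sat (le_sup_right : W' ≤ W ⊔ W') coprod.inr d u₂ hr hrr lw₂ hlw₂ lw hlw
  have key : ∀ (P : MorphismProperty Scheme.{u}) [IsZariskiLocalAtTarget P], P lw₁ → P lw₂ → P lw := by
    intro P _ k₁ k₂
    refine IsZariskiLocalAtTarget.of_openCover 𝒰 fun b => ?_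
    cases b
    · change P (pullback.snd lw (G.U.homOfLE (le_sup_right : W' ≤ W ⊔ W')))
      rw [← (P.cancel_left_of_respectsIso sq₂.isoPullback.hom _), sq₂.isoPullback_hom_snd]
      exact k₂
    · change P (pullback.snd lw (G.U.homOfLE (le_sup_left : W ≤ W ⊔ W')))
      rw [← (P.cancel_left_of_respectsIso sq₁.isoPullback.hom _), sq₁.isoPullback_hom_snd]
      exact k₁
  exact ⟨himm, hsat, hrange, lw, hlw, key @IsFinite f₁ f₂, key @Flat g₁ g₂,
    key @LocallyOfFinitePresentation p₁ p₂, key @Surjective s₁ s₂⟩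

/-- A dense saturated open with an affine quasi-section. -/
theorem exists_qs_dense [Flat G.s] [Flat G.t] [LocallyOfFinitePresentation G.s] [LocallyOfFinitePresentation G.t]
    [AlgebraicGeometry.IsNoetherian G.U] [LocallyQuasiFinite G.j] [LocallyOfFiniteType G.j]
    [LocallyOfFiniteType G.pU] [QuasiCompact G.s] :
    ∃ (W : G.U.Opens) (U' : Scheme.{u}) (u : U' ⟶ G.U) (_ : IsImmersion u),
      IsAffine U' ∧ Dense (W : Set G.U) ∧ Qs G W u := by
  let P : G.U.Opens → Prop := fun W => ∃ (U' : Scheme.{u}) (u : U' ⟶ G.U) (_ : IsImmersion u),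
    IsAffine U' ∧ Qs G W u
  have H₀ : Qs G ⊥ (⊥ : G.U.Opens).ι := by
    have : IsEmpty (⊥ : G.U.Opens).toScheme := ⟨fun x => x.2⟩
    have : IsEmpty ↥(pullback G.t (⊥ : G.U.Opens).ι) :=
      Function.isEmpty (pullback.snd G.t (⊥ : G.U.Opens).ι)
    let lw : pullback G.t (⊥ : G.U.Opens).ι ⟶ (⊥ : G.U.Opens).toScheme := pullback.snd _ _
    have hlw : lw ≫ (⊥ : G.U.Opens).ι = sv G (⊥ : G.U.Opens).ι :=
      isInitialOfIsEmpty.hom_ext _ _
    exact ⟨TopologicalSpace.Opens.ext rfl, by rintro _ ⟨x, rfl⟩; exact x.2, lw, hlw,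
      inferInstance, inferInstance, inferInstance, inferInstance⟩
  have : IsEmpty (⊥ : G.U.Opens).toScheme := ⟨fun x => x.2⟩
  obtain ⟨W, ⟨U', u, _, _, H⟩, hmax⟩ :=
    (wellFounded_gt (α := G.U.Opens)).has_min {W | P W} ⟨⊥, _, _, inferInstance, inferInstance, H₀⟩
  refine ⟨W, U', u, ‹_›, ‹_›, ?_, H⟩
  by_contra hW
  let O : G.U.Opens := ⟨(closure (W : Set G.U))ᶜ, isClosed_closure.isOpen_compl⟩
  have hO : (O : Set G.U).Nonempty := Set.nonempty_compl.2 fun h => hW (dense_iff_closure_eq.2 h)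
  have hsat : G.t ⁻¹ᵁ O = G.s ⁻¹ᵁ O := by
    refine TopologicalSpace.Opens.ext ?_
    change G.t ⁻¹' (closure (W : Set G.U))ᶜ = G.s ⁻¹' (closure (W : Set G.U))ᶜ
    rw [Set.preimage_compl, Set.preimage_compl, G.t.isOpenMap.preimage_closure_eq_closure_preimage G.t.continuous,
      G.s.isOpenMap.preimage_closure_eq_closure_preimage G.s.continuous]
    exact congrArg (fun V : G.R.Opens => (closure (V : Set G.R))ᶜ) H.sat
  obtain ⟨W₁, U₁, u₁, _, _, ⟨x, hx, hxO⟩, hWO, H₁⟩ := exists_qs_affine G O hO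
  have hd : Disjoint (W : Set G.U) (W₁ : Set G.U) :=
    Set.disjoint_left.2 fun y hy hy₁ => (hWO hsat hy₁) (subset_closure hy)
  obtain ⟨hi, H'⟩ := H.union G H₁ hd
  refine hmax (W ⊔ W₁) ⟨U' ⨿ U₁, coprod.desc u u₁, hi, inferInstance, H'⟩ (lt_of_le_of_ne le_sup_left fun e => hxO ?_)
  exact subset_closure (e ▸ (Or.inr hx : x ∈ W ⊔ W₁))

end Groth.Agent.Lib.GrpdGen
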