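import Mathlib.AlgebraicGeometry.Morphisms.Integral
import Mathlib.AlgebraicGeometry.Morphisms.FiniteType
import Mathlib.AlgebraicGeometry.Noetherian
import Mathlib.RingTheory.Adjoin.Tower

/-!
Finite type descends along integral injective morphisms of affine schemes over a Noetherian base.
-/

set_option autoImplicit false

universe u

open CategoryTheory CategoryTheory.Limits AlgebraicGeometry

namespace Groth.Agent.Lib.GrpdGen

/-- Injectivity of global sections passes to basic opens. -/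
theorem injective_app_basicOpen {X Y : Scheme.{u}} [IsAffine X] [IsAffine Y] (f : X ⟶ Y)
    (hinj : Function.Injective f.appTop) (a : Γ(Y, ⊤)) : Function.Injective (f.app (Y.basicOpen a)) := by
  rw [injective_iff_map_eq_zero]
  intro z hz
  have := (isAffineOpen_top Y).isLocalization_basicOpen a
  obtain ⟨b, ⟨c, n, rfl⟩, rfl⟩ := IsLocalization.exists_mk'_eq (Submonoid.powers a) z
  refine (IsLocalization.mk'_eq_zero_iff b _).2 ?_
  -- the numerator dies on the preimage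
  have hb : f.app (Y.basicOpen a) (algebraMap Γ(Y, ⊤) Γ(Y, Y.basicOpen a) b) = 0 := by
    rw [← IsLocalization.mk'_spec (Γ(Y, Y.basicOpen a)) b (⟨a ^ n, n, rfl⟩ : Submonoid.powers a), map_mul, hz,
      zero_mul]
  have hb' : X.presheaf.map (homOfLE (le_top : f ⁻¹ᵁ Y.basicOpen a ≤ ⊤)).op (f.appTop b) = 0 := by
    rw [← hb]
    exact (congr($(f.naturality (homOfLE (le_top : Y.basicOpen a ≤ ⊤)).op) b)).symm
  have := (isAffineOpen_top X).isLocalization_of_eq_basicOpen (f.appTop a)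
    (homOfLE (le_top : f ⁻¹ᵁ Y.basicOpen a ≤ ⊤)) (Scheme.preimage_basicOpen_top f a)
  let _ : Algebra Γ(X, ⊤) Γ(X, f ⁻¹ᵁ Y.basicOpen a) :=
    (X.presheaf.map (homOfLE (le_top : f ⁻¹ᵁ Y.basicOpen a ≤ ⊤)).op).hom.toAlgebra
  obtain ⟨⟨_, m, rfl⟩, hm⟩ := (IsLocalization.map_eq_zero_iff (Submonoid.powers (f.appTop a)) _ _).1 hb'
  refine ⟨⟨a ^ m, m, rfl⟩, hinj ?_⟩
  rw [map_zero, map_mul, map_pow]
  exact hm

/-- Artin–Tate: `q` is locally of finite type. -/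
theorem locallyOfFiniteType_of_integral {X Y S : Scheme.{u}} [IsAffine X] [IsAffine Y] [IsLocallyNoetherian S]
    (f : X ⟶ Y) [IsIntegralHom f] (q : Y ⟶ S) [LocallyOfFiniteType (f ≫ q)]
    (hinj : Function.Injective f.appTop) : LocallyOfFiniteType q := by
  rw [HasRingHomProperty.iff_exists_appLE (P := @LocallyOfFiniteType)
    (RingHom.finiteType_stableUnderComposition.stableUnderCompositionWithLocalizationAway
      RingHom.finiteType_holdsForLocalizationAway).1]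
  intro y
  obtain ⟨S₀, hS₀, hyS₀, -⟩ := exists_isAffineOpen_mem_and_subset (X := S) (x := q y) (U := ⊤) trivial
  obtain ⟨a, ha, hya⟩ := (isAffineOpen_top Y).exists_basicOpen_le (V := q ⁻¹ᵁ S₀) ⟨y, hyS₀⟩ trivial
  let D := Y.basicOpen a
  have hD : IsAffineOpen D := (isAffineOpen_top Y).basicOpen a
  refine ⟨⟨S₀, hS₀⟩, ⟨D, hD⟩, hya, ha, ?_⟩
  let _ : Algebra Γ(S, S₀) Γ(Y, D) := (q.appLE S₀ D ha).hom.toAlgebra
  let _ : Algebra Γ(Y, D) Γ(X, f ⁻¹ᵁ D) := (f.app D).hom.toAlgebra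
  let _ : Algebra Γ(S, S₀) Γ(X, f ⁻¹ᵁ D) := ((f ≫ q).appLE S₀ (f ⁻¹ᵁ D) (fun x hx => ha hx)).hom.toAlgebra
  have : IsScalarTower Γ(S, S₀) Γ(Y, D) Γ(X, f ⁻¹ᵁ D) := IsScalarTower.of_algebraMap_eq fun r => by
    change ((f ≫ q).appLE S₀ (f ⁻¹ᵁ D) _) r = f.app D (q.appLE S₀ D ha r)
    rw [← CommRingCat.comp_apply, Scheme.Hom.app_eq_appLE, Scheme.Hom.appLE_comp_appLE]
  have : IsNoetherianRing Γ(S, S₀) := IsLocallyNoetherian.component_noetherian ⟨S₀, hS₀⟩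
  have h1 : Algebra.FiniteType Γ(S, S₀) Γ(X, f ⁻¹ᵁ D) :=
    HasRingHomProperty.appLE @LocallyOfFiniteType (f ≫ q) inferInstance ⟨S₀, hS₀⟩ ⟨f ⁻¹ᵁ D, hD.preimage f⟩ _
  have : Algebra.IsIntegral Γ(Y, D) Γ(X, f ⁻¹ᵁ D) := ⟨f.isIntegral_app D hD⟩
  have : Algebra.FiniteType Γ(Y, D) Γ(X, f ⁻¹ᵁ D) := Algebra.FiniteType.of_restrictScalars_finiteType Γ(S, S₀) _ _
  have : Module.Finite Γ(Y, D) Γ(X, f ⁻¹ᵁ D) := Algebra.IsIntegral.finite
  change Algebra.FiniteType Γ(S, S₀) Γ(Y, D)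
  exact ⟨fg_of_fg_of_fg Γ(S, S₀) Γ(Y, D) Γ(X, f ⁻¹ᵁ D) h1.out Module.Finite.fg_top
    (injective_app_basicOpen f hinj a)⟩

end Groth.Agent.Lib.GrpdGen
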