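import Groth.Agent.Lib.HilbD.Content
import Groth.Agent.Lib.RelDiv.Rank
import Groth.Agent.H25.FittingProd
import Groth.Agent.S6891
import Groth.Agent.S6894
import Groth.Agent.S6895
import Groth.Agent.H63.GrpdBasic
import Groth.Prelude.Def_Mor2

/-!
# Fitting ideal sheaves of a finite morphism, and of a groupoid

`fitt f r` is the `r`-th Fitting ideal sheaf of `f_* O`. It commutes with base change; for the
source of a groupoid it pulls back equally along source and target.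
-/

universe u

open CategoryTheory CategoryTheory.Limits AlgebraicGeometry TopologicalSpace
open scoped TensorProduct

namespace Groth.Agent.Lib.GrpdGen.Fitting

open Groth.Agent Groth.Agent.Lib

set_option linter.style.haveILetI false

variable {X Y X' Y' : Scheme.{u}} (f : X ⟶ Y) [IsFinite f]

/-- The Fitting ideal of `f_* O` on an affine open. -/
noncomputable def fittOn (r : ℕ) (U : Y.affineOpens) : Ideal Γ(Y, U.1) :=
  letI := (f.app U.1).hom.toAlgebra
  Fitt.ideal Γ(Y, U.1) Γ(X, f ⁻¹ᵁ U.1) r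

theorem finite_sections (U : Y.affineOpens) :
    letI := (f.app U.1).hom.toAlgebra
    Module.Finite Γ(Y, U.1) Γ(X, f ⁻¹ᵁ U.1) := by
  letI := (f.app U.1).hom.toAlgebra
  exact RingHom.finite_algebraMap.mp (f.finite_app U.1 U.2)

/-- The Fitting ideals commute with base change. -/
theorem fittOn_map {f' : X' ⟶ Y'} [IsFinite f'] {g' : X' ⟶ X} {g : Y' ⟶ Y}
    (sq : IsPullback g' f' f g) (r : ℕ) (U : Y.affineOpens) (U' : Y'.affineOpens)
    (e : U'.1 ≤ g ⁻¹ᵁ U.1) :
    fittOn f' r U' = (fittOn f r U).map (g.appLE U.1 U'.1 e).hom := by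
  have e' : f' ⁻¹ᵁ U'.1 ≤ g' ⁻¹ᵁ (f ⁻¹ᵁ U.1) := by
    rw [← Scheme.Hom.comp_preimage, sq.w, Scheme.Hom.comp_preimage]
    exact f'.preimage_mono e
  have hpush := HilbD.Content.isPushout_appLE sq U U' e e'
  letI := (f.app U.1).hom.toAlgebra
  haveI := finite_sections f U
  letI := (g.appLE U.1 U'.1 e).hom.toAlgebra
  letI := (f'.app U'.1).hom.toAlgebra
  letI := (g'.appLE (f ⁻¹ᵁ U.1) (f' ⁻¹ᵁ U'.1) e').hom.toAlgebra
  letI := ((f'.app U'.1).hom.comp (g.appLE U.1 U'.1 e).hom).toAlgebra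
  haveI : IsScalarTower Γ(Y, U.1) Γ(Y', U'.1) Γ(X', f' ⁻¹ᵁ U'.1) := .of_algebraMap_eq' rfl
  haveI : IsScalarTower Γ(Y, U.1) Γ(X, f ⁻¹ᵁ U.1) Γ(X', f' ⁻¹ᵁ U'.1) :=
    .of_algebraMap_eq' (congrArg CommRingCat.Hom.hom hpush.w)
  have hp : Algebra.IsPushout Γ(Y, U.1) Γ(Y', U'.1) Γ(X, f ⁻¹ᵁ U.1) Γ(X', f' ⁻¹ᵁ U'.1) :=
    CommRingCat.isPushout_iff_isPushout.mp hpush
  exact H25.Fitting.ideal_of_isBaseChange Γ(Y', U'.1) hp.out r

/-- The Fitting ideal sheaf of `f_* O`. -/
noncomputable def fitt (r : ℕ) : Y.IdealSheafData where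
  ideal := fittOn f r
  map_ideal_basicOpen U a := by
    have h := fittOn_map f (IsPullback.of_horiz_isIso ⟨(Category.id_comp f).trans (Category.comp_id f).symm⟩ :
      IsPullback (𝟙 X) f f (𝟙 Y)) r U (Y.affineBasicOpen a) (Y.basicOpen_le a)
    rw [h]
    congr 2

theorem ideal_fitt (r : ℕ) (U : Y.affineOpens) : (fitt f r).ideal U = fittOn f r U := rfl

theorem fitt_comap {f' : X' ⟶ Y'} [IsFinite f'] {g' : X' ⟶ X} {g : Y' ⟶ Y}
    (sq : IsPullback g' f' f g) (r : ℕ) : fitt f' r = (fitt f r).comap g := by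
  refine Scheme.IdealSheafData.ext_of_iSup_eq_top
    (fun p : {p : Y.affineOpens × Y'.affineOpens // p.2.1 ≤ g ⁻¹ᵁ p.1.1} => p.1.2) ?_ fun p => ?_
  · refine eq_top_iff.mpr fun y _ => ?_
    obtain ⟨U, V, -, hyV, -, -, hle⟩ := Ideal.Comap.exists_affine_le_preimage g y
      (show y ∈ (⊤ : Y'.Opens) from trivial) (show g y ∈ (⊤ : Y.Opens) from trivial)
    exact Opens.mem_iSup.mpr ⟨⟨(U, V), hle⟩, hyV⟩
  · rw [Ideal.Comap.ideal_comap g _ p.1.1 p.1.2 p.2]
    exact fittOn_map f sq r p.1.1 p.1.2 p.2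

theorem fitt_mono {r r' : ℕ} (h : r ≤ r') : fitt f r ≤ fitt f r' := fun U => by
  letI := (f.app U.1).hom.toAlgebra
  haveI := finite_sections f U
  exact H25.Fitting.ideal_mono h

/-- A morphism with a section has vanishing zeroth Fitting ideal. -/
theorem fitt_zero {e : Y ⟶ X} (he : e ≫ f = 𝟙 Y) : fitt f 0 = ⊥ := by
  refine le_antisymm (fun U x hx => ?_) bot_le
  letI := (f.app U.1).hom.toAlgebra
  haveI := finite_sections f U
  have h := (Module.mem_annihilator.1 (H25.Fitting.ideal_zero_le_annihilator hx))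
    (1 : Γ(X, f ⁻¹ᵁ U.1))
  rw [Algebra.smul_def, mul_one] at h
  have hU : U.1 ≤ e ⁻¹ᵁ (f ⁻¹ᵁ U.1) := by
    rw [← Scheme.Hom.comp_preimage, he]
    exact le_rfl
  have hc : f.app U.1 ≫ e.appLE (f ⁻¹ᵁ U.1) U.1 hU = 𝟙 _ := by
    have aux : ∀ (h : Y ⟶ Y) (e₀), h = 𝟙 Y → h.appLE U.1 U.1 e₀ = 𝟙 _ := by
      rintro h e₀ rfl
      simp only [Scheme.Hom.appLE, Scheme.Hom.id_app]
      exact (Category.id_comp _).trans (Y.presheaf.map_id _)
    rw [Scheme.Hom.app_eq_appLE, Scheme.Hom.appLE_comp_appLE]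
    exact aux _ _ he
  have := congrArg (e.appLE (f ⁻¹ᵁ U.1) U.1 hU).hom h
  rw [map_zero] at this
  change (f.app U.1 ≫ e.appLE (f ⁻¹ᵁ U.1) U.1 hU).hom x = 0 at this
  rw [hc] at this
  simpa using this

/-- Every point misses some Fitting subscheme. -/
theorem exists_notMem_support (y : Y) : ∃ r, y ∉ (fitt f r).support := by
  obtain ⟨U, hU, hy, -⟩ := exists_isAffineOpen_mem_and_subset (show y ∈ (⊤ : Y.Opens) from trivial)
  letI := (f.app U).hom.toAlgebra
  haveI := finite_sections f ⟨U, hU⟩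
  obtain ⟨n, x, hx⟩ := Module.Finite.exists_fin (R := Γ(Y, U)) (M := Γ(X, f ⁻¹ᵁ U))
  refine ⟨n, fun h => ?_⟩
  have h1 : y ∈ ((fitt f n).support : Set Y) ∩ (⟨U, hU⟩ : Y.affineOpens).1 := ⟨h, hy⟩
  rw [Scheme.IdealSheafData.coe_support_inter, ideal_fitt, fittOn] at h1
  rw [H25.Fitting.ideal_eq_top x hx le_rfl] at h1
  simp [Scheme.zeroLocus_span] at h1

/-- A morphism whose Fitting ideals jump from `⊥` to `⊤` at `r + 1` is locally free of that rank. -/
theorem isFinLocFreeOfDeg {r : ℕ} (h0 : fitt f r = ⊥) (h1 : fitt f (r + 1) = ⊤) :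
    Mor2.IsFinLocFreeOfDeg (r + 1) f := by
  have key : ∀ U : Y.affineOpens, letI := (f.app U.1).hom.toAlgebra
      Module.Projective Γ(Y, U.1) Γ(X, f ⁻¹ᵁ U.1) ∧
        ∀ p : PrimeSpectrum Γ(Y, U.1), Module.rankAtStalk Γ(X, f ⁻¹ᵁ U.1) p = r + 1 := by
    intro U
    letI := (f.app U.1).hom.toAlgebra
    haveI := finite_sections f U
    have hk : (∀ k, k < r + 1 → Fitt.ideal Γ(Y, U.1) Γ(X, f ⁻¹ᵁ U.1) k = ⊥) ∧
        (∀ k, r + 1 ≤ k → Fitt.ideal Γ(Y, U.1) Γ(X, f ⁻¹ᵁ U.1) k = ⊤) := by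
      refine ⟨fun k hk => le_bot_iff.1 ?_, fun k hk => top_le_iff.1 ?_⟩
      · have := fitt_mono f (Nat.lt_succ_iff.1 hk) U
        rw [h0] at this
        simpa [ideal_fitt, fittOn] using this
      · have := fitt_mono f hk U
        rw [h1] at this
        simpa [ideal_fitt, fittOn] using this
    have hfree := (S6895.result (R := Γ(Y, U.1)) Γ(X, f ⁻¹ᵁ U.1) (r + 1)).2 hk
    have hproj : Module.Projective Γ(Y, U.1) Γ(X, f ⁻¹ᵁ U.1) :=
      H25.Fitting.projective_of_free_away (fun p hp => by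
        obtain ⟨c, hc, hfr, -⟩ := @hfree p hp
        exact ⟨c, hc, hfr⟩)
    refine ⟨hproj, fun p => ?_⟩
    obtain ⟨c, hc, hfr, hrk⟩ := @hfree p.asIdeal p.2
    haveI := hproj
    haveI := hfr
    have hp' : (p.asIdeal.map (algebraMap _ (Localization.Away c))).IsPrime :=
      IsLocalization.isPrime_of_isPrime_disjoint (Submonoid.powers c) _ _ p.2
        ((Ideal.disjoint_powers_iff_notMem (y := c) p.2.isRadical).2 hc)
    haveI : Nontrivial (Localization.Away c) := ⟨⟨0, 1, fun h => hp'.ne_top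
      ((Ideal.eq_top_iff_one _).2 (h ▸ Ideal.zero_mem _))⟩⟩
    have hcomap : (PrimeSpectrum.comap (algebraMap _ (Localization.Away c)) ⟨_, hp'⟩) = p :=
      PrimeSpectrum.ext (IsLocalization.comap_map_of_isPrime_disjoint (Submonoid.powers c) _ p.2
        ((Ideal.disjoint_powers_iff_notMem (y := c) p.2.isRadical).2 hc))
    have e : Localization.Away c ⊗[Γ(Y, U.1)] Γ(X, f ⁻¹ᵁ U.1) ≃ₗ[Localization.Away c]
        LocalizedModule (Submonoid.powers c) Γ(X, f ⁻¹ᵁ U.1) :=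
      ((IsLocalizedModule.isBaseChange (Submonoid.powers c) (Localization.Away c)
        (LocalizedModule.mkLinearMap (Submonoid.powers c) Γ(X, f ⁻¹ᵁ U.1))).equiv)
    rw [← hcomap, ← Module.rankAtStalk_baseChange (S := Localization.Away c),
      Module.rankAtStalk_eq_of_equiv e, Module.rankAtStalk_eq_finrank_of_free]
    exact hrk
  have hW : ∀ W : Y.Opens, IsAffineOpen W →
      (f.app W).hom.Flat ∧ (f.app W).hom.FinitePresentation := fun W hW => by
    letI := (f.app W).hom.toAlgebra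
    haveI := finite_sections f ⟨W, hW⟩
    haveI := (key ⟨W, hW⟩).1
    haveI : Module.Flat Γ(Y, W) Γ(X, f ⁻¹ᵁ W) := inferInstance
    haveI : Module.FinitePresentation Γ(Y, W) Γ(X, f ⁻¹ᵁ W) :=
      Module.finitePresentation_of_projective _ _
    haveI : Algebra.FinitePresentation Γ(Y, W) Γ(X, f ⁻¹ᵁ W) := inferInstance
    exact ⟨RingHom.flat_algebraMap_iff.2 ‹_›, RingHom.finitePresentation_algebraMap.2 ‹_›⟩
  have hflat : Flat f := by
    rw [IsZariskiLocalAtTarget.iff_of_iSup_eq_top (P := @Flat) _ (iSup_affineOpens_eq_top Y)]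
    intro U
    haveI : IsAffine (U.1 : Scheme.{u}) := U.2
    haveI : IsAffine (f ⁻¹ᵁ U.1 : Scheme.{u}) := U.2.preimage f
    rw [HasRingHomProperty.iff_of_isAffine (P := @Flat), morphismRestrict_appTop]
    exact RingHom.Flat.respectsIso.1 _ (X.presheaf.mapIso (eqToIso
      (image_morphismRestrict_preimage f U.1 ⊤)).op).commRingCatIsoToRingEquiv
      (hW _ ((isAffineOpen_top _).image_of_isOpenImmersion U.1.ι)).1
  have hfp : LocallyOfFinitePresentation f := by
    rw [IsZariskiLocalAtTarget.iff_of_iSup_eq_top (P := @LocallyOfFinitePresentation) _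
      (iSup_affineOpens_eq_top Y)]
    intro U
    haveI : IsAffine (U.1 : Scheme.{u}) := U.2
    haveI : IsAffine (f ⁻¹ᵁ U.1 : Scheme.{u}) := U.2.preimage f
    rw [HasRingHomProperty.iff_of_isAffine (P := @LocallyOfFinitePresentation),
      morphismRestrict_appTop]
    exact RingHom.finitePresentation_respectsIso.1 _ (X.presheaf.mapIso (eqToIso
      (image_morphismRestrict_preimage f U.1 ⊤)).op).commRingCatIsoToRingEquiv
      (hW _ ((isAffineOpen_top _).image_of_isOpenImmersion U.1.ι)).2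
  refine ⟨⟨inferInstance, hflat, hfp⟩, fun y => ?_⟩
  haveI := hflat
  obtain ⟨U, hU, hy, -⟩ := exists_isAffineOpen_mem_and_subset (show y ∈ (⊤ : Y.Opens) from trivial)
  rw [RelDiv.Rank.finrank_eq_rankAtStalk f hU y hy]
  exact (key ⟨U, hU⟩).2 _

end Groth.Agent.Lib.GrpdGen.Fitting
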