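import Groth.Agent.Lib.GrpdGen.Quot
import Groth.Agent.Lib.GrpdQuot.OfEqvRel
import Groth.Agent.Lib.GrpQ.FfMono
import Groth.Agent.Lib.AlgSpace.Props
import Groth.Agent.Lib.Flat55.FlatDescend
import Groth.Agent.Lib.AlgSpMor.Cancel

/-!
Generic quotients of groupoids whose pair `(t, s)` has a flat kernel pair over a saturated dense open.
-/

set_option autoImplicit false
set_option linter.style.haveILetI false

universe u

open CategoryTheory CategoryTheory.Limits AlgebraicGeometry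
open Groth.Agent.H63.GrpdBasic

namespace Groth.Agent.Lib.GrpdGen

variable {S : Scheme.{u}}

/-- Flatness of a restriction, read on stalks. -/
theorem flat_restrict_iff {X Y : Scheme.{u}} (f : X ⟶ Y) (W : Y.Opens) :
    Flat (f ∣_ W) ↔ ∀ x, f x ∈ W → (f.stalkMap x).hom.Flat := by
  have e : ∀ x : f ⁻¹ᵁ W, ((f ∣_ W).stalkMap x).hom.Flat ↔ (f.stalkMap x.1).hom.Flat := fun x =>
    RingHom.Flat.respectsIso.arrow_mk_iso_iff (morphismRestrictStalkMap f W x)
  exact ⟨fun h x hx => (e ⟨x, hx⟩).1 (Flat.stalkMap _ _),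
    fun h => Flat.of_stalkMap _ fun x => (e x).2 (h x.1 x.2)⟩

/-- Flatness over an open is inherited by base changes. -/
theorem flat_restrict_of_isPullback {P A F B : Scheme.{u}} {g : P ⟶ A} {h : P ⟶ F} {k : A ⟶ B} {f : F ⟶ B}
    (sq : IsPullback g h k f) (O : B.Opens) [Flat (f ∣_ O)] : Flat (g ∣_ (k ⁻¹ᵁ O)) := by
  have big := (isPullback_morphismRestrict g (k ⁻¹ᵁ O)).paste_vert sq
  rw [← morphismRestrict_ι k O] at big
  let m : (g ⁻¹ᵁ (k ⁻¹ᵁ O)).toScheme ⟶ (f ⁻¹ᵁ O).toScheme :=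
    IsOpenImmersion.lift (f ⁻¹ᵁ O).ι ((g ⁻¹ᵁ (k ⁻¹ᵁ O)).ι ≫ h) (by
      rw [Scheme.Opens.range_ι]
      rintro _ ⟨z, rfl⟩
      show f (h ((g ⁻¹ᵁ (k ⁻¹ᵁ O)).ι z)) ∈ O
      rw [← Scheme.Hom.comp_apply h f, ← sq.w, Scheme.Hom.comp_apply]
      exact z.2)
  have hm : m ≫ (f ⁻¹ᵁ O).ι = (g ⁻¹ᵁ (k ⁻¹ᵁ O)).ι ≫ h := IsOpenImmersion.lift_fac _ _ _
  have hc : m ≫ (f ∣_ O) = (g ∣_ (k ⁻¹ᵁ O)) ≫ (k ∣_ O) := by
    rw [← cancel_mono O.ι, Category.assoc, morphismRestrict_ι, reassoc_of% hm, ← sq.w, Category.assoc,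
      morphismRestrict_ι, morphismRestrict_ι_assoc]
  rw [← hm] at big
  exact MorphismProperty.of_isPullback (P := @Flat)
    (IsPullback.of_bot big hc.symm (isPullback_morphismRestrict f O)).flip ‹_›

theorem epi_of_cover {X Y : Scheme.{u}} (e : X ⟶ Y) [Surjective e] [Flat e] [LocallyOfFinitePresentation e] :
    Epi e := inferInstance

theorem exists_factor_scheme {A B Y X : Scheme.{u}} (c : A ⟶ B) [Surjective c] [Flat c]
    [LocallyOfFinitePresentation c] (m : Y ⟶ X) [Mono m] (z : A ⟶ Y) (x : B ⟶ X) (w : z ≫ m = c ≫ x) :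
    ∃ y : B ⟶ Y, y ≫ m = x :=
  ⟨EffectiveEpi.desc c z fun {_} g₁ g₂ h => by
    rw [← cancel_mono m, Category.assoc, Category.assoc, w, reassoc_of% h],
    (cancel_epi c).1 (by rw [EffectiveEpi.fac_assoc]; exact w)⟩

theorem j_fst (G : Grpd.GroupoidScheme S) : G.j ≫ pullback.fst G.pU G.pU = G.t := pullback.lift_fst _ _ _

theorem j_snd (G : Grpd.GroupoidScheme S) : G.j ≫ pullback.snd G.pU G.pU = G.s := pullback.lift_snd _ _ _

/-- A groupoid with flat kernel pair of `(t, s)` maps fppf onto an equivalence relation. -/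
theorem exists_eqvRel (G : Grpd.GroupoidScheme S) [IsLocallyNoetherian S] [LocallyOfFiniteType G.pU]
    [LocallyOfFiniteType G.s] [Flat G.s] [QuasiCompact G.s] (hk : Flat (pullback.fst G.j G.j)) :
    ∃ (R' : Over S) (s' t' : R' ⟶ Over.mk G.pU) (ψ : G.R ⟶ R'.left), AlgSp.IsEqvRel s' t' ∧
      ψ ≫ t'.left = G.t ∧ ψ ≫ s'.left = G.s ∧ Surjective ψ ∧ Flat ψ ∧ LocallyOfFinitePresentation ψ ∧
      Flat s'.left ∧ LocallyOfFiniteType s'.left ∧ QuasiCompact s'.left := by
  have : IsLocallyNoetherian G.U := LocallyOfFiniteType.isLocallyNoetherian G.pU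
  have : IsLocallyNoetherian (pullback G.pU G.pU) :=
    LocallyOfFiniteType.isLocallyNoetherian (pullback.fst G.pU G.pU)
  have : LocallyOfFiniteType (G.j ≫ pullback.snd G.pU G.pU) := by rw [j_snd G]; infer_instance
  have : LocallyOfFiniteType G.j := locallyOfFiniteType_of_comp G.j (pullback.snd G.pU G.pU)
  have : LocallyOfFinitePresentation G.j := inferInstance
  obtain ⟨Y, ψ, τ, hs, hf, hp, hm, -, hψ⟩ := GrpQ.FfMono.exists_ffMono G.j hk inferInstance
  let R' : Over S := Over.mk (τ ≫ pullback.fst G.pU G.pU ≫ G.pU)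
  let t' : R' ⟶ Over.mk G.pU := Over.homMk (τ ≫ pullback.fst G.pU G.pU) (Category.assoc _ _ _)
  let s' : R' ⟶ Over.mk G.pU := Over.homMk (τ ≫ pullback.snd G.pU G.pU) (by
    show (τ ≫ pullback.snd G.pU G.pU) ≫ G.pU = τ ≫ pullback.fst G.pU G.pU ≫ G.pU
    rw [Category.assoc, pullback.condition])
  have ht : ψ ≫ τ ≫ pullback.fst G.pU G.pU = G.t := by rw [reassoc_of% hψ, j_fst G]
  have hsr : ψ ≫ τ ≫ pullback.snd G.pU G.pU = G.s := by rw [reassoc_of% hψ, j_snd G]
  -- inverse
  let sw := (pullbackSymmetry G.pU G.pU).hom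
  obtain ⟨i', hi'⟩ := exists_factor_scheme ψ τ (G.i ≫ ψ) (τ ≫ sw) (by
    rw [Category.assoc, hψ, ← Category.assoc ψ, hψ]
    apply pullback.hom_ext <;>
      simp [sw, Grpd.GroupoidScheme.j, pullback.lift_fst, pullback.lift_snd, G.i_t, G.i_s])
  -- composition
  let tY := τ ≫ pullback.fst G.pU G.pU
  let sY := τ ≫ pullback.snd G.pU G.pU
  let cov : pullback G.s G.t ⟶ pullback sY tY :=
    pullback.map G.s G.t sY tY ψ ψ (𝟙 _) (by rw [Category.comp_id]; exact hsr.symm)
      (by rw [Category.comp_id]; exact ht.symm)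
  have hcov : ∀ (P : MorphismProperty Scheme.{u}) [P.IsStableUnderBaseChange] [P.IsStableUnderComposition],
      P ψ → P cov := fun P _ _ h =>
    MorphismProperty.pullbackMap (P := P) h h hsr.symm ht.symm
  have : Surjective cov := hcov @Surjective hs
  have : Flat cov := hcov @Flat hf
  have : LocallyOfFinitePresentation cov := hcov @LocallyOfFinitePresentation hp
  obtain ⟨c', hc'⟩ := exists_factor_scheme cov τ (G.c ≫ ψ)
    (pullback.lift (pullback.fst sY tY ≫ tY) (pullback.snd sY tY ≫ sY) (by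
      have e : sY ≫ G.pU = tY ≫ G.pU := by
        simp only [tY, sY, Category.assoc, pullback.condition]
      exact (Category.assoc _ _ _).trans ((congrArg (pullback.fst sY tY ≫ ·) e.symm).trans
        ((Category.assoc _ _ _).symm.trans ((congrArg (· ≫ G.pU) pullback.condition).trans
          ((Category.assoc _ _ _).trans ((congrArg (pullback.snd sY tY ≫ ·) e.symm).trans
            (Category.assoc _ _ _).symm))))))) (by
    rw [Category.assoc, hψ]
    apply pullback.hom_ext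
    · simp only [Category.assoc, j_fst G, pullback.lift_fst, cov, pullback.map, pullback.lift_fst_assoc, tY]
      rw [ht, c_t]
    · simp only [Category.assoc, j_snd G, pullback.lift_snd, cov, pullback.map, pullback.lift_snd_assoc, sY]
      rw [hsr, c_s])
  have hct : c' ≫ tY = pullback.fst sY tY ≫ tY := by
    simp only [tY, ← Category.assoc, hc']; rw [pullback.lift_fst]
  have hcs : c' ≫ sY = pullback.snd sY tY ≫ sY := by
    simp only [sY, ← Category.assoc, hc']; rw [pullback.lift_snd]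
  have hit : i' ≫ tY = sY := by
    simp only [tY, sY, ← Category.assoc, hi']; simp [sw]
  have his : i' ≫ sY = tY := by
    simp only [tY, sY, ← Category.assoc, hi']; simp [sw]
  have hR : AlgSp.IsEqvRel s' t' := by
    refine ⟨fun T r r' h1 h2 => Over.OverMorphism.ext ((cancel_mono τ).1 (pullback.hom_ext ?_ ?_)),
      fun T => ⟨fun a => ?_, fun {a b} => ?_, fun {a b c} => ?_⟩⟩
    · simpa [t'] using congr($(h1).left)
    · simpa [s'] using congr($(h2).left)
    · refine ⟨Over.homMk (a.left ≫ G.e ≫ ψ) ?_, Over.OverMorphism.ext ?_, Over.OverMorphism.ext ?_⟩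
      · show (a.left ≫ G.e ≫ ψ) ≫ τ ≫ pullback.fst G.pU G.pU ≫ G.pU = T.hom
        simp only [Category.assoc, reassoc_of% hψ, reassoc_of% j_fst G, reassoc_of% G.e_t]
        exact Over.w a
      · show (a.left ≫ G.e ≫ ψ) ≫ τ ≫ pullback.fst G.pU G.pU = a.left
        simp only [Category.assoc, ht, G.e_t]
        exact Category.comp_id _
      · show (a.left ≫ G.e ≫ ψ) ≫ τ ≫ pullback.snd G.pU G.pU = a.left
        simp only [Category.assoc, hsr, G.e_s]
        exact Category.comp_id _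
    · rintro ⟨r, rfl, rfl⟩
      refine ⟨r ≫ Over.homMk i' ?_, ?_, ?_⟩
      · show i' ≫ τ ≫ pullback.fst G.pU G.pU ≫ G.pU = τ ≫ pullback.fst G.pU G.pU ≫ G.pU
        simp only [← Category.assoc, hi']
        simp [sw, pullback.condition]
      · exact Over.OverMorphism.ext (by
          show (r.left ≫ i') ≫ tY = r.left ≫ sY
          rw [Category.assoc, hit])
      · exact Over.OverMorphism.ext (by
          show (r.left ≫ i') ≫ sY = r.left ≫ tY
          rw [Category.assoc, his])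
    · rintro ⟨r, rfl, rfl⟩ ⟨r', hr', rfl⟩
      have hmid : r.left ≫ sY = r'.left ≫ tY := congr($(hr').left).symm
      let l : T.left ⟶ Y := pullback.lift r.left r'.left hmid ≫ c'
      have hlt : l ≫ tY = r.left ≫ tY := by rw [Category.assoc, hct, pullback.lift_fst_assoc]
      have hls : l ≫ sY = r'.left ≫ sY := by rw [Category.assoc, hcs, pullback.lift_snd_assoc]
      refine ⟨Over.homMk l ?_, Over.OverMorphism.ext hlt, Over.OverMorphism.ext hls⟩
      show l ≫ τ ≫ pullback.fst G.pU G.pU ≫ G.pU = T.hom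
      rw [← Category.assoc τ, ← Category.assoc l, hlt]
      refine (Eq.trans ?_ (Over.w r))
      simp [R', tY]
  have hs' : ψ ≫ s'.left = G.s := hsr
  have : Flat (ψ ≫ s'.left) := hs' ▸ ‹Flat G.s›
  have : LocallyOfFiniteType (ψ ≫ s'.left) := hs' ▸ ‹LocallyOfFiniteType G.s›
  have : QuasiCompact (ψ ≫ s'.left) := hs' ▸ ‹QuasiCompact G.s›
  refine ⟨R', s', t', ψ, hR, ht, hs', hs, hf, hp, Flat55.FlatDescend.flat_of_comp ψ s'.left,
    H14.FppfDesc.Scheme.locallyOfFiniteType_of_comp ψ s'.left ‹_›, ⟨fun U hU hU' => ?_⟩⟩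
  rw [← Set.image_preimage_eq (s'.left ⁻¹' U) ψ.surjective, ← Set.preimage_comp]
  exact (QuasiCompact.isCompact_preimage (f := ψ ≫ s'.left) U hU hU').image ψ.continuous

/-- The kernel pair of `(t, s)` of a restricted groupoid. -/
theorem flat_fst_restrict (G : Grpd.GroupoidScheme S) (W : G.U.Opens) (hW : G.s ⁻¹ᵁ W = G.t ⁻¹ᵁ W)
    [Flat (pullback.fst G.j G.j ∣_ (G.s ⁻¹ᵁ W))] :
    Flat (pullback.fst (GrpdQuot.restrictGrpd G W hW).j (GrpdQuot.restrictGrpd G W hW).j) := by
  let V := G.s ⁻¹ᵁ W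
  let GR := GrpdQuot.restrictGrpd G W hW
  let wmap : pullback GR.pU GR.pU ⟶ pullback G.pU G.pU :=
    pullback.map _ _ _ _ W.ι W.ι (𝟙 S) (by simp [GR, GrpdQuot.restrictGrpd]) (by simp [GR, GrpdQuot.restrictGrpd])
  have hj : GR.j ≫ wmap = V.ι ≫ G.j := by
    apply pullback.hom_ext <;>
      simp [wmap, GR, V, Grpd.GroupoidScheme.j, GrpdQuot.restrictGrpd, pullback.map, pullback.lift_fst_assoc,
        pullback.lift_snd_assoc, pullback.lift_fst, pullback.lift_snd]
  have : Mono W.ι := inferInstance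
  have : Mono wmap := ⟨fun a b h => by
    have h1 := congrArg (· ≫ pullback.fst G.pU G.pU) h
    have h2 := congrArg (· ≫ pullback.snd G.pU G.pU) h
    simp only [Category.assoc, wmap, pullback.map, pullback.lift_fst, pullback.lift_snd] at h1 h2
    apply pullback.hom_ext
    · exact (cancel_mono W.ι).1 ((Category.assoc _ _ _).trans (h1.trans (Category.assoc _ _ _).symm))
    · exact (cancel_mono W.ι).1 ((Category.assoc _ _ _).trans (h2.trans (Category.assoc _ _ _).symm))⟩
  have h1 := GrpQ.FfMono.isPullback_of_ffMono GR.j wmap hj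
  let k : pullback (V.ι ≫ G.j) (V.ι ≫ G.j) ⟶ pullback (V.ι ≫ G.j) G.j :=
    pullback.map _ _ _ _ (𝟙 _) V.ι (𝟙 _) (by simp) (by simp)
  have : IsOpenImmersion k := inferInstance
  have hk : k ≫ pullback.fst _ _ = pullback.fst (V.ι ≫ G.j) (V.ι ≫ G.j) := by
    simp [k, pullback.map, pullback.lift_fst]
  have : Flat (pullback.fst (V.ι ≫ G.j) G.j) := by
    have sq := (isPullback_morphismRestrict (pullback.fst G.j G.j) V).paste_vert
      (IsPullback.of_hasPullback G.j G.j)
    rw [← sq.isoPullback_inv_fst]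
    exact inferInstance
  have : Flat (pullback.fst (V.ι ≫ G.j) (V.ι ≫ G.j)) := by rw [← hk]; infer_instance
  have e := h1.isoPullback_inv_fst
  exact e ▸ (MorphismProperty.cancel_left_of_respectsIso (P := @Flat) h1.isoPullback.inv _).2 this

end Groth.Agent.Lib.GrpdGen
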