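import Groth.Agent.Lib.GrpdGen.FlatStab
import Groth.Agent.Lib.GrpdQuot.Action
import Groth.Agent.Lib.GrpQ.FfMonoAct
import Groth.Agent.Lib.Homog.Transitive

/-!
The flat locus of the stabiliser of the diagonal is saturated, and dense over a reduced base.
-/

set_option autoImplicit false
set_option linter.style.haveILetI false

universe u

open CategoryTheory CategoryTheory.Limits MonoidalCategory CartesianMonoidalCategory MonObj GrpObj AlgebraicGeometry
open Groth.Agent.Lib.GrpQ.FfMono

namespace Groth.Agent.Lib.GrpdGen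

variable {S : Scheme.{u}} {G X : Over S} [GrpObj G] (a : AlgGrp.Action G X)

/-- The kernel pair object. -/
noncomputable abbrev kerObj : Over S := pullback (snd G X) (stabProj a)

/-- Its projection to arrows. -/
noncomputable abbrev kerFst : kerObj a ⟶ G ⊗ X := pullback.fst _ _

/-- The arrow component. -/
noncomputable abbrev kerG : kerObj a ⟶ G := kerFst a ≫ fst G X

/-- The stabiliser component. -/
noncomputable abbrev kerH : kerObj a ⟶ G := pullback.snd (snd G X) (stabProj a) ≫ stabIncl a ≫ fst G X

theorem kerH_act : lift (kerH a) (kerFst a ≫ snd G X) ≫ a.act = kerFst a ≫ snd G X := by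
  have h : lift (kerH a) (kerFst a ≫ snd G X) = pullback.snd (snd G X) (stabProj a) ≫ stabIncl a := by
    apply CartesianMonoidalCategory.hom_ext
    · simp
    · rw [lift_snd, Category.assoc, stabIncl_snd]
      exact pullback.condition
  rw [h, Category.assoc, stabIncl_act]
  exact pullback.condition.symm

theorem kerG_act : lift (kerG a) (kerFst a ≫ snd G X) ≫ a.act = kerFst a ≫ a.act := by
  rw [← comp_lift_assoc, lift_fst_snd, Category.id_comp]

theorem conj_cond : lift (kerG a * kerH a * (kerG a)⁻¹) (kerFst a ≫ a.act) ≫ lift a.act (snd G X) =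
    (kerFst a ≫ a.act) ≫ lift (𝟙 X) (𝟙 X) := by
  apply CartesianMonoidalCategory.hom_ext
  · simp only [Category.assoc, lift_fst, Category.comp_id]
    rw [GrpSch.act_mul, GrpSch.act_mul, ← kerG_act, GrpSch.act_inv_act, kerH_act]
  · simp

/-- Conjugation to the stabiliser of the translated point. -/
noncomputable def conj : kerObj a ⟶ stabDiag a := pullback.lift _ _ (conj_cond a)

theorem isPullback_conj : IsPullback (kerFst a) (conj a) a.act (stabProj a) := by
  have h1 : conj a ≫ stabProj a = kerFst a ≫ a.act := pullback.lift_snd _ _ _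
  have h2 : conj a ≫ stabIncl a = lift (kerG a * kerH a * (kerG a)⁻¹) (kerFst a ≫ a.act) :=
    pullback.lift_fst _ _ _
  have hz : ∀ s : PullbackCone a.act (stabProj a),
      lift ((s.fst ≫ fst G X)⁻¹ * (s.snd ≫ stabIncl a ≫ fst G X) * (s.fst ≫ fst G X)) (s.fst ≫ snd G X) ≫
        lift a.act (snd G X) = (s.fst ≫ snd G X) ≫ lift (𝟙 X) (𝟙 X) := fun s => by
    apply CartesianMonoidalCategory.hom_ext
    · simp only [Category.assoc, lift_fst, Category.comp_id]
      rw [GrpSch.act_mul, GrpSch.act_mul]
      have e1 : lift (s.fst ≫ fst G X) (s.fst ≫ snd G X) ≫ a.act = s.fst ≫ a.act := by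
        rw [← comp_lift_assoc, lift_fst_snd, Category.id_comp]
      have e2 : lift (s.snd ≫ stabIncl a ≫ fst G X) (s.fst ≫ a.act) ≫ a.act = s.fst ≫ a.act := by
        have : lift (s.snd ≫ stabIncl a ≫ fst G X) (s.fst ≫ a.act) = s.snd ≫ stabIncl a := by
          apply CartesianMonoidalCategory.hom_ext
          · simp
          · rw [lift_snd, Category.assoc, stabIncl_snd]
            exact s.condition
        rw [this, Category.assoc, stabIncl_act]
        exact s.condition.symm
      rw [e1, e2, ← e1, GrpSch.act_inv_act]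
    · simp
  refine ⟨⟨h1.symm⟩, ⟨PullbackCone.IsLimit.mk _
    (fun s => pullback.lift s.fst (pullback.lift _ _ (hz s)) (by rw [pullback.lift_snd]))
    (fun s => pullback.lift_fst _ _ _) (fun s => ?_) (fun s m e1 e2 => ?_)⟩⟩
  · refine pullback.hom_ext ?_ ?_
    · show (_ ≫ conj a) ≫ stabIncl a = _
      rw [Category.assoc, h2]
      apply CartesianMonoidalCategory.hom_ext
      · simp only [Category.assoc, lift_fst, MonObj.comp_mul, GrpObj.comp_inv, pullback.lift_fst_assoc,
          pullback.lift_snd_assoc]
        group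
      · simp only [Category.assoc, lift_snd, pullback.lift_fst_assoc, stabIncl_snd]
        exact s.condition
    · show (_ ≫ conj a) ≫ stabProj a = _
      rw [Category.assoc, h1, pullback.lift_fst_assoc]
      exact s.condition
  · refine pullback.hom_ext (by rw [pullback.lift_fst]; exact e1) ?_
    rw [pullback.lift_snd]
    refine pullback.hom_ext ?_ ?_
    · rw [pullback.lift_fst]
      apply CartesianMonoidalCategory.hom_ext
      · rw [lift_fst, ← e1, ← e2]
        simp only [Category.assoc, reassoc_of% h2, lift_fst, MonObj.comp_mul, GrpObj.comp_inv]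
        group
      · rw [lift_snd, ← e1]
        simp only [Category.assoc, stabIncl_snd, pullback.condition]
    · rw [pullback.lift_snd, ← e1]
      simp only [Category.assoc, pullback.condition]

/-- The stabiliser is flat over the translates of an open over which it is flat. -/
theorem flat_act_image [Flat G.hom] (O : X.left.Opens) [Flat ((stabProj a).left ∣_ O)]
    (f : (stabDiag a).left) (z : (G ⊗ X).left) (hz : a.act.left z = (stabProj a).left f)
    (hO : (snd G X).left z ∈ O) : ((stabProj a).left.stalkMap f).hom.Flat := by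
  have sq₁ : IsPullback (kerFst a).left (pullback.snd (snd G X) (stabProj a)).left (snd G X).left
      (stabProj a).left := (IsPullback.of_hasPullback (snd G X) (stabProj a)).map (Over.forget S)
  have sq₂ : IsPullback (kerFst a).left (conj a).left a.act.left (stabProj a).left :=
    (isPullback_conj a).map (Over.forget S)
  obtain ⟨q, hq1, hq2⟩ := Scheme.Pullback.exists_preimage_pullback z f hz
  obtain ⟨p, rfl⟩ := sq₂.isoPullback.hom.surjective q
  rw [← Scheme.Hom.comp_apply, sq₂.isoPullback_hom_fst] at hq1
  rw [← Scheme.Hom.comp_apply, sq₂.isoPullback_hom_snd] at hq2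
  subst hq2
  haveI : Flat a.act.left := GrpSch.act_left_of (P := @Flat) a ‹_›
  haveI : Flat (conj a).left := MorphismProperty.of_isPullback (P := @Flat) sq₂ ‹_›
  have h1 : Flat ((kerFst a).left ∣_ ((snd G X).left ⁻¹ᵁ O)) := flat_restrict_of_isPullback sq₁ O
  have h2 : ((kerFst a).left.stalkMap p).hom.Flat :=
    (flat_restrict_iff _ _).1 h1 p (by rw [← hq1] at hO; exact hO)
  refine Flat55.FlatDescend.flat_stalkMap_of_comp (conj a).left (stabProj a).left p (Flat.stalkMap _ _) ?_
  rw [← sq₂.w, Scheme.Hom.stalkMap_comp]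
  exact RingHom.Flat.comp (Flat.stalkMap a.act.left _) h2

/-- The largest open over which the stabiliser is flat. -/
noncomputable def flatLocus : X.left.Opens := sSup {W | Flat ((stabProj a).left ∣_ W)}

theorem flat_flatLocus : Flat ((stabProj a).left ∣_ flatLocus a) :=
  (flat_restrict_iff _ _).2 fun f hf => by
    obtain ⟨W, hW, hfW⟩ := TopologicalSpace.Opens.mem_sSup.1 hf
    exact (flat_restrict_iff _ _).1 hW f hfW

theorem flatLocus_saturated [Flat G.hom] [LocallyOfFinitePresentation G.hom] :
    (snd G X).left ⁻¹ᵁ flatLocus a = a.act.left ⁻¹ᵁ flatLocus a := by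
  haveI : Flat a.act.left := GrpSch.act_left_of (P := @Flat) a ‹_›
  haveI : LocallyOfFinitePresentation a.act.left := GrpSch.act_left_of (P := @LocallyOfFinitePresentation) a ‹_›
  have := flat_flatLocus a
  let U : X.left.Opens := ⟨a.act.left '' ((snd G X).left ⁻¹ᵁ flatLocus a : (G ⊗ X).left.Opens),
    a.act.left.isOpenMap _ ((snd G X).left ⁻¹ᵁ flatLocus a).2⟩
  have hU : U ≤ flatLocus a := le_sSup ((flat_restrict_iff _ _).2 fun f hf => by
    obtain ⟨z, hz, hzf⟩ := hf
    exact flat_act_image a (flatLocus a) f z hzf hz)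
  apply TopologicalSpace.Opens.ext
  ext z
  refine ⟨fun h => hU ⟨z, h, rfl⟩, fun h => ?_⟩
  let i := (lift (fst G X)⁻¹ a.act).left
  have hi : (snd G X).left (i z) = a.act.left z := by
    rw [← Scheme.Hom.comp_apply, ← Over.comp_left, lift_snd]
  have hi' : a.act.left (i z) = (snd G X).left z := by
    rw [← Scheme.Hom.comp_apply, ← Over.comp_left, GrpdQuot.inv_act]
  have h3 := hU ⟨i z, (by show (snd G X).left (i z) ∈ flatLocus a; rw [hi]; exact h), rfl⟩
  rw [hi'] at h3
  exact h3

theorem dense_flatLocus (hF : Flat (stabProj a).left ∨ IsReduced X.left) [AlgebraicGeometry.IsNoetherian X.left]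
    [LocallyOfFiniteType (stabProj a).left] [QuasiCompact (stabProj a).left] :
    Dense (flatLocus a : Set X.left) := by
  rw [dense_iff_inter_open]
  intro O hO hne
  let O' : X.left.Opens := ⟨O, hO⟩
  rcases hF with hF | hred
  · obtain ⟨x, hx⟩ := hne
    exact ⟨x, hx, TopologicalSpace.Opens.mem_sSup.2
      ⟨⊤, IsZariskiLocalAtTarget.restrict hF ⊤, trivial⟩⟩
  · have : Nonempty O'.toScheme := hne.to_subtype
    have : CompactSpace O'.toScheme := isCompact_iff_compactSpace.1 (TopologicalSpace.NoetherianSpace.isCompact O)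
    have : AlgebraicGeometry.IsNoetherian O'.toScheme := ⟨⟩
    have : LocallyOfFiniteType ((stabProj a).left ∣_ O') := IsZariskiLocalAtTarget.restrict ‹_› _
    have : QuasiCompact ((stabProj a).left ∣_ O') := IsZariskiLocalAtTarget.restrict ‹_› _
    obtain ⟨W, ⟨w, hw⟩, hfl⟩ := Homog.exists_flat_restrict ((stabProj a).left ∣_ O')
    refine ⟨O'.ι w, w.2, TopologicalSpace.Opens.mem_sSup.2 ⟨O'.ι ''ᵁ W, ?_, ⟨w, hw, rfl⟩⟩⟩
    exact (MorphismProperty.arrow_mk_iso_iff (@Flat)
      (morphismRestrictRestrict (stabProj a).left O' W)).1 hfl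

end Groth.Agent.Lib.GrpdGen
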