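import Groth.Agent.Lib.GrpdGen.FlatStab

/-!
Generic quotient of a groupoid with flat stabilisers over a saturated dense open.
-/

set_option autoImplicit false
set_option linter.style.haveILetI false

universe u

open CategoryTheory CategoryTheory.Limits AlgebraicGeometry
open Groth.Agent.H63.GrpdBasic

namespace Groth.Agent.Lib.GrpdGen

variable {S : Scheme.{u}}

theorem exists_flatStabQuot [IsNoetherian S] (G : Grpd.GroupoidScheme S) [Flat G.s] [LocallyOfFiniteType G.s]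
    [QuasiCompact G.s] [LocallyOfFiniteType G.pU] [QuasiCompact G.pU]
    (U : G.U.Opens) (hU : G.s ⁻¹ᵁ U = G.t ⁻¹ᵁ U) (hd : Dense (U : Set G.U))
    [Flat (pullback.fst G.j G.j ∣_ (G.s ⁻¹ᵁ U))] :
    ∃ (W : G.U.Opens) (hW : G.t ⁻¹ᵁ W = G.s ⁻¹ᵁ W), Dense (W : Set G.U) ∧
      ∃ (V : Scheme.{u}) (p : (W : Scheme.{u}) ⟶ V)
        (w : G.t.resLE W (G.s ⁻¹ᵁ W) hW.ge ≫ p = (G.s ∣_ W) ≫ p) (q : V ⟶ S),
        Nonempty (IsColimit (Cofork.ofπ p w)) ∧ p ≫ q = W.ι ≫ G.pU ∧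
        Surjective p ∧ Flat p ∧ LocallyOfFinitePresentation p ∧ LocallyOfFiniteType q ∧ QuasiCompact q := by
  have : IsLocallyNoetherian G.U := LocallyOfFiniteType.isLocallyNoetherian G.pU
  have : CompactSpace G.U := QuasiCompact.compactSpace_of_compactSpace G.pU
  have : AlgebraicGeometry.IsNoetherian G.U := ⟨⟩
  let GR := GrpdQuot.restrictGrpd G U hU
  have hsR : GR.s = G.s ∣_ U := Scheme.Hom.resLE_eq_morphismRestrict _
  haveI : Flat GR.s := by rw [hsR]; exact IsZariskiLocalAtTarget.restrict ‹Flat G.s› U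
  haveI : LocallyOfFiniteType GR.s := by
    rw [hsR]; exact IsZariskiLocalAtTarget.restrict ‹LocallyOfFiniteType G.s› U
  haveI : QuasiCompact GR.s := by rw [hsR]; exact IsZariskiLocalAtTarget.restrict ‹QuasiCompact G.s› U
  haveI : LocallyOfFiniteType GR.pU := inferInstanceAs (LocallyOfFiniteType (U.ι ≫ G.pU))
  haveI : QuasiCompact GR.pU := inferInstanceAs (QuasiCompact (U.ι ≫ G.pU))
  obtain ⟨R', s', t', ψ, hR, hψt, hψs, hψ1, hψ2, hψ3, hs1, hs2, hs3⟩ :=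
    exists_eqvRel GR (flat_fst_restrict G U hU)
  haveI := hψ1; haveI := hψ2; haveI := hψ3
  let G' := GrpdQuot.ofEqvRel hR
  haveI : Flat G'.s := hs1
  haveI : LocallyOfFiniteType G'.s := hs2
  haveI : QuasiCompact G'.s := hs3
  haveI : LocallyOfFiniteType G'.pU := inferInstanceAs (LocallyOfFiniteType GR.pU)
  haveI : QuasiCompact G'.pU := inferInstanceAs (QuasiCompact GR.pU)
  haveI : LocallyOfFiniteType G'.j := by
    haveI : LocallyOfFiniteType (G'.j ≫ pullback.snd G'.pU G'.pU) := by rw [j_snd G']; infer_instance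
    exact locallyOfFiniteType_of_comp G'.j (pullback.snd G'.pU G'.pU)
  haveI hmono : Mono G'.j := ⟨fun a b h => GrpdQuot.hom_ext_of_eqvRel hR
    (by
      have hh := congrArg (· ≫ pullback.snd G'.pU G'.pU) h
      simp only [Category.assoc, j_snd G'] at hh
      exact hh)
    (by
      have hh := congrArg (· ≫ pullback.fst G'.pU G'.pU) h
      simp only [Category.assoc, j_fst G'] at hh
      exact hh)⟩
  haveI : LocallyQuasiFinite G'.j := AlgSpace.locallyQuasiFinite_of_formallyUnramified G'.j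
  obtain ⟨W₂, hW₂, hd₂, V, p₂, w₂, q, ⟨hcol⟩, hpq, hsurj, -, hlfp, hq1, hq2, -, -, hm⟩ := exists_genQuot G'
  obtain ⟨-, hflat⟩ := hm hmono
  obtain ⟨W', rfl⟩ : ∃ W' : U.toScheme.Opens, W' = W₂ := ⟨W₂, rfl⟩
  obtain ⟨p₂, rfl⟩ : ∃ p : W'.toScheme ⟶ V, p = p₂ := ⟨p₂, rfl⟩
  let W : G.U.Opens := U.ι ''ᵁ W'
  let sU : R'.left ⟶ U.toScheme := s'.left
  let tU : R'.left ⟶ U.toScheme := t'.left
  let B : R'.left.Opens := sU ⁻¹ᵁ W'
  have hWU : W ≤ U := fun x hx => by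
    obtain ⟨w, -, rfl⟩ := hx
    exact w.2
  have hU' : ∀ r : G.R, G.s r ∈ U ↔ G.t r ∈ U := fun r =>
    iff_of_eq (congrArg (fun O : G.R.Opens => r ∈ O) hU)
  have hsι : GR.s ≫ U.ι = (G.s ⁻¹ᵁ U).ι ≫ G.s := Scheme.Hom.resLE_comp_ι _ _
  have htι : GR.t ≫ U.ι = (G.s ⁻¹ᵁ U).ι ≫ G.t := Scheme.Hom.resLE_comp_ι _ _
  have hmem : ∀ (r : G.R) (hr : G.s r ∈ U), (G.t r ∈ W ↔ t'.left (ψ ⟨r, hr⟩) ∈ W') ∧
      (G.s r ∈ W ↔ s'.left (ψ ⟨r, hr⟩) ∈ W') := fun r hr => by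
    have et : U.ι (t'.left (ψ ⟨r, hr⟩)) = G.t r := by
      rw [← Scheme.Hom.comp_apply ψ, hψt]
      show (GR.t ≫ U.ι) ⟨r, hr⟩ = _
      rw [htι]; rfl
    have es : U.ι (s'.left (ψ ⟨r, hr⟩)) = G.s r := by
      rw [← Scheme.Hom.comp_apply ψ, hψs]
      show (GR.s ≫ U.ι) ⟨r, hr⟩ = _
      rw [hsι]; rfl
    constructor
    · rw [← et]
      exact ⟨fun ⟨w, hw, e⟩ => U.ι.isOpenEmbedding.injective e ▸ hw, fun h => ⟨_, h, rfl⟩⟩
    · rw [← es]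
      exact ⟨fun ⟨w, hw, e⟩ => U.ι.isOpenEmbedding.injective e ▸ hw, fun h => ⟨_, h, rfl⟩⟩
  have h₂ : ∀ r' : R'.left, t'.left r' ∈ W' ↔ s'.left r' ∈ W' := fun r' =>
    iff_of_eq (congrArg (fun O : R'.left.Opens => r' ∈ O) hW₂)
  have hW : G.t ⁻¹ᵁ W = G.s ⁻¹ᵁ W := by
    apply TopologicalSpace.Opens.ext
    ext r
    refine ⟨fun h => ?_, fun h => ?_⟩
    · have hr : G.s r ∈ U := (hU' r).2 (hWU h)
      exact (hmem r hr).2.2 ((h₂ _).1 ((hmem r hr).1.1 h))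
    · have hr : G.s r ∈ U := hWU h
      exact (hmem r hr).1.2 ((h₂ _).2 ((hmem r hr).2.1 h))
  let A : G.R.Opens := G.s ⁻¹ᵁ W
  have hrange : Set.range A.ι = Set.range ((ψ ⁻¹ᵁ B).ι ≫ (G.s ⁻¹ᵁ U).ι) := by
    ext r
    simp only [Scheme.Opens.range_ι]
    constructor
    · intro h
      have hr : G.s r ∈ U := hWU h
      exact ⟨⟨⟨r, hr⟩, (hmem r hr).2.1 h⟩, rfl⟩
    · rintro ⟨⟨⟨r', hr⟩, hz⟩, rfl⟩
      exact (hmem r' hr).2.2 hz
  have hι : IsOpenImmersion (G.s ⁻¹ᵁ U).ι := inferInstance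
  haveI : IsOpenImmersion ((ψ ⁻¹ᵁ B).ι ≫ (G.s ⁻¹ᵁ U).ι) :=
    @IsOpenImmersion.comp _ _ _ (ψ ⁻¹ᵁ B).ι (G.s ⁻¹ᵁ U).ι inferInstance hι
  let θ := IsOpenImmersion.isoOfRangeEq A.ι ((ψ ⁻¹ᵁ B).ι ≫ (G.s ⁻¹ᵁ U).ι) hrange
  have hθ : θ.hom ≫ (ψ ⁻¹ᵁ B).ι ≫ (G.s ⁻¹ᵁ U).ι = A.ι := IsOpenImmersion.isoOfRangeEq_hom_fac _ _ _
  let π : A.toScheme ⟶ B.toScheme := θ.hom ≫ (ψ ∣_ B)
  haveI : Surjective (ψ ∣_ B) := IsZariskiLocalAtTarget.restrict hψ1 B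
  haveI : Flat (ψ ∣_ B) := IsZariskiLocalAtTarget.restrict hψ2 B
  haveI : LocallyOfFinitePresentation (ψ ∣_ B) := IsZariskiLocalAtTarget.restrict hψ3 B
  haveI : Surjective π := inferInstance
  haveI : Flat π := inferInstance
  haveI : LocallyOfFinitePresentation π := inferInstance
  haveI : Epi π := epi_of_cover π
  let e := U.ι.isoImage W'
  have he : e.inv ≫ W'.ι ≫ U.ι = W.ι := Scheme.Hom.isoImage_inv_ι _ _
  haveI : Mono (W'.ι ≫ U.ι) := inferInstance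
  let t₂ : B.toScheme ⟶ W'.toScheme := tU.resLE W' B hW₂.ge
  let s₂ : B.toScheme ⟶ W'.toScheme := sU ∣_ W'
  have hs : π ≫ s₂ = (G.s ∣_ W) ≫ e.inv := by
    rw [← cancel_mono (W'.ι ≫ U.ι)]
    simp only [π, Category.assoc, he, morphismRestrict_ι]
    rw [← reassoc_of% hθ]
    simp only [s₂, morphismRestrict_ι_assoc]
    have e1 : ψ ≫ sU ≫ U.ι = (G.s ⁻¹ᵁ U).ι ≫ G.s := by
      rw [← hsι, ← hψs]; exact (Category.assoc _ _ _).symm
    exact (congrArg (θ.hom ≫ ·) (morphismRestrict_ι_assoc ψ B (sU ≫ U.ι))).trans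
      (congrArg (fun m => θ.hom ≫ (ψ ⁻¹ᵁ B).ι ≫ m) e1)
  have ht : π ≫ t₂ = G.t.resLE W A hW.ge ≫ e.inv := by
    rw [← cancel_mono (W'.ι ≫ U.ι)]
    simp only [π, Category.assoc, he, Scheme.Hom.resLE_comp_ι]
    rw [← reassoc_of% hθ]
    simp only [t₂, Scheme.Hom.resLE_comp_ι_assoc, morphismRestrict_ι_assoc]
    have e1 : ψ ≫ tU ≫ U.ι = (G.s ⁻¹ᵁ U).ι ≫ G.t := by
      rw [← htι, ← hψt]; exact (Category.assoc _ _ _).symm
    exact congrArg (fun m => θ.hom ≫ (ψ ⁻¹ᵁ B).ι ≫ m) e1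
  have w : G.t.resLE W A hW.ge ≫ e.inv ≫ p₂ = (G.s ∣_ W) ≫ e.inv ≫ p₂ := by
    rw [← reassoc_of% hs, ← reassoc_of% ht]
    exact congrArg (π ≫ ·) w₂
  haveI : Surjective p₂ := hsurj
  haveI : Flat p₂ := hflat
  haveI : LocallyOfFinitePresentation p₂ := hlfp
  haveI : LocallyOfFinitePresentation q := hq1
  refine ⟨W, hW, ?_, V, e.inv ≫ p₂, w, q, ⟨Cofork.IsColimit.mk' _ fun c => ?_⟩, ?_, inferInstance,
    inferInstance, inferInstance, inferInstance, hq2⟩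
  · refine Dense.mono ?_ (Dense.mono (show (U : Set G.U) ⊆ closure (W : Set G.U) from ?_) hd |>.of_closure)
    · exact subset_rfl
    · rintro x hx
      obtain ⟨y, rfl⟩ : ∃ y : U.toScheme, U.ι y = x := ⟨⟨x, hx⟩, rfl⟩
      exact image_closure_subset_closure_image U.ι.continuous ⟨y, hd₂ y, rfl⟩
  · have hk : t₂ ≫ e.hom ≫ c.π = s₂ ≫ e.hom ≫ c.π := by
      rw [← cancel_epi π, reassoc_of% ht, reassoc_of% hs]
      simp only [Iso.inv_hom_id_assoc]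
      exact c.condition
    obtain ⟨l, hl⟩ := Cofork.IsColimit.desc' hcol (e.hom ≫ c.π) hk
    refine ⟨l, ?_, fun {m} hm' => Cofork.IsColimit.hom_ext hcol ?_⟩
    · show (e.inv ≫ p₂) ≫ l = c.π
      rw [Category.assoc, show p₂ ≫ l = e.hom ≫ c.π from hl, Iso.inv_hom_id_assoc]
    · show p₂ ≫ m = p₂ ≫ l
      rw [show p₂ ≫ l = e.hom ≫ c.π from hl, ← show (e.inv ≫ p₂) ≫ m = c.π from hm', Category.assoc,
        Iso.hom_inv_id_assoc]
  · rw [Category.assoc, show p₂ ≫ q = W'.ι ≫ U.ι ≫ G.pU from hpq, reassoc_of% he]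

end Groth.Agent.Lib.GrpdGen
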