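import Groth.Agent.Lib.GrpdGen.Fitting
import Groth.Agent.Lib.GrpdQuot.Invariant
import Groth.Agent.Lib.HilbD.Glue
import Groth.Agent.S6892
import Groth.Agent.S4613

/-!
# The invariant stratification of a groupoid by the rank of the source

`E G r` is the locus where the source has rank `r + 1`; `thick G Q` is the thickening-free model of a
disjoint union of opens `Q r ⊆ E G r`.
-/

universe u

open CategoryTheory CategoryTheory.Limits AlgebraicGeometry TopologicalSpace

namespace Groth.Agent.Lib.GrpdGen.Strata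

open Groth.Agent Groth.Agent.Lib Groth.Agent.Lib.GrpdGen.Fitting
open Groth.Agent.Lib.GrpdQuot (core isOpen_core core_subset mem_core_iff_of_arrow isInvariant_core)

set_option linter.style.haveILetI false

theorem comap_bot {X Y : Scheme.{u}} (f : X ⟶ Y) : (⊥ : Y.IdealSheafData).comap f = ⊥ :=
  le_bot_iff.1 (Scheme.IdealSheafData.le_map_iff_comap_le.1 bot_le)

theorem comap_subschemeι {X : Scheme.{u}} (I : X.IdealSheafData) : I.comap I.subschemeι = ⊥ :=
  le_bot_iff.1 (Scheme.IdealSheafData.le_map_iff_comap_le.1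
    (by rw [Scheme.IdealSheafData.map_bot, Scheme.IdealSheafData.ker_subschemeι]))

theorem eq_top_of_support_eq_empty {X : Scheme.{u}} (I : X.IdealSheafData)
    (h : (I.support : Set X) = ∅) : I = ⊤ :=
  (Scheme.IdealSheafData.support_eq_bot_iff I).1 (SetLike.coe_injective h)

variable {S : Scheme.{u}} (G : Grpd.GroupoidScheme S) [IsFinite G.s]

/-- The Fitting stratification of the objects. -/
noncomputable abbrev Z (r : ℕ) : G.U.IdealSheafData := fitt G.s r

theorem Z_zero : Z G 0 = ⊥ := fitt_zero G.s G.e_s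

theorem Z_mono : Monotone (Z G) := fun _ _ h => fitt_mono G.s h

theorem iInter_support : (⋂ r, ((Z G r).support : Set G.U)) = ∅ :=
  Set.eq_empty_of_forall_notMem fun x hx => by
    obtain ⟨r, hr⟩ := exists_notMem_support G.s x
    exact hr (Set.mem_iInter.1 hx r)

/-- The Fitting ideals pull back equally along source and target. -/
theorem comap_t_eq_comap_s (r : ℕ) : (Z G r).comap G.t = (Z G r).comap G.s :=
  (fitt_comap G.s (IsPullback.of_hasPullback G.s G.t) r).symm.trans
    (fitt_comap G.s (H63.GrpdBasic.isPullback_c_snd G) r)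

theorem exists_iso_of_comap_eq (I : G.U.IdealSheafData) (h : I.comap G.t = I.comap G.s) :
    ∃ φ : pullback G.s I.subschemeι ≅ pullback G.t I.subschemeι,
      φ.hom ≫ pullback.fst G.t I.subschemeι = pullback.fst G.s I.subschemeι := by
  have h' : (pullback.fst G.t I.subschemeι).ker = (pullback.fst G.s I.subschemeι).ker := h
  haveI := IsClosedImmersion.isIso_lift _ _ h'
  exact ⟨asIso (IsClosedImmersion.lift _ _ h'.le), IsClosedImmersion.lift_fac _ _ _⟩

/-- The points where the source has rank `r + 1`. -/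
def E (r : ℕ) : Set G.U := ((Z G r).support : Set G.U) ∩ ((Z G (r + 1)).support : Set G.U)ᶜ

theorem mem_support_iff (r : ℕ) (a : G.R) :
    G.s a ∈ (Z G r).support ↔ G.t a ∈ (Z G r).support := by
  have h := congrArg (fun I : G.R.IdealSheafData => a ∈ I.support) (comap_t_eq_comap_s G r)
  simp only [Scheme.IdealSheafData.support_comap] at h
  exact (iff_of_eq h).symm

theorem exists_mem_E (x : G.U) : ∃ r, x ∈ E G r := by
  classical
  have hex := exists_notMem_support G.s x
  rcases hn : Nat.find hex with _ | n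
  · exfalso
    have := Nat.find_spec hex
    rw [hn] at this
    apply this
    change x ∈ (Z G 0).support
    rw [Z_zero, Scheme.IdealSheafData.support_bot]
    trivial
  · refine ⟨n, not_not.1 (Nat.find_min hex (by omega)), ?_⟩
    have := Nat.find_spec hex
    rw [hn] at this
    exact this

theorem eq_of_mem_E {x : G.U} {r r' : ℕ} (h : x ∈ E G r) (h' : x ∈ E G r') : r = r' := by
  have key : ∀ {a b : ℕ}, x ∈ E G a → x ∈ E G b → a < b → False := fun ha hb hab =>
    ha.2 (Scheme.IdealSheafData.support_antitone (Z_mono G (by omega : _ + 1 ≤ _)) hb.1)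
  rcases lt_trichotomy r r' with h1 | h1 | h1
  · exact (key h h' h1).elim
  · exact h1
  · exact (key h' h h1).elim

theorem mem_E_iff (r : ℕ) (a : G.R) : G.s a ∈ E G r ↔ G.t a ∈ E G r :=
  and_congr (mem_support_iff G r a) (not_congr (mem_support_iff G (r + 1) a))

/-- Over a stratum the source is locally free. -/
theorem isFinLocFreeOfDeg_snd {D : Scheme.{u}} (h : D ⟶ G.U) (r : ℕ)
    (h0 : (Z G r).comap h = ⊥) (hE : Set.range h ⊆ ((Z G (r + 1)).support : Set G.U)ᶜ) :
    Mor2.IsFinLocFreeOfDeg (r + 1) (pullback.snd G.s h) := by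
  refine isFinLocFreeOfDeg _ ?_ ?_
  · rw [fitt_comap G.s (IsPullback.of_hasPullback G.s h) r, h0]
  · rw [fitt_comap G.s (IsPullback.of_hasPullback G.s h) (r + 1)]
    refine eq_top_of_support_eq_empty _ ?_
    rw [Scheme.IdealSheafData.support_comap]
    exact Set.eq_empty_of_forall_notMem fun y hy => hE ⟨y, rfl⟩ hy

/-- The largest invariant open inside a stratum. -/
def W (r : ℕ) : G.U.Opens := ⟨core G ⟨interior (E G r), isOpen_interior⟩, isOpen_core G _⟩

theorem W_subset_E (r : ℕ) : (W G r : Set G.U) ⊆ E G r :=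
  (core_subset G _).trans interior_subset

theorem W_inv (r : ℕ) : G.s ⁻¹ᵁ W G r = G.t ⁻¹ᵁ W G r := isInvariant_core G _

theorem le_W {r : ℕ} (O : G.U.Opens) (hO : (O : Set G.U) ⊆ E G r)
    (hinv : ∀ a : G.R, G.s a ∈ O → G.t a ∈ O) : O ≤ W G r :=
  fun _ hx a ha => interior_maximal hO O.2 (hinv a (ha.symm ▸ hx))

/-- Every orbit meets the closure of the union of the `W r`. -/
theorem exists_mem_closure [IsFinite G.t] (u : G.U) :
    ∃ a : G.R, G.t a = u ∧ G.s a ∈ closure ((⨆ r, W G r : G.U.Opens) : Set G.U) := by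
  by_contra hne
  push_neg at hne
  let N : G.U.Opens := ⟨(closure ((⨆ r, W G r : G.U.Opens) : Set G.U))ᶜ, isClosed_closure.isOpen_compl⟩
  let O : G.U.Opens := ⟨core G N, isOpen_core G N⟩
  have hu : u ∈ O := fun a ha => hne (G.i a)
    (GrpdQuot.t_i_apply G a |>.trans ha) |> fun h => by rwa [GrpdQuot.s_i_apply] at h
  classical
  have hex : ∃ r, ∃ y ∈ O, y ∈ E G r := by
    obtain ⟨r, hr⟩ := exists_mem_E G u
    exact ⟨r, u, hu, hr⟩
  obtain ⟨y, hyO, hyE⟩ := Nat.find_spec hex
  let r := Nat.find hex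
  let C : G.U.Opens := ⟨((Z G (r + 1)).support : Set G.U)ᶜ, (Z G (r + 1)).support.2.isOpen_compl⟩
  have hle : O ⊓ C ≤ W G r := by
    refine le_W G _ (fun z hz => ?_) fun a ha => ?_
    · obtain ⟨r', hr'⟩ := exists_mem_E G z
      have h1 : r ≤ r' := Nat.find_min' hex ⟨z, hz.1, hr'⟩
      have h2 : r' ≤ r := by
        by_contra hlt
        exact hz.2 (Scheme.IdealSheafData.support_antitone (Z_mono G (by omega : r + 1 ≤ r')) hr'.1)
      rwa [show r = r' by omega]
    · exact ⟨(mem_core_iff_of_arrow G N a).1 ha.1,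
        fun h => ha.2 ((mem_support_iff G (r + 1) a).2 h)⟩
  exact core_subset G N hyO (subset_closure (Opens.mem_iSup.2 ⟨r, hle ⟨hyO, hyE.2⟩⟩))

/-- Maximal points lie in the interior of their stratum. -/
theorem mem_interior_E [LocallyOfFinitePresentation G.s] {y : G.U} {r : ℕ} (hy : y ∈ E G r)
    (hgen : ∀ x : G.U, x ⤳ y → x = y) : y ∈ interior (E G r) := by
  obtain ⟨U, hU, hyU, -⟩ := exists_isAffineOpen_mem_and_subset (show y ∈ (⊤ : G.U.Opens) from trivial)
  letI := (G.s.app U).hom.toAlgebra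
  haveI := finite_sections G.s ⟨U, hU⟩
  haveI : Algebra.FinitePresentation Γ(G.U, U) Γ(G.R, G.s ⁻¹ᵁ U) := by
    have := G.s.finitePresentation_appLE hU (hU.preimage G.s) le_rfl
    rw [← Scheme.Hom.app_eq_appLE] at this
    exact RingHom.finitePresentation_algebraMap.1 this
  haveI : Module.FinitePresentation Γ(G.U, U) Γ(G.R, G.s ⁻¹ᵁ U) :=
    Module.FinitePresentation.of_finite_of_finitePresentation _ _
  have hfg : ((Z G r).ideal ⟨U, hU⟩).FG :=
    (S6892.result (R := Γ(G.U, U)) Γ(G.R, G.s ⁻¹ᵁ U) Γ(G.R, G.s ⁻¹ᵁ U) r).2.1 ‹_›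
  let p := hU.primeIdealOf ⟨y, hyU⟩
  have hmin : p.asIdeal ∈ minimalPrimes Γ(G.U, U) := by
    refine ⟨⟨p.2, bot_le⟩, fun q hq hle => ?_⟩
    haveI := hq.1
    have h1 : hU.fromSpec ⟨q, hq.1⟩ = y := by
      refine hgen _ ?_
      have := ((PrimeSpectrum.le_iff_specializes ⟨q, hq.1⟩ p).1 hle).map hU.fromSpec.continuous
      rwa [hU.fromSpec_primeIdealOf] at this
    have h2 : (⟨q, hq.1⟩ : PrimeSpectrum _) = p :=
      hU.fromSpec.isOpenEmbedding.injective (h1.trans (hU.fromSpec_primeIdealOf ⟨y, hyU⟩).symm)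
    exact (congrArg PrimeSpectrum.asIdeal h2).ge
  have hmem : ∀ (x : G.U) (hx : x ∈ U), x ∈ (Z G r).support ↔
      (Z G r).ideal ⟨U, hU⟩ ≤ (hU.primeIdealOf ⟨x, hx⟩).asIdeal := fun x hx => by
    have : hU.fromSpec (hU.primeIdealOf ⟨x, hx⟩) ∈ ((Z G r).support : Set G.U) ↔
        hU.primeIdealOf ⟨x, hx⟩ ∈ hU.fromSpec ⁻¹' ((Z G r).support : Set G.U) := Iff.rfl
    rw [hU.fromSpec_primeIdealOf] at this
    refine this.trans ?_
    have h := (Z G r).coe_support_inter ⟨U, hU⟩
    have h' : hU.fromSpec ⁻¹' (((Z G r).support : Set G.U) ∩ U) =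
        hU.fromSpec ⁻¹' (G.U.zeroLocus (U := U) ((Z G r).ideal ⟨U, hU⟩) ∩ U) := congrArg _ h
    rw [Set.preimage_inter, Set.preimage_inter] at h'
    rw [show hU.fromSpec ⁻¹' (U : Set G.U) = Set.univ by
      rw [← hU.range_fromSpec, Set.preimage_range], Set.inter_univ, Set.inter_univ,
      hU.fromSpec_preimage_zeroLocus] at h'
    rw [h']
    exact Iff.rfl
  have key : ∀ f ∈ (Z G r).ideal ⟨U, hU⟩, ∃ g ∉ p.asIdeal, IsNilpotent (g * f) := fun f hf => by
    have hsub : Subsingleton (PrimeSpectrum (Localization.AtPrime p.asIdeal)) :=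
      IsLocalization.subsingleton_primeSpectrum_of_mem_minimalPrimes p.asIdeal hmin _
    have hnil : IsNilpotent (algebraMap _ (Localization.AtPrime p.asIdeal) f) := by
      rw [nilpotent_iff_mem_prime]
      intro J hJ
      have hJm : (⟨J, hJ⟩ : PrimeSpectrum (Localization.AtPrime p.asIdeal)) =
          ⟨IsLocalRing.maximalIdeal _, inferInstance⟩ := Subsingleton.elim _ _
      rw [show J = IsLocalRing.maximalIdeal _ from congrArg PrimeSpectrum.asIdeal hJm,
        IsLocalization.AtPrime.to_map_mem_maximal_iff _ p.asIdeal]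
      exact (hmem y hyU).1 hy.1 hf
    obtain ⟨N, hN⟩ := hnil
    rw [← map_pow, IsLocalization.map_eq_zero_iff p.asIdeal.primeCompl] at hN
    obtain ⟨g, hg⟩ := hN
    refine ⟨g, g.2, N + 1, ?_⟩
    rw [mul_pow, pow_succ (g : Γ(G.U, U)), mul_assoc, pow_succ f, ← mul_assoc (g : Γ(G.U, U)), hg,
      zero_mul, mul_zero]
  obtain ⟨s, hs⟩ := hfg
  choose! g hg hgn using key
  let c := ∏ f ∈ s, g f
  have hc : c ∉ p.asIdeal := by
    intro h
    obtain ⟨f, hf, hfp⟩ := (p.2.prod_mem_iff).1 h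
    exact hg f (hs ▸ Ideal.subset_span hf) hfp
  refine mem_interior.2 ⟨(G.U.basicOpen c : Set G.U) ∩ ((Z G (r + 1)).support : Set G.U)ᶜ, ?_,
    (G.U.basicOpen c).2.inter (Z G (r + 1)).support.2.isOpen_compl, ?_, hy.2⟩
  · rintro x ⟨hx, hx'⟩
    have hxU : x ∈ U := G.U.basicOpen_le c hx
    refine ⟨(hmem x hxU).2 ?_, hx'⟩
    have hcx : c ∉ (hU.primeIdealOf ⟨x, hxU⟩).asIdeal := by
      change hU.primeIdealOf ⟨x, hxU⟩ ∈ PrimeSpectrum.basicOpen c
      rw [← hU.fromSpec_preimage_basicOpen]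
      change hU.fromSpec _ ∈ G.U.basicOpen c
      rwa [hU.fromSpec_primeIdealOf]
    rw [← hs, Ideal.span_le]
    intro f hf
    have hgf : g f * f ∈ (hU.primeIdealOf ⟨x, hxU⟩).asIdeal :=
      nilpotent_iff_mem_prime.1 (hgn f (hs ▸ Ideal.subset_span hf)) _ inferInstance
    refine ((hU.primeIdealOf ⟨x, hxU⟩).2.mem_or_mem hgf).resolve_left fun h => hcx ?_
    exact Ideal.mem_of_dvd _ (Finset.dvd_prod_of_mem g hf) h
  · change y ∈ G.U.basicOpen c
    have : p ∈ PrimeSpectrum.basicOpen c := hc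
    rw [← hU.fromSpec_preimage_basicOpen] at this
    change hU.fromSpec p ∈ G.U.basicOpen c at this
    rwa [hU.fromSpec_primeIdealOf] at this

theorem mem_W_of_maximal [LocallyOfFinitePresentation G.s] {u : G.U}
    (hu : ∀ a : G.R, G.s a = u → ∀ x : G.U, x ⤳ G.t a → x = G.t a) :
    ∃ r, u ∈ W G r := by
  obtain ⟨r, hr⟩ := exists_mem_E G u
  exact ⟨r, fun a ha => mem_interior_E G ((mem_E_iff G r a).1 (ha.symm ▸ hr)) (hu a ha)⟩

/-- Fitting strata are cut out by finitely presented ideals. -/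
theorem locallyOfFinitePresentation_subschemeι [LocallyOfFinitePresentation G.s] (r : ℕ) :
    LocallyOfFinitePresentation (Z G r).subschemeι := by
  rw [S4613.result]
  intro U
  rw [Scheme.IdealSheafData.ker_subschemeι_app]
  letI := (G.s.app U.1).hom.toAlgebra
  haveI := finite_sections G.s U
  haveI : Algebra.FinitePresentation Γ(G.U, U.1) Γ(G.R, G.s ⁻¹ᵁ U.1) := by
    have := G.s.finitePresentation_appLE U.2 (U.2.preimage G.s) le_rfl
    rw [← Scheme.Hom.app_eq_appLE] at this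
    exact RingHom.finitePresentation_algebraMap.1 this
  haveI : Module.FinitePresentation Γ(G.U, U.1) Γ(G.R, G.s ⁻¹ᵁ U.1) :=
    Module.FinitePresentation.of_finite_of_finitePresentation _ _
  exact (S6892.result (R := Γ(G.U, U.1)) Γ(G.R, G.s ⁻¹ᵁ U.1) Γ(G.R, G.s ⁻¹ᵁ U.1) r).2.1 ‹_›

section Thick

variable {G} (Q : ℕ → G.U.Opens) (hQ : ∀ r, (Q r : Set G.U) ⊆ E G r)

/-- The union of the chosen opens. -/
abbrev V : G.U.Opens := ⨆ r, Q r

/-- The inclusion of one piece. -/
noncomputable abbrev piece (r : ℕ) : (Q r : Scheme.{u}) ⟶ V Q := G.U.homOfLE (le_iSup Q r)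

/-- The cover of the union by the pieces. -/
noncomputable def cover : (V Q : Scheme.{u}).OpenCover :=
  Scheme.Cover.mkOfCovers ℕ (fun r => (Q r : Scheme.{u})) (piece Q) (fun x => by
    obtain ⟨r, hr⟩ := Opens.mem_iSup.1 x.2
    exact ⟨r, ⟨x.1, hr⟩, Subtype.ext (by simp)⟩) fun r => inferInstance

include hQ in
theorem compat (i j : ℕ) :
    ((Z G i).comap (Q i).ι).comap (pullback.fst (piece Q i) (piece Q j)) =
      ((Z G j).comap (Q j).ι).comap (pullback.snd (piece Q i) (piece Q j)) := by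
  by_cases hij : i = j
  · subst hij
    rw [(cancel_mono (piece Q i)).1 (pullback.condition (f := piece Q i) (g := piece Q i))]
  · have hE : IsEmpty ↥(pullback (piece Q i) (piece Q j)) := ⟨fun z => by
      have h : pullback.fst (piece Q i) (piece Q j) ≫ (Q i).ι =
          pullback.snd (piece Q i) (piece Q j) ≫ (Q j).ι := by
        have := congrArg (fun k => k ≫ (V Q).ι) (pullback.condition (f := piece Q i) (g := piece Q j))
        simpa [piece] using this
      have hz := congrArg (fun k : pullback (piece Q i) (piece Q j) ⟶ G.U => k z) h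
      simp only [Scheme.Hom.comp_apply] at hz
      refine hij (eq_of_mem_E G (hQ i (pullback.fst (piece Q i) (piece Q j) z).2) ?_)
      change (Q i).ι (pullback.fst (piece Q i) (piece Q j) z) ∈ E G j
      rw [hz]
      exact hQ j (pullback.snd (piece Q i) (piece Q j) z).2⟩
    exact (eq_top_of_support_eq_empty _ (Set.eq_empty_of_isEmpty _)).trans
      (eq_top_of_support_eq_empty _ (Set.eq_empty_of_isEmpty _)).symm

/-- The closed subscheme of the union which is the stratum on each piece. -/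
noncomputable def thick : (V Q : Scheme.{u}).IdealSheafData :=
  HilbD.Glue.glue (cover Q) (fun r => (Z G r).comap (Q r).ι) (compat Q hQ)

theorem comap_piece (r : ℕ) : (thick Q hQ).comap (piece Q r) = (Z G r).comap (Q r).ι :=
  HilbD.Glue.comap_glue (cover Q) (fun r => (Z G r).comap (Q r).ι) (compat Q hQ) r

theorem thick_support : (thick Q hQ).support = ⊤ := by
  refine SetLike.coe_injective (Set.eq_univ_of_forall fun x => ?_)
  obtain ⟨r, z, rfl⟩ := (cover Q).exists_eq x
  have h := congrArg (fun I : (Q r : Scheme.{u}).IdealSheafData => z ∈ I.support) (comap_piece Q hQ r)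
  simp only [Scheme.IdealSheafData.support_comap] at h
  exact (iff_of_eq h).2 (hQ r z.2).1

/-- The inclusion of the thickened union. -/
noncomputable abbrev incl : (thick Q hQ).subscheme ⟶ G.U := (thick Q hQ).subschemeι ≫ (V Q).ι

instance : Mono (incl Q hQ) := mono_comp _ _

theorem exists_lift_iff {T : Scheme.{u}} (x : T ⟶ G.U) :
    (∃ y, y ≫ incl Q hQ = x) ↔
      Set.range x ⊆ V Q ∧ ∀ r, (Z G r).comap ((x ⁻¹ᵁ Q r).ι ≫ x) = ⊥ := by
  constructor
  · rintro ⟨y, rfl⟩
    refine ⟨?_, fun r => ?_⟩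
    · rintro _ ⟨z, rfl⟩
      exact ((thick Q hQ).subschemeι (y z)).2
    let P := (y ≫ incl Q hQ) ⁻¹ᵁ Q r
    let k : (P : Scheme.{u}) ⟶ Q r := IsOpenImmersion.lift (Q r).ι (P.ι ≫ y ≫ incl Q hQ) (by
      rintro _ ⟨z, rfl⟩
      rw [Scheme.Opens.range_ι]
      exact z.2)
    have hk : k ≫ (Q r).ι = P.ι ≫ y ≫ incl Q hQ := IsOpenImmersion.lift_fac _ _ _
    have hk' : k ≫ piece Q r = P.ι ≫ y ≫ (thick Q hQ).subschemeι := by
      rw [← cancel_mono (V Q).ι]
      simpa [incl] using hk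
    rw [← hk, Scheme.IdealSheafData.comap_comp, ← comap_piece Q hQ r,
      ← Scheme.IdealSheafData.comap_comp, hk', Scheme.IdealSheafData.comap_comp,
      Scheme.IdealSheafData.comap_comp, comap_subschemeι, comap_bot, comap_bot]
  · rintro ⟨hx, hZ⟩
    let y₀ : T ⟶ V Q := IsOpenImmersion.lift (V Q).ι x (by rwa [Scheme.Opens.range_ι])
    have hy₀ : y₀ ≫ (V Q).ι = x := IsOpenImmersion.lift_fac _ _ _
    have hker : (thick Q hQ).subschemeι.ker ≤ y₀.ker := by
      rw [Scheme.IdealSheafData.ker_subschemeι, ← Scheme.IdealSheafData.map_bot,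
        Scheme.IdealSheafData.le_map_iff_comap_le, le_bot_iff]
      let 𝒯 : T.OpenCover := Scheme.Cover.mkOfCovers ℕ (fun r => (x ⁻¹ᵁ Q r : T.Opens).toScheme)
        (fun r => (x ⁻¹ᵁ Q r).ι) (fun z => by
          obtain ⟨r, hr⟩ := Opens.mem_iSup.1 (hx ⟨z, rfl⟩)
          exact ⟨r, ⟨z, hr⟩, rfl⟩) fun r => inferInstance
      refine HilbD.Glue.ext 𝒯 fun r => ?_
      let k : ((x ⁻¹ᵁ Q r : T.Opens) : Scheme.{u}) ⟶ Q r :=
        IsOpenImmersion.lift (Q r).ι ((x ⁻¹ᵁ Q r).ι ≫ x) (by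
          rintro _ ⟨z, rfl⟩
          rw [Scheme.Opens.range_ι]
          exact z.2)
      have hk : k ≫ (Q r).ι = (x ⁻¹ᵁ Q r).ι ≫ x := IsOpenImmersion.lift_fac _ _ _
      have hk' : (x ⁻¹ᵁ Q r).ι ≫ y₀ = k ≫ piece Q r := by
        rw [← cancel_mono (V Q).ι]
        simp [hy₀, hk]
      change ((thick Q hQ).comap y₀).comap (x ⁻¹ᵁ Q r).ι = (⊥ : T.IdealSheafData).comap _
      rw [← Scheme.IdealSheafData.comap_comp, hk', Scheme.IdealSheafData.comap_comp, comap_piece,
        ← Scheme.IdealSheafData.comap_comp, hk, hZ, comap_bot]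
    exact ⟨IsClosedImmersion.lift _ _ hker, by
      rw [incl, IsClosedImmersion.lift_fac_assoc, hy₀]⟩

variable (hQi : ∀ r, G.s ⁻¹ᵁ Q r = G.t ⁻¹ᵁ Q r)

include hQi in
theorem V_inv : G.s ⁻¹ᵁ V Q = G.t ⁻¹ᵁ V Q := by
  simp only [V, Scheme.Hom.preimage_iSup, hQi]

include hQi in
theorem factor_iff {T : Scheme.{u}} (x : T ⟶ G.R) :
    (∃ y, y ≫ incl Q hQ = x ≫ G.s) ↔ ∃ y, y ≫ incl Q hQ = x ≫ G.t := by
  have hm : ∀ r (z : T), G.s (x z) ∈ Q r ↔ G.t (x z) ∈ Q r := fun r z =>
    iff_of_eq (congrArg (fun O : G.R.Opens => x z ∈ O) (hQi r))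
  rw [exists_lift_iff, exists_lift_iff]
  refine and_congr ?_ (forall_congr' fun r => ?_)
  · rw [Set.range_subset_iff, Set.range_subset_iff]
    refine forall_congr' fun z => ?_
    exact iff_of_eq (congrArg (fun O : G.R.Opens => x z ∈ O) (V_inv Q hQi))
  · have e : (x ≫ G.s) ⁻¹ᵁ Q r = (x ≫ G.t) ⁻¹ᵁ Q r := Opens.ext (Set.ext (hm r))
    rw [e, ← Category.assoc, ← Category.assoc, Scheme.IdealSheafData.comap_comp _ _ G.s,
      Scheme.IdealSheafData.comap_comp _ _ G.t, comap_t_eq_comap_s]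

include hQi in
theorem exists_iso : ∃ φ : pullback G.s (incl Q hQ) ≅ pullback G.t (incl Q hQ),
    φ.hom ≫ pullback.fst G.t (incl Q hQ) = pullback.fst G.s (incl Q hQ) := by
  obtain ⟨y, hy⟩ := (factor_iff Q hQ hQi (pullback.fst G.s (incl Q hQ))).1
    ⟨_, (pullback.condition).symm⟩
  obtain ⟨y', hy'⟩ := (factor_iff Q hQ hQi (pullback.fst G.t (incl Q hQ))).2
    ⟨_, (pullback.condition).symm⟩
  refine ⟨⟨pullback.lift _ y hy.symm, pullback.lift _ y' hy'.symm, ?_, ?_⟩, pullback.lift_fst _ _ _⟩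
  · rw [← cancel_mono (pullback.fst G.s (incl Q hQ))]
    simp only [Category.assoc, Category.id_comp]
    exact (congrArg (pullback.lift _ y hy.symm ≫ ·) (pullback.lift_fst _ _ _)).trans
      (pullback.lift_fst _ _ _)
  · rw [← cancel_mono (pullback.fst G.t (incl Q hQ))]
    simp only [Category.assoc, Category.id_comp]
    exact (congrArg (pullback.lift _ y' hy'.symm ≫ ·) (pullback.lift_fst _ _ _)).trans
      (pullback.lift_fst _ _ _)

theorem isFinLocFree_snd_s : Mor2.IsFinLocFree (pullback.snd G.s (incl Q hQ)) := by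
  let P : ℕ → (thick Q hQ).subscheme.Opens := fun r => incl Q hQ ⁻¹ᵁ Q r
  have hP : iSup P = ⊤ := by
    refine eq_top_iff.2 fun z _ => ?_
    obtain ⟨r, hr⟩ := Opens.mem_iSup.1 ((thick Q hQ).subschemeι z).2
    exact Opens.mem_iSup.2 ⟨r, hr⟩
  have hloc : ∀ r, Mor2.IsFinLocFree (pullback.snd G.s (incl Q hQ) ∣_ P r) := fun r => by
    let h := (P r).ι ≫ incl Q hQ
    have h0 : (Z G r).comap h = ⊥ := ((exists_lift_iff Q hQ (incl Q hQ)).1 ⟨𝟙 _, Category.id_comp _⟩).2 r
    have hE : Set.range h ⊆ ((Z G (r + 1)).support : Set G.U)ᶜ := by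
      rintro _ ⟨z, rfl⟩
      exact (hQ r z.2).2
    obtain ⟨⟨h1, h2, h3⟩, -⟩ := isFinLocFreeOfDeg_snd G h r h0 hE
    have sq := (isPullback_morphismRestrict (pullback.snd G.s (incl Q hQ)) (P r)).paste_vert
      (IsPullback.of_hasPullback G.s (incl Q hQ)).flip
    have e : Arrow.mk (pullback.snd G.s (incl Q hQ) ∣_ P r) ≅ Arrow.mk (pullback.snd G.s h) :=
      Arrow.isoMk (sq.flip.isoPullback) (Iso.refl _)
        (sq.flip.isoPullback_hom_snd.trans (Category.comp_id _).symm)
    exact ⟨(MorphismProperty.arrow_mk_iso_iff @IsFinite e).2 h1,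
      (MorphismProperty.arrow_mk_iso_iff @Flat e).2 h2,
      (MorphismProperty.arrow_mk_iso_iff @LocallyOfFinitePresentation e).2 h3⟩
  exact ⟨IsZariskiLocalAtTarget.of_iSup_eq_top P hP fun r => (hloc r).1,
    IsZariskiLocalAtTarget.of_iSup_eq_top P hP fun r => (hloc r).2.1,
    IsZariskiLocalAtTarget.of_iSup_eq_top P hP fun r => (hloc r).2.2⟩

include hQi in
theorem isFinLocFree_snd_t : Mor2.IsFinLocFree (pullback.snd G.t (incl Q hQ)) := by
  have hi : IsIso G.i := ⟨G.i, by rw [H63.GrpdBasic.i_i], by rw [H63.GrpdBasic.i_i]⟩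
  obtain ⟨h1, h2, h3⟩ := isFinLocFree_snd_s Q hQ
  have sq : IsPullback (pullback.fst G.s (incl Q hQ) ≫ G.i) (pullback.snd G.s (incl Q hQ)) G.t
      (incl Q hQ) := by
    refine IsPullback.of_iso (IsPullback.of_hasPullback G.s (incl Q hQ)) (Iso.refl _) (asIso G.i)
      (Iso.refl _) (Iso.refl _) ?_ ?_ ?_ ?_ <;> simp [G.i_t]
  have e : Arrow.mk (pullback.snd G.s (incl Q hQ)) ≅ Arrow.mk (pullback.snd G.t (incl Q hQ)) :=
    Arrow.isoMk sq.isoPullback (Iso.refl _) (by simp)
  exact ⟨(MorphismProperty.arrow_mk_iso_iff @IsFinite e).1 h1,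
    (MorphismProperty.arrow_mk_iso_iff @Flat e).1 h2,
    (MorphismProperty.arrow_mk_iso_iff @LocallyOfFinitePresentation e).1 h3⟩

theorem lofp [LocallyOfFinitePresentation G.s] :
    LocallyOfFinitePresentation (thick Q hQ).subschemeι := by
  refine IsZariskiLocalAtTarget.of_openCover (𝒰 := cover Q) fun r => ?_
  have h1 : IsClosedImmersion (pullback.snd (thick Q hQ).subschemeι (piece Q r)) := inferInstance
  have h2 : LocallyOfFinitePresentation (pullback.fst (Q r).ι (Z G r).subschemeι) := by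
    haveI := locallyOfFinitePresentation_subschemeι G r
    infer_instance
  have h3 : LocallyOfFinitePresentation (pullback.fst (piece Q r) (thick Q hQ).subschemeι) := by
    have hk : (pullback.fst (Q r).ι (Z G r).subschemeι).ker =
        (pullback.fst (piece Q r) (thick Q hQ).subschemeι).ker := (comap_piece Q hQ r).symm
    haveI := IsClosedImmersion.isIso_lift _ _ hk
    have := IsClosedImmersion.lift_fac _ _ hk.le
    rw [← this]
    infer_instance
  change LocallyOfFinitePresentation (pullback.snd (thick Q hQ).subschemeι (piece Q r))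
  rw [← pullbackSymmetry_hom_comp_fst]
  exact inferInstanceAs (LocallyOfFinitePresentation ((pullbackSymmetry _ _).hom ≫ _))

end Thick

end Groth.Agent.Lib.GrpdGen.Strata
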