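import Groth.Agent.Lib.GrpdGen.InvBasic
import Groth.Agent.Lib.GrpdGen.Strata
import Groth.Agent.H75.GenPts.Basic

/-!
# Invariant affine neighbourhoods of finitely many maximal orbits
-/

universe u

open CategoryTheory CategoryTheory.Limits AlgebraicGeometry TopologicalSpace

namespace Groth.Agent.Lib.GrpdGen.InvAffine

open Groth.Agent Groth.Agent.Lib
open Groth.Agent.Lib.GrpdQuot (core isOpen_core core_subset mem_core_iff_of_arrow isInvariant_core
  exists_comp_point exists_basicOpen_le_of_finite)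

set_option linter.style.haveILetI false

/-- Finitely many maximal points of a quasi-separated scheme lie in an affine open inside any given
open containing them. -/
theorem exists_affine_of_maximal {X : Scheme.{u}} [QuasiSeparatedSpace X] (O : Set X) (hO : O.Finite)
    (hgen : ∀ y ∈ O, ∀ x : X, x ⤳ y → x = y) (N : X.Opens) (hN : O ⊆ N) :
    ∃ U : X.Opens, IsAffineOpen U ∧ O ⊆ U ∧ U ≤ N := by
  haveI := hO.to_subtype
  have hirr : ∀ y : O, closure ({(y : X)} : Set X) ∈ irreducibleComponents (X : Type u) := fun y => by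
    refine ⟨isIrreducible_singleton.closure, fun Z hZ hle => ?_⟩
    obtain ⟨ξ, hξ⟩ := QuasiSober.sober hZ.closure isClosed_closure
    have hy : (y : X) ∈ closure ({ξ} : Set X) := hξ.symm ▸ subset_closure (hle (subset_closure rfl))
    have : ξ = y := hgen y y.2 ξ (specializes_iff_mem_closure.2 hy)
    subst this
    exact subset_closure.trans hξ.symm.subset
  obtain ⟨U, hU, hd⟩ := H75.GenPts.exists_disjoint_affine (fun y : O => (y : X)) hirr
    Subtype.val_injective (fun _ => N) fun y => hN y.2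
  refine ⟨⨆ y, U y, IsAffineOpen.iSup_of_disjoint (fun y => (hU y).1) (fun i j hij => hd i j hij),
    fun y hy => Opens.mem_iSup.2 ⟨⟨y, hy⟩, (hU ⟨y, hy⟩).2.1⟩, iSup_le fun y => (hU y).2.2⟩

variable {S : Scheme.{u}} (G : Grpd.GroupoidScheme S)
variable [IsFinite G.s] [LocallyOfFinitePresentation G.s]

/-- An invariant affine neighbourhood of finitely many maximal orbits. -/
theorem exists_invariant_affine [QuasiSeparatedSpace G.U] (O : Set G.U) (hO : O.Finite)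
    (hinv : ∀ r : G.R, G.s r ∈ O → G.t r ∈ O) (hgen : ∀ y ∈ O, ∀ x : G.U, x ⤳ y → x = y)
    (N : G.U.Opens) (hN : O ⊆ N) :
    ∃ W : G.U.Opens, IsAffineOpen W ∧ O ⊆ W ∧ W ≤ N ∧ G.s ⁻¹ᵁ W = G.t ⁻¹ᵁ W := by
  obtain ⟨V, hV, hOV, hVN⟩ := exists_affine_of_maximal O hO hgen N hN
  let T : G.R.Opens := G.s ⁻¹ᵁ V
  have hT : IsAffineOpen T := hV.preimage G.s
  let σ₀ : Γ(G.U, V) →+* Γ(G.R, T) := (G.s.appLE V T le_rfl).hom
  letI := σ₀.toAlgebra
  haveI : Module.Finite Γ(G.U, V) Γ(G.R, T) := by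
    have := IsFinite.finite_app (f := G.s) (U := V) hV
    rwa [← Scheme.Hom.appLE_eq_app] at this
  haveI : Algebra.FinitePresentation Γ(G.U, V) Γ(G.R, T) :=
    G.s.finitePresentation_appLE hV hT le_rfl
  haveI : Module.FinitePresentation Γ(G.U, V) Γ(G.R, T) :=
    Module.FinitePresentation.of_finite_of_finitePresentation _ _
  let F : G.U.Opens :=
    ⟨hV.fromSpec '' InvBasic.redFreeLocus (A := Γ(G.U, V)) Γ(G.R, T),
      hV.fromSpec.isOpenEmbedding.isOpenMap _ (InvBasic.isOpen_redFreeLocus _)⟩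
  have hFV : F ≤ V := by
    rintro _ ⟨p, -, rfl⟩
    rw [← SetLike.mem_coe, ← hV.range_fromSpec]
    exact ⟨p, rfl⟩
  have hOF : O ⊆ F := fun x hx => by
    refine ⟨hV.primeIdealOf ⟨x, hOV hx⟩,
      InvBasic.mem_redFreeLocus_of_mem_minimalPrimes _ _ fun q hq => ?_, hV.fromSpec_primeIdealOf _⟩
    apply hV.fromSpec.isOpenEmbedding.injective
    rw [hV.fromSpec_primeIdealOf]
    refine hgen x hx _ ?_
    have := ((PrimeSpectrum.le_iff_specializes _ _).1 (show q ≤ hV.primeIdealOf ⟨x, hOV hx⟩ from hq)).map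
      hV.fromSpec.continuous
    rwa [hV.fromSpec_primeIdealOf] at this
  let C : G.U.Opens := ⟨core G F, isOpen_core G F⟩
  have hOC : O ⊆ C := fun x hx r hr => hOF (hinv r (hr.symm ▸ hx))
  obtain ⟨f, hfC, hOf⟩ := exists_basicOpen_le_of_finite hV O hO hOC hOV
  let Ω : G.U.Opens := G.U.basicOpen f
  have hΩV : Ω ≤ V := G.U.basicOpen_le f
  let e : Γ(G.R, T) := σ₀ f
  let T' : G.R.Opens := G.R.basicOpen e
  have hT' : ∀ r : G.R, r ∈ T' ↔ G.s r ∈ Ω := fun r => by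
    change r ∈ G.R.basicOpen (G.s.appLE V T le_rfl f) ↔ _
    rw [Scheme.basicOpen_appLE]
    exact ⟨fun h => h.2, fun h => ⟨hΩV h, h⟩⟩
  have hT'V : T' ≤ G.t ⁻¹ᵁ V := fun r hr => hFV (hfC ((hT' r).1 hr) r rfl)
  let z' : Γ(G.R, T') := G.t.appLE V T' hT'V f
  haveI := hT.isLocalization_basicOpen e
  obtain ⟨⟨c, ⟨_, m, rfl⟩⟩, hc⟩ := IsLocalization.surj (Submonoid.powers e) z'
  have hz : ∀ P : Spec Γ(G.R, T), G.s (hT.fromSpec P) ∈ Ω →
      (c ∉ P.asIdeal ↔ G.t (hT.fromSpec P) ∈ Ω) := fun P hP => by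
    change P ∈ PrimeSpectrum.basicOpen c ↔ _
    rw [← hT.fromSpec_preimage_basicOpen]
    change hT.fromSpec P ∈ G.R.basicOpen c ↔ _
    have hPT : hT.fromSpec P ∈ T' := (hT' _).2 hP
    have h1 : hT.fromSpec P ∈ G.R.basicOpen c ↔
        hT.fromSpec P ∈ G.R.basicOpen (algebraMap Γ(G.R, T) Γ(G.R, T') c) := by
      change _ ↔ hT.fromSpec P ∈ G.R.basicOpen (G.R.presheaf.map (homOfLE (G.R.basicOpen_le e)).op c)
      rw [Scheme.basicOpen_res]
      exact ⟨fun h => ⟨hPT, h⟩, fun h => h.2⟩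
    rw [h1, ← hc, Scheme.basicOpen_mul, Scheme.basicOpen_of_isUnit _
      (IsLocalization.map_units _ (⟨_, m, rfl⟩ : Submonoid.powers e))]
    rw [Scheme.basicOpen_appLE]
    exact ⟨fun h => h.1.2, fun h => ⟨⟨hPT, h⟩, hPT⟩⟩
  obtain ⟨g, hg⟩ := InvBasic.exists_norm (A := Γ(G.U, V)) Γ(G.R, T) f (fun p hp => by
    have hp' : hV.fromSpec p ∈ Ω := by
      change p ∈ hV.fromSpec ⁻¹ᵁ G.U.basicOpen f
      rw [hV.fromSpec_preimage_basicOpen]
      exact hp
    obtain ⟨q, hq, he⟩ := core_subset G F (hfC hp')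
    rwa [← hV.fromSpec.isOpenEmbedding.injective he]) c
  have hf : ∀ p : Spec Γ(G.U, V), hV.fromSpec p ∈ Ω → f ∉ p.asIdeal := fun p hp => by
    change p ∈ PrimeSpectrum.basicOpen f
    rw [← hV.fromSpec_preimage_basicOpen]
    exact hp
  have hs : ∀ P : Spec Γ(G.R, T), G.s (hT.fromSpec P) =
      hV.fromSpec (PrimeSpectrum.comap σ₀ P) := fun P => by
    rw [← Scheme.Hom.comp_apply, ← IsAffineOpen.SpecMap_appLE_fromSpec G.s hV hT le_rfl]
    rfl
  have key : ∀ p : Spec Γ(G.U, V), hV.fromSpec p ∈ Ω →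
      (hV.fromSpec p ∈ G.U.basicOpen g ↔ hV.fromSpec p ∈ core G Ω) := fun p hp => by
    change p ∈ hV.fromSpec ⁻¹ᵁ G.U.basicOpen g ↔ _
    rw [hV.fromSpec_preimage_basicOpen]
    change g ∉ p.asIdeal ↔ _
    rw [hg p (hf p hp)]
    constructor
    · intro hne r hr
      obtain ⟨P, rfl⟩ : r ∈ Set.range hT.fromSpec := by
        rw [hT.range_fromSpec]
        change G.s r ∈ V
        rw [hr]; exact hΩV hp
      refine (hz P (hr.symm ▸ hp)).1 fun hP => hne ⟨P.asIdeal, P.2, ?_, hP⟩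
      exact congrArg PrimeSpectrum.asIdeal
        (hV.fromSpec.isOpenEmbedding.injective ((hs P).symm.trans hr))
    · rintro hcore ⟨P, hP, hPp, hcP⟩
      have hsP : G.s (hT.fromSpec ⟨P, hP⟩) = hV.fromSpec p :=
        (hs _).trans (congrArg hV.fromSpec (PrimeSpectrum.ext hPp))
      exact (hz ⟨P, hP⟩ (hsP.symm ▸ hp)).2 (hcore _ hsP) hcP
  have hcore : G.U.basicOpen (f * g) = (⟨core G Ω, isOpen_core G Ω⟩ : G.U.Opens) := by
    rw [Scheme.basicOpen_mul]
    ext x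
    constructor
    · rintro ⟨hx, hxg⟩
      obtain ⟨p, rfl⟩ : x ∈ Set.range hV.fromSpec := by
        rw [hV.range_fromSpec]; exact hΩV hx
      exact (key p hx).1 hxg
    · intro hx
      have hxΩ : x ∈ Ω := core_subset G Ω hx
      obtain ⟨p, rfl⟩ : x ∈ Set.range hV.fromSpec := by
        rw [hV.range_fromSpec]; exact hΩV hxΩ
      exact ⟨hxΩ, (key p hxΩ).2 hx⟩
  refine ⟨G.U.basicOpen (f * g), hV.basicOpen _, ?_, (G.U.basicOpen_le _).trans hVN, ?_⟩
  · rw [hcore]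
    exact fun x hx r hr => hOf (hinv r (hr.symm ▸ hx))
  · rw [hcore]
    exact isInvariant_core G Ω

/-- The affine thickened neighbourhood. -/
theorem exists_thick_nhd [IsFinite G.t] [QuasiSeparatedSpace G.U] (m : ℕ) (u : Fin m → G.U)
    (hu : ∀ i (r : G.R), G.s r = u i → ∀ x : G.U, x ⤳ G.t r → x = G.t r) :
    ∃ (V : G.U.Opens) (V' : (↑V : Scheme.{u}).IdealSheafData),
      IsAffineOpen V ∧ (∀ i, u i ∈ V) ∧ G.s ⁻¹ᵁ V = G.t ⁻¹ᵁ V ∧ V'.support = ⊤ ∧
      LocallyOfFinitePresentation V'.subschemeι ∧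
      (∃ φ : pullback G.s (V'.subschemeι ≫ V.ι) ≅ pullback G.t (V'.subschemeι ≫ V.ι),
        φ.hom ≫ pullback.fst G.t (V'.subschemeι ≫ V.ι) = pullback.fst G.s (V'.subschemeι ≫ V.ι)) ∧
      Mor2.IsFinLocFree (pullback.snd G.s (V'.subschemeι ≫ V.ι)) ∧
      Mor2.IsFinLocFree (pullback.snd G.t (V'.subschemeι ≫ V.ι)) := by
  let O : Set G.U := ⋃ i, G.t '' (G.s ⁻¹' {u i})
  have hO : O.Finite := Set.finite_iUnion fun i => (G.s.finite_preimage_singleton (u i)).image _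
  have hmem : ∀ y : G.U, y ∈ O ↔ ∃ (i : Fin m) (r : G.R), G.s r = u i ∧ G.t r = y := fun y => by
    simp only [O, Set.mem_iUnion, Set.mem_image, Set.mem_preimage, Set.mem_singleton_iff]
  have hinv : ∀ r : G.R, G.s r ∈ O → G.t r ∈ O := fun r hr => by
    obtain ⟨i, r', hr', he⟩ := (hmem _).1 hr
    obtain ⟨r'', ht, hs⟩ := exists_comp_point G r r' he.symm
    exact (hmem _).2 ⟨i, r'', hs.trans hr', ht⟩
  have hgen : ∀ y ∈ O, ∀ x : G.U, x ⤳ y → x = y := fun y hy x hx => by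
    obtain ⟨i, r, hr, rfl⟩ := (hmem y).1 hy
    exact hu i r hr x hx
  have huO : ∀ i, u i ∈ O := fun i =>
    (hmem _).2 ⟨i, G.e (u i), GrpdQuot.s_e_apply G _, GrpdQuot.t_e_apply G _⟩
  have hON : O ⊆ ((⨆ r, Strata.W G r : G.U.Opens) : Set G.U) := fun y hy =>
    Opens.mem_iSup.2 (Strata.mem_W_of_maximal G fun a ha x hx =>
      hgen _ (hinv a (ha.symm ▸ hy)) x hx)
  obtain ⟨W, hW, hOW, hWN, hWi⟩ := exists_invariant_affine G O hO hinv hgen _ hON
  let Q : ℕ → G.U.Opens := fun r => W ⊓ Strata.W G r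
  have hQ : ∀ r, (Q r : Set G.U) ⊆ Strata.E G r := fun r x hx => Strata.W_subset_E G r hx.2
  have hQi : ∀ r, G.s ⁻¹ᵁ Q r = G.t ⁻¹ᵁ Q r := fun r => by
    simp only [Q, Scheme.Hom.preimage_inf, hWi, Strata.W_inv G r]
  have hVW : Strata.V Q = W := by
    simp only [Strata.V, Q, ← inf_iSup_eq]
    exact inf_eq_left.2 hWN
  exact ⟨Strata.V Q, Strata.thick Q hQ, hVW ▸ hW, fun i => hVW ▸ hOW (huO i),
    Strata.V_inv Q hQi, Strata.thick_support Q hQ, Strata.lofp Q hQ,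
    Strata.exists_iso Q hQ hQi, Strata.isFinLocFree_snd_s Q hQ, Strata.isFinLocFree_snd_t Q hQ hQi⟩

end Groth.Agent.Lib.GrpdGen.InvAffine
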