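import Groth.Agent.Lib.GrpdQuot.Invariant
import Mathlib.AlgebraicGeometry.Morphisms.Immersion
import Mathlib.RingTheory.KrullDimension.Zero
import Mathlib.RingTheory.Spectrum.Prime.FreeLocus

/-!
# Invariant affine basic opens around orbits of maximal points

For a groupoid with finite source and target, the source is locally free over the reduction near a
maximal point, so a norm computed on the reduction cuts out the invariant core of a basic open.
-/

universe u

open CategoryTheory CategoryTheory.Limits AlgebraicGeometry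
open scoped TensorProduct

namespace Groth.Agent.Lib.GrpdGen.InvBasic

open Groth.Agent.Lib.GrpdQuot

section Algebra

variable {A : Type u} [CommRing A] (B : Type u) [CommRing B] [Algebra A B]

/-- The free locus of `B` over the reduction of `A`. -/
def redFreeLocus : Set (PrimeSpectrum A) :=
  {p | ∀ p' : PrimeSpectrum (A ⧸ nilradical A), p'.comap (Ideal.Quotient.mk _) = p →
    p' ∈ Module.freeLocus (A ⧸ nilradical A) ((A ⧸ nilradical A) ⊗[A] B)}

theorem isOpen_redFreeLocus [Module.FinitePresentation A B] : IsOpen (redFreeLocus (A := A) B) := by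
  let φ := PrimeSpectrum.comap (Ideal.Quotient.mk (nilradical A))
  have hsurj : Function.Surjective φ := fun p ↦
    ⟨⟨p.asIdeal.map (Ideal.Quotient.mk _),
      Ideal.map_isPrime_of_surjective Ideal.Quotient.mk_surjective
        (by rw [Ideal.mk_ker]; exact nilradical_le_prime _)⟩,
      PrimeSpectrum.ext (by
        change Ideal.comap _ (Ideal.map _ _) = _
        rw [Ideal.comap_map_of_surjective _ Ideal.Quotient.mk_surjective, ← RingHom.ker_eq_comap_bot,
          Ideal.mk_ker]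
        exact sup_eq_left.2 (nilradical_le_prime _))⟩
  have hce : Topology.IsClosedEmbedding φ :=
    PrimeSpectrum.isClosedEmbedding_comap_of_surjective _ _ Ideal.Quotient.mk_surjective
  let h := hce.toIsEmbedding.toHomeomorphOfSurjective hsurj
  have : redFreeLocus (A := A) B =
      φ '' Module.freeLocus (A ⧸ nilradical A) ((A ⧸ nilradical A) ⊗[A] B) := by
    ext p
    obtain ⟨q, rfl⟩ := hsurj p
    refine ⟨fun hp ↦ ⟨q, hp q rfl, rfl⟩, ?_⟩
    rintro ⟨q', hq', he⟩ p' hp'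
    rwa [show p' = q' from hce.injective (hp'.trans he.symm)]
  rw [this]
  exact h.isOpenMap _ Module.isOpen_freeLocus

theorem mem_redFreeLocus_of_mem_minimalPrimes (p : PrimeSpectrum A)
    (hp : ∀ q : PrimeSpectrum A, q.asIdeal ≤ p.asIdeal → q = p) :
    p ∈ redFreeLocus (A := A) B := by
  intro p' hp'
  haveI : IsReduced (A ⧸ nilradical A) :=
    (Ideal.isRadical_iff_quotient_reduced _).1 (Ideal.radical_isRadical _)
  have hmin : p'.asIdeal ∈ minimalPrimes (A ⧸ nilradical A) := by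
    refine ⟨⟨p'.2, bot_le⟩, fun q hq hle ↦ ?_⟩
    haveI := hq.1
    have h1 : (PrimeSpectrum.comap (Ideal.Quotient.mk (nilradical A)) ⟨q, hq.1⟩) = p := by
      refine hp _ ?_
      rw [← hp']
      exact Ideal.comap_mono hle
    exact (Ideal.comap_injective_of_surjective _ Ideal.Quotient.mk_surjective
      (congrArg PrimeSpectrum.asIdeal (h1.trans hp'.symm))).ge
  haveI : Ring.KrullDimLE 0 (Localization p'.asIdeal.primeCompl) := by
    rw [Ring.krullDimLE_iff, IsLocalization.AtPrime.ringKrullDim_eq_height p'.asIdeal,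
      Ideal.height_eq_zero_iff.2 hmin]
    rfl
  haveI : IsReduced (Localization p'.asIdeal.primeCompl) := inferInstance
  have hf : IsField (Localization p'.asIdeal.primeCompl) :=
    Ring.KrullDimLE.isField_of_isReduced
  rw [Module.mem_freeLocus]
  letI := hf.toField
  exact Module.Free.of_divisionRing _ _

/-- The norm of an element on the reduction, over a basic open inside the free locus. -/
theorem exists_norm [Module.Finite A B] [Module.FinitePresentation A B] (f : A)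
    (hf : (PrimeSpectrum.basicOpen f : Set (PrimeSpectrum A)) ⊆ redFreeLocus B) (z : B) :
    ∃ g : A, ∀ p : PrimeSpectrum A, f ∉ p.asIdeal →
      (g ∈ p.asIdeal ↔ ∃ P : Ideal B, P.IsPrime ∧ P.comap (algebraMap A B) = p.asIdeal ∧ z ∈ P) := by
  let A' := A ⧸ nilradical A
  let f' : A' := Ideal.Quotient.mk _ f
  let A'' := Localization.Away f'
  have hbo : (PrimeSpectrum.basicOpen f' : Set (PrimeSpectrum A')) ⊆
      Module.freeLocus A' (A' ⊗[A] B) := fun q hq ↦ hf (show q.comap (Ideal.Quotient.mk _) ∈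
        (PrimeSpectrum.basicOpen f : Set _) from hq) q rfl
  haveI : Module.Projective (Localization (Submonoid.powers f'))
      (LocalizedModule (Submonoid.powers f') (A' ⊗[A] B)) :=
    Module.basicOpen_subset_freeLocus_iff.1 hbo
  let e1 : LocalizedModule (Submonoid.powers f') (A' ⊗[A] B) ≃ₗ[A''] A'' ⊗[A'] (A' ⊗[A] B) :=
    LinearEquiv.extendScalarsOfIsLocalization (Submonoid.powers f') A''
      (IsLocalizedModule.linearEquiv (Submonoid.powers f')
        (LocalizedModule.mkLinearMap (Submonoid.powers f') (A' ⊗[A] B))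
        (TensorProduct.mk A' A'' (A' ⊗[A] B) 1))
  let e2 := TensorProduct.AlgebraTensorModule.cancelBaseChange A A' A'' A'' B
  haveI : Module.Projective A'' (A'' ⊗[A] B) := .of_equiv (e1.trans e2)
  obtain ⟨D⟩ := DualBasis.exists_dualBasis (A := A'') (P := A'' ⊗[A] B)
  obtain ⟨⟨a, s⟩, hs⟩ := IsLocalization.surj (Submonoid.powers f')
    (D.nrm (LinearMap.mulLeft A'' ((1 : A'') ⊗ₜ[A] z)))
  obtain ⟨g, rfl⟩ := Ideal.Quotient.mk_surjective a
  refine ⟨g, fun p hp ↦ ?_⟩
  haveI := p.2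
  have hle : nilradical A ≤ RingHom.ker (algebraMap A p.asIdeal.ResidueField) := by
    rw [Ideal.ker_algebraMap_residueField]; exact nilradical_le_prime _
  let lam : A' →+* p.asIdeal.ResidueField := Ideal.Quotient.lift _ _ fun x hx ↦ hle hx
  have hunit : IsUnit (lam f') := IsUnit.mk0 _ fun h ↦
    hp (Ideal.algebraMap_residueField_eq_zero.1 h)
  let μ : A'' →+* p.asIdeal.ResidueField := IsLocalization.Away.lift f' hunit
  have hμ : ∀ x : A, μ (algebraMap A A'' x) = algebraMap A p.asIdeal.ResidueField x := fun x ↦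
    IsLocalization.Away.lift_eq f' hunit _
  let p'' : Ideal A'' := RingHom.ker μ
  haveI : p''.IsPrime := RingHom.ker_isPrime _
  have hp'' : p''.comap (algebraMap A A'') = p.asIdeal := by
    ext x
    rw [Ideal.mem_comap, RingHom.mem_ker, hμ, Ideal.algebraMap_residueField_eq_zero]
  have key : g ∈ p.asIdeal ↔
      D.nrm (LinearMap.mulLeft A'' ((1 : A'') ⊗ₜ[A] z)) ∈ p'' := by
    obtain ⟨n, hn⟩ := s.2
    have hsu : μ (algebraMap A' A'' (s : A')) ≠ 0 := by
      rw [← hn]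
      change μ (algebraMap A' A'' (f' ^ n)) ≠ 0
      rw [map_pow, map_pow, show μ (algebraMap A' A'' f') = lam f' from
        IsLocalization.Away.lift_eq f' hunit f']
      exact pow_ne_zero _ hunit.ne_zero
    rw [← Ideal.algebraMap_residueField_eq_zero (I := p.asIdeal), ← hμ, RingHom.mem_ker]
    change μ (algebraMap A' A'' (Ideal.Quotient.mk _ g)) = 0 ↔ _
    rw [← hs, map_mul, mul_eq_zero]
    simp [hsu]
  rw [key, nrm_mem_iff]
  let ι : B →+* A'' ⊗[A] B :=
    (Algebra.TensorProduct.includeRight (R := A) (A := A'') (B := B)).toRingHom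
  have hι : ∀ x : A, ι (algebraMap A B x) = algebraMap A'' (A'' ⊗[A] B) (algebraMap A A'' x) :=
    fun x ↦ by simp [ι]; rfl
  constructor
  · rintro ⟨Q, hQ, hQc, hzQ⟩
    refine ⟨Q.comap ι, inferInstance, ?_, hzQ⟩
    rw [← hp'', ← hQc, Ideal.comap_comap, Ideal.comap_comap]
    exact congrArg (fun φ : A →+* A'' ⊗[A] B ↦ Ideal.comap φ Q) (RingHom.ext hι)
  · rintro ⟨P, hP, hPc, hzP⟩
    let jp : p.asIdeal.ResidueField →+* P.ResidueField :=
      Ideal.ResidueField.map p.asIdeal P (algebraMap A B) hPc.symm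
    have hjp : ∀ x : A, jp (μ (algebraMap A A'' x)) = algebraMap A P.ResidueField x := fun x ↦ by
      rw [hμ, IsScalarTower.algebraMap_apply A B P.ResidueField]
      exact Ideal.ResidueField.map_algebraMap ..
    let F : A'' ⊗[A] B →ₐ[A] P.ResidueField :=
      Algebra.TensorProduct.lift
        ({ jp.comp μ with commutes' := hjp } : A'' →ₐ[A] P.ResidueField)
        (IsScalarTower.toAlgHom A B P.ResidueField)
        fun _ _ ↦ mul_comm _ _
    refine ⟨RingHom.ker F, RingHom.ker_isPrime _, ?_, ?_⟩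
    · ext x
      rw [Ideal.mem_comap, RingHom.mem_ker]
      change F (x ⊗ₜ[A] (1 : B)) = 0 ↔ μ x = 0
      simp [F]
    · rw [RingHom.mem_ker]
      simp [F, Ideal.algebraMap_residueField_eq_zero, hzP]

end Algebra

section Geometry

variable {S : Scheme.{u}} (G : Grpd.GroupoidScheme S)

/-- An immersion is closed over the basic opens of the ideal of its boundary. -/
theorem isClosedImmersion_restrict {U : Scheme.{u}} {A : Type u} [CommRing A]
    (j : U ⟶ Spec (CommRingCat.of A)) [IsImmersion j] (I : Ideal A) (h : A)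
    (hI : h ∈ I) (hcl : IsClosed (PrimeSpectrum.zeroLocus (I : Set A) ∪ Set.range j))
    (D : (Spec (CommRingCat.of A)).Opens) (hD : ∀ x ∈ D, h ∉ x.asIdeal) :
    IsClosedImmersion (j ∣_ D) := by
  refine IsClosedImmersion.of_isPreimmersion _ ?_
  have e : Set.range (j ∣_ D) = D.ι ⁻¹' (PrimeSpectrum.zeroLocus (I : Set A) ∪ Set.range j) := by
    ext ⟨x, hx⟩
    constructor
    · rintro ⟨y, hy⟩
      refine Or.inr ⟨(j ⁻¹ᵁ D).ι y, ?_⟩
      rw [← Scheme.Hom.comp_apply, ← morphismRestrict_ι, Scheme.Hom.comp_apply, hy]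
    · rintro (h' | ⟨y, hy⟩)
      · exact absurd (h' hI) (hD x hx)
      · have hyD : y ∈ j ⁻¹ᵁ D := by
          change j y ∈ D
          rw [hy]; exact hx
        refine ⟨⟨y, hyD⟩, D.ι.isOpenEmbedding.injective ?_⟩
        rw [← Scheme.Hom.comp_apply, morphismRestrict_ι, Scheme.Hom.comp_apply]
        exact hy
  rw [e]
  exact hcl.preimage D.ι.continuous

/-- A section over the preimage of a basic open has a nonvanishing locus cut out by an element of
the ideal. -/
theorem exists_basicOpen_eq {U : Scheme.{u}} {A : Type u} [CommRing A]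
    (j : U ⟶ Spec (CommRingCat.of A)) [IsImmersion j] (I : Ideal A) (h₁ : A)
    (hI : h₁ ∈ I) (hcl : IsClosed (PrimeSpectrum.zeroLocus (I : Set A) ∪ Set.range j))
    (g : Γ(U, j ⁻¹ᵁ PrimeSpectrum.basicOpen h₁)) :
    ∃ a : A, U.basicOpen g = j ⁻¹ᵁ PrimeSpectrum.basicOpen (h₁ * a) := by
  let D : (Spec (CommRingCat.of A)).Opens := PrimeSpectrum.basicOpen h₁
  haveI : IsClosedImmersion (j ∣_ D) := isClosedImmersion_restrict j I h₁ hI hcl D fun _ hx ↦ hx
  have hD : IsAffineOpen D := IsAffineOpen.Spec_basicOpen _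
  have hsurj : Function.Surjective (j.app D) := by
    haveI : IsAffine D := hD
    have h1 := (j ∣_ D).app_surjective ⊤ (isAffineOpen_top _)
    rw [morphismRestrict_app] at h1
    have h2 : Function.Surjective (j.app (D.ι ''ᵁ ⊤)) := by
      intro y
      obtain ⟨x, hx⟩ := h1 (U.presheaf.map (eqToHom (image_morphismRestrict_preimage j D ⊤)).op y)
      exact ⟨x, (ConcreteCategory.bijective_of_isIso
        (U.presheaf.map (eqToHom (image_morphismRestrict_preimage j D ⊤)).op)).injective hx⟩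
    have h3 : D.ι ''ᵁ ⊤ = D := by simp
    rwa [h3] at h2
  obtain ⟨σ, rfl⟩ := hsurj g
  letI : Algebra A Γ(Spec (CommRingCat.of A), D) :=
    StructureSheaf.openAlgebra A (Opposite.op (PrimeSpectrum.basicOpen h₁))
  haveI : IsLocalization.Away h₁ Γ(Spec (CommRingCat.of A), D) :=
    StructureSheaf.IsLocalization.to_basicOpen A h₁
  obtain ⟨⟨a, s⟩, hs⟩ := IsLocalization.surj (Submonoid.powers h₁) σ
  refine ⟨a, ?_⟩
  rw [← Scheme.preimage_basicOpen]
  congr 1
  have hu : IsUnit (algebraMap A Γ(Spec (CommRingCat.of A), D) (s : A)) :=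
    IsLocalization.map_units _ s
  have h4 : (Spec (CommRingCat.of A)).basicOpen σ =
      (Spec (CommRingCat.of A)).basicOpen (algebraMap A Γ(Spec (CommRingCat.of A), D) a) := by
    rw [← hs, Scheme.basicOpen_mul, Scheme.basicOpen_of_isUnit _ hu]
    exact (inf_eq_left.2 ((Spec (CommRingCat.of A)).basicOpen_le σ)).symm
  rw [h4, PrimeSpectrum.basicOpen_mul]
  change (Spec (CommRingCat.of A)).basicOpen ((Spec (CommRingCat.of A)).presheaf.map
    (homOfLE le_top).op ((Scheme.ΓSpecIso (CommRingCat.of A)).inv a)) = _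
  rw [Scheme.basicOpen_res, basicOpen_eq_of_affine']
  simp
  rfl

/-- Finitely many points off a closed set of the spectrum admit a function of the ideal. -/
theorem exists_mem_avoiding {A : Type u} [CommRing A] (I : Ideal A) (Z : Set (PrimeSpectrum A))
    (hZ : IsClosed Z) (O : Set (PrimeSpectrum A)) (hO : O.Finite) (hOZ : ∀ x ∈ O, x ∉ Z)
    (hOI : ∀ x ∈ O, x ∉ PrimeSpectrum.zeroLocus (I : Set A)) :
    ∃ h ∈ I, (∀ x ∈ Z, h ∈ x.asIdeal) ∧ ∀ x ∈ O, h ∉ x.asIdeal := by
  classical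
  obtain ⟨J, rfl⟩ := (PrimeSpectrum.isClosed_iff_zeroLocus_ideal _).1 hZ
  rcases O.eq_empty_or_nonempty with rfl | ⟨x₀, hx₀⟩
  · exact ⟨0, I.zero_mem, fun x _ ↦ x.asIdeal.zero_mem, fun x hx ↦ hx.elim⟩
  let K : Ideal A := I * J
  let P : PrimeSpectrum A → Ideal A := fun x ↦ x.asIdeal
  have this : ¬ ((K : Set A) ⊆ ⋃ x ∈ (hO.toFinset : Set (PrimeSpectrum A)), (P x : Set A)) := by
    intro hsub
    obtain ⟨x, hx, hle⟩ :=
      (Ideal.subset_union_prime (s := hO.toFinset) (f := P) x₀ x₀ fun x _ _ _ ↦ x.2).1 hsub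
    rw [Set.Finite.mem_toFinset] at hx
    rcases (Ideal.IsPrime.mul_le x.2).1 hle with h | h
    · exact hOI x hx h
    · exact hOZ x hx h
  obtain ⟨h, hh, hn⟩ := Set.not_subset.1 this
  exact ⟨h, (Ideal.mul_le_left : I * J ≤ I) hh,
    fun x hx ↦ hx ((Ideal.mul_le_right : I * J ≤ J) hh),
    fun x hx hm ↦ hn (Set.mem_biUnion (hO.mem_toFinset.2 hx) hm)⟩

variable [IsFinite G.s] [LocallyOfFinitePresentation G.s]

/-- An invariant basic open around the orbits of finitely many maximal points. -/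
theorem exists_invariant_basicOpen (O : Set G.U) (hO : O.Finite)
    (hinv : ∀ r : G.R, G.s r ∈ O → G.t r ∈ O) (hgen : ∀ y ∈ O, ∀ x : G.U, x ⤳ y → x = y)
    {A : Type u} [CommRing A] (j : G.U ⟶ Spec (CommRingCat.of A)) [IsImmersion j] (I : Ideal A)
    (hI : ∀ x : G.U, j x ∉ PrimeSpectrum.zeroLocus (I : Set A))
    (hcl : IsClosed (PrimeSpectrum.zeroLocus (I : Set A) ∪ Set.range j)) :
    ∃ h ∈ I, IsAffineOpen (j ⁻¹ᵁ PrimeSpectrum.basicOpen h) ∧
      O ⊆ j ⁻¹ᵁ PrimeSpectrum.basicOpen h ∧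
      G.s ⁻¹ᵁ (j ⁻¹ᵁ PrimeSpectrum.basicOpen h) = G.t ⁻¹ᵁ (j ⁻¹ᵁ PrimeSpectrum.basicOpen h) := by
  have hjO : (j '' O).Finite := hO.image _
  have hjOI : ∀ x ∈ j '' O, x ∉ PrimeSpectrum.zeroLocus (I : Set A) := by
    rintro _ ⟨x, -, rfl⟩; exact hI x
  -- affineness of basic opens of elements of `I`
  have haff : ∀ h ∈ I, IsAffineOpen (j ⁻¹ᵁ PrimeSpectrum.basicOpen h) := fun h hh ↦ by
    let D : (Spec (CommRingCat.of A)).Opens := PrimeSpectrum.basicOpen h
    haveI : IsClosedImmersion (j ∣_ D) := isClosedImmersion_restrict j I h hh hcl D fun _ hx ↦ hx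
    haveI : IsAffine D.toScheme := IsAffineOpen.Spec_basicOpen _
    exact isAffine_of_isAffineHom (j ∣_ D)
  obtain ⟨h₁, hh₁I, -, hh₁O⟩ := exists_mem_avoiding I ∅ isClosed_empty (j '' O) hjO
    (fun _ _ h ↦ h) hjOI
  let V : G.U.Opens := j ⁻¹ᵁ PrimeSpectrum.basicOpen h₁
  have hV : IsAffineOpen V := haff h₁ hh₁I
  have hOV : O ⊆ V := fun x hx ↦ hh₁O _ ⟨x, hx, rfl⟩
  let T : G.R.Opens := G.s ⁻¹ᵁ V
  have hT : IsAffineOpen T := hV.preimage G.s
  let σ₀ : Γ(G.U, V) →+* Γ(G.R, T) := (G.s.appLE V T le_rfl).hom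
  letI := σ₀.toAlgebra
  haveI : Module.Finite Γ(G.U, V) Γ(G.R, T) := by
    have := IsFinite.finite_app (f := G.s) (U := V) hV
    rwa [← Scheme.Hom.appLE_eq_app] at this
  haveI : Algebra.FinitePresentation Γ(G.U, V) Γ(G.R, T) :=
    G.s.finitePresentation_appLE hV hT le_rfl
  haveI : Module.FinitePresentation Γ(G.U, V) Γ(G.R, T) :=
    Module.FinitePresentation.of_finite_of_finitePresentation _ _
  -- the locally free locus on the reduction
  let F : G.U.Opens :=
    ⟨hV.fromSpec '' redFreeLocus (A := Γ(G.U, V)) Γ(G.R, T),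
      hV.fromSpec.isOpenEmbedding.isOpenMap _ (isOpen_redFreeLocus _)⟩
  have hOF : O ⊆ F := fun x hx ↦ by
    refine ⟨hV.primeIdealOf ⟨x, hOV hx⟩,
      mem_redFreeLocus_of_mem_minimalPrimes _ _ fun q hq ↦ ?_, hV.fromSpec_primeIdealOf _⟩
    apply hV.fromSpec.isOpenEmbedding.injective
    rw [hV.fromSpec_primeIdealOf]
    refine hgen x hx _ ?_
    have := ((PrimeSpectrum.le_iff_specializes _ _).1 (show q ≤ hV.primeIdealOf ⟨x, hOV hx⟩ from hq)).map
      hV.fromSpec.continuous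
    rwa [hV.fromSpec_primeIdealOf] at this
  let C : G.U.Opens := ⟨core G F, isOpen_core G F⟩
  have hOC : O ⊆ C := fun x hx r hr ↦ hOF (hinv r (hr.symm ▸ hx))
  -- a basic open inside the core
  obtain ⟨K, hK, hKeq⟩ := j.isEmbedding.isInducing.isClosed_iff.1 C.2.isClosed_compl
  obtain ⟨h₂, hh₂I, hh₂K, hh₂O⟩ := exists_mem_avoiding I K hK (j '' O) hjO (by
    rintro _ ⟨x, hx, rfl⟩ hxK
    have : x ∈ (C : Set G.U)ᶜ := hKeq ▸ hxK
    exact this (hOC hx)) hjOI
  let h := h₁ * h₂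
  let Ω : G.U.Opens := j ⁻¹ᵁ PrimeSpectrum.basicOpen h
  have hΩV : Ω ≤ V := fun x hx hm ↦ hx (Ideal.mul_mem_right h₂ _ hm)
  have hΩC : Ω ≤ C := fun x hx ↦ by
    by_contra hC
    have : x ∈ j ⁻¹' K := by rw [hKeq]; exact hC
    exact hx (Ideal.mul_mem_left _ h₁ (hh₂K _ this))
  have hOΩ : O ⊆ Ω := fun x hx hm ↦
    ((j x).2.mem_or_mem hm).elim (hh₁O _ ⟨x, hx, rfl⟩) (hh₂O _ ⟨x, hx, rfl⟩)
  let hU : Γ(G.U, ⊤) := j.appTop ((Scheme.ΓSpecIso (CommRingCat.of A)).inv h)
  have hbU : G.U.basicOpen hU = Ω := by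
    change G.U.basicOpen (j.app ⊤ _) = _
    rw [← Scheme.preimage_basicOpen, basicOpen_eq_of_affine']
    simp [Ω]
  let f : Γ(G.U, V) := G.U.presheaf.map (homOfLE (le_top : V ≤ ⊤)).op hU
  have hf : ∀ p : Spec Γ(G.U, V), f ∉ p.asIdeal ↔ hV.fromSpec p ∈ Ω := fun p ↦ by
    change p ∈ PrimeSpectrum.basicOpen f ↔ _
    rw [← hV.fromSpec_preimage_basicOpen, Scheme.basicOpen_res, hbU]
    change hV.fromSpec p ∈ V ⊓ Ω ↔ _
    exact ⟨fun hx ↦ hx.2, fun hx ↦ ⟨hΩV hx, hx⟩⟩
  let z : Γ(G.R, T) := G.t.appLE ⊤ T (le_top.trans_eq (by simp)) hU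
  have hz : ∀ P : Spec Γ(G.R, T), z ∉ P.asIdeal ↔ G.t (hT.fromSpec P) ∈ Ω := fun P ↦ by
    change P ∈ PrimeSpectrum.basicOpen z ↔ _
    rw [← hT.fromSpec_preimage_basicOpen, Scheme.basicOpen_appLE, hbU]
    change hT.fromSpec P ∈ T ∧ _ ↔ _
    have hm : hT.fromSpec P ∈ T := by
      rw [← SetLike.mem_coe, ← hT.range_fromSpec]; exact ⟨P, rfl⟩
    exact ⟨fun hx ↦ hx.2, fun hx ↦ ⟨hm, hx⟩⟩
  obtain ⟨g, hg⟩ := exists_norm (A := Γ(G.U, V)) Γ(G.R, T) f (fun p hp ↦ by
    obtain ⟨q, hq, he⟩ := core_subset G F (hΩC ((hf p).1 hp))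
    rwa [← hV.fromSpec.isOpenEmbedding.injective he]) z
  have hs : ∀ P : Spec Γ(G.R, T), G.s (hT.fromSpec P) =
      hV.fromSpec (PrimeSpectrum.comap σ₀ P) := fun P ↦ by
    rw [← Scheme.Hom.comp_apply, ← IsAffineOpen.SpecMap_appLE_fromSpec G.s hV hT le_rfl]
    rfl
  have key : ∀ p : Spec Γ(G.U, V), hV.fromSpec p ∈ Ω →
      (hV.fromSpec p ∈ G.U.basicOpen g ↔ hV.fromSpec p ∈ core G Ω) := fun p hp ↦ by
    change p ∈ hV.fromSpec ⁻¹ᵁ G.U.basicOpen g ↔ _
    rw [hV.fromSpec_preimage_basicOpen]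
    change g ∉ p.asIdeal ↔ _
    rw [hg p ((hf p).2 hp)]
    constructor
    · intro hne r hr
      obtain ⟨P, rfl⟩ : r ∈ Set.range hT.fromSpec := by
        rw [hT.range_fromSpec]
        change G.s r ∈ V
        rw [hr]; exact hΩV hp
      refine (hz P).1 fun hP ↦ hne ⟨P.asIdeal, P.2, ?_, hP⟩
      exact congrArg PrimeSpectrum.asIdeal
        (hV.fromSpec.isOpenEmbedding.injective ((hs P).symm.trans hr))
    · rintro hcore ⟨P, hP, hPp, hzP⟩
      refine (hz ⟨P, hP⟩).2 (hcore _ ?_) hzP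
      exact (hs _).trans (congrArg hV.fromSpec (PrimeSpectrum.ext hPp))
  obtain ⟨a, ha⟩ := exists_basicOpen_eq j I h₁ hh₁I hcl g
  refine ⟨h * (h₁ * a), I.mul_mem_right _ (I.mul_mem_left _ hh₂I), ?_⟩
  have hcore : j ⁻¹ᵁ PrimeSpectrum.basicOpen (h * (h₁ * a)) =
      (⟨core G Ω, isOpen_core G Ω⟩ : G.U.Opens) := by
    rw [PrimeSpectrum.basicOpen_mul]
    change Ω ⊓ j ⁻¹ᵁ PrimeSpectrum.basicOpen (h₁ * a) = _
    rw [← ha]
    ext x
    constructor
    · rintro ⟨hx, hxg⟩
      obtain ⟨p, rfl⟩ : x ∈ Set.range hV.fromSpec := by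
        rw [hV.range_fromSpec]; exact hΩV hx
      exact (key p hx).1 hxg
    · intro hx
      have hxΩ : x ∈ Ω := core_subset G Ω hx
      obtain ⟨p, rfl⟩ : x ∈ Set.range hV.fromSpec := by
        rw [hV.range_fromSpec]; exact hΩV hxΩ
      exact ⟨hxΩ, (key p hxΩ).2 hx⟩
  refine ⟨haff _ (I.mul_mem_right _ (I.mul_mem_left _ hh₂I)), ?_, ?_⟩
  · rw [hcore]
    exact fun x hx r hr ↦ hOΩ (hinv r (hr.symm ▸ hx))
  · rw [hcore]
    exact isInvariant_core G Ω

end Geometry

end Groth.Agent.Lib.GrpdGen.InvBasic
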