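import Groth.Agent.Lib.GrpdGen.Arrows
import Groth.Agent.Lib.GrpdGen.Cut
import Groth.Agent.Lib.GrpdGen.Discrete
import Groth.Agent.S2080
import Mathlib.AlgebraicGeometry.Noetherian

/-!
Quasi-finite flat slices of a groupoid through a given open.
-/

set_option autoImplicit false

universe u

open CategoryTheory CategoryTheory.Limits AlgebraicGeometry Groth.Agent.H63.GrpdBasic

namespace Groth.Agent.Lib.GrpdGen

/-- A point, closed in its fibre, of a nonempty open. -/
theorem exists_pt {X S : Scheme.{u}} (f : X ⟶ S) [LocallyOfFiniteType f] (O : X.Opens) (hO : (O : Set X).Nonempty) :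
    ∃ (Z : Scheme.{u}) (ι : Z ⟶ X) (_ : IsPreimmersion ι) (_ : LocallyQuasiFinite (ι ≫ f)) (z : X),
      z ∈ O ∧ Set.range ι = {z} := by
  obtain ⟨z₁, hz₁⟩ := hO
  let s := f z₁
  let F := f.fiber s
  let p := f.fiberToSpecResidueField s
  have : LocallyOfFiniteType p := inferInstanceAs (LocallyOfFiniteType (pullback.snd f (S.fromSpecResidueField s)))
  have : JacobsonSpace F := LocallyOfFiniteType.jacobsonSpace p
  obtain ⟨w₁, hw₁⟩ : z₁ ∈ Set.range (f.fiberι s) := by rw [Scheme.Hom.range_fiberι]; exact rfl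
  obtain ⟨w, hwO, hw⟩ := nonempty_inter_closedPoints (X := F) (Z := f.fiberι s ⁻¹' (O : Set X))
    ⟨w₁, show f.fiberι s w₁ ∈ O by rw [hw₁]; exact hz₁⟩ (O.2.preimage (f.fiberι s).continuous).isLocallyClosed
  have : IsClosedImmersion (F.fromSpecResidueField w) :=
    isClosed_singleton_iff_isClosedImmersion.1 (mem_closedPoints_iff.1 hw)
  have hlq : LocallyQuasiFinite (F.fromSpecResidueField w ≫ p) :=
    .of_injective fun a b _ => Subsingleton.elim (α := Spec (F.residueField w)) a b
  have : IsPreimmersion (f.fiberι s) :=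
    inferInstanceAs (IsPreimmersion (pullback.fst f (S.fromSpecResidueField s)))
  refine ⟨Spec (F.residueField w), F.fromSpecResidueField w ≫ f.fiberι s, inferInstance, ?_, f.fiberι s w, hwO, ?_⟩
  · have : LocallyQuasiFinite (S.fromSpecResidueField s) := inferInstance
    have e : f.fiberι s ≫ f = p ≫ S.fromSpecResidueField s := pullback.condition
    rw [Category.assoc, e, ← Category.assoc]
    infer_instance
  · ext x
    rw [Set.mem_singleton_iff]
    constructor
    · rintro ⟨a, rfl⟩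
      rw [Scheme.Hom.comp_apply, Scheme.fromSpecResidueField_apply]
    · rintro rfl
      exact ⟨IsLocalRing.closedPoint _, by rw [Scheme.Hom.comp_apply, Scheme.fromSpecResidueField_apply]⟩

variable {S : Scheme.{u}} (G : Grpd.GroupoidScheme S)

/-- Two comparable arrows from a point closed in its fibre with the same target are equal. -/
theorem eq_of_arrow [LocallyQuasiFinite G.j] [LocallyOfFiniteType G.j] {Z : Scheme.{u}} (ι : Z ⟶ G.U)
    [IsPreimmersion ι] [LocallyQuasiFinite (ι ≫ G.pU)] {z : G.U} (hz : Set.range ι = {z}) (r r' : G.R)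
    (hsp : r ⤳ r') (hr : G.s r = z) (hr' : G.s r' = z) (ht : G.t r = G.t r') : r = r' := by
  let P := pullback G.s ι
  let π := pullback.fst G.s ι
  have hπ : IsPreimmersion π := inferInstance
  let l : P ⟶ pullback G.pU (ι ≫ G.pU) := pullback.lift (π ≫ G.t) (pullback.snd G.s ι)
    (by rw [Category.assoc, G.t_over, ← G.s_over, pullback.condition_assoc])
  let c : pullback G.pU (ι ≫ G.pU) ⟶ pullback G.pU G.pU :=
    pullback.map _ _ _ _ (𝟙 _) ι (𝟙 _) (by simp) (by simp)
  have hlc : l ≫ c = π ≫ G.j := by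
    apply pullback.hom_ext
    · simp [l, c, π, Grpd.GroupoidScheme.j, pullback.map, pullback.lift_fst]
    · simp [l, c, π, Grpd.GroupoidScheme.j, pullback.map, pullback.lift_snd, pullback.lift_snd_assoc, pullback.condition]
  have : LocallyQuasiFinite (l ≫ c) := by rw [hlc]; infer_instance
  have hl : LocallyQuasiFinite l := .of_comp l c
  have : LocallyQuasiFinite (π ≫ G.t) := by
    rw [show π ≫ G.t = l ≫ pullback.fst G.pU (ι ≫ G.pU) from (pullback.lift_fst _ _ _).symm]
    infer_instance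
  have hrange : ∀ x : G.R, G.s x = z → x ∈ Set.range π := fun x hx => by
    rw [Scheme.Pullback.range_fst, hz]
    exact hx
  obtain ⟨a, rfl⟩ := hrange r hr
  obtain ⟨a', rfl⟩ := hrange r' hr'
  have hd := ((π ≫ G.t).isDiscrete_preimage_singleton ((π ≫ G.t) a')).to_subtype
  have ha : (π ≫ G.t) a = (π ≫ G.t) a' := by
    rw [Scheme.Hom.comp_apply, Scheme.Hom.comp_apply]; exact ht
  exact congrArg (fun w => π w.1) (Specializes.eq (X := ↥((π ≫ G.t) ⁻¹' {(π ≫ G.t) a'})) (x := ⟨a, ha⟩) (y := ⟨a', rfl⟩)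
    ((subtype_specializes_iff _ _).2 (π.isEmbedding.isInducing.specializes_iff.1 hsp)))

/-- Pushout of a quotient. -/
theorem isPushout_quotient {C B : Type u} [CommRing C] [CommRing B] (φ : C →+* B) (g : C) :
    IsPushout (CommRingCat.ofHom φ) (CommRingCat.ofHom (Ideal.Quotient.mk (Ideal.span {g})))
      (CommRingCat.ofHom (Ideal.Quotient.mk (Ideal.span {φ g})))
      (CommRingCat.ofHom (Ideal.quotientMap (Ideal.span {φ g}) φ (by
        rw [Ideal.span_le, Set.singleton_subset_iff]; exact Ideal.subset_span rfl))) := by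
  refine ⟨⟨by ext; rfl⟩, ⟨PushoutCocone.IsColimit.mk _
    (fun c => CommRingCat.ofHom (Ideal.Quotient.lift _ c.inl.hom fun a ha => by
      obtain ⟨b, rfl⟩ := Ideal.mem_span_singleton.1 ha
      have h := congr($(c.condition).hom g)
      simp only [CommRingCat.hom_comp, RingHom.comp_apply, CommRingCat.hom_ofHom] at h
      rw [map_mul, h, Ideal.Quotient.eq_zero_iff_mem.2 (Ideal.mem_span_singleton_self g), map_zero, zero_mul]))
    (fun c => by ext; rfl) (fun c => ?_) (fun c m h1 h2 => ?_)⟩⟩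
  · ext x
    exact congr($(c.condition).hom x)
  · ext x
    exact congr($(h1).hom x)

variable [Flat G.s] [Flat G.t] [LocallyOfFinitePresentation G.s] [LocallyOfFinitePresentation G.t]
  [IsNoetherian G.U]

omit [Flat G.s] [LocallyOfFinitePresentation G.s] [AlgebraicGeometry.IsNoetherian G.U] in
theorem snd_isOpenMap {U₁ : Scheme.{u}} (u : U₁ ⟶ G.U) : IsOpenMap (pullback.snd G.t u) := by
  have : UniversallyOpen G.t := inferInstance
  exact (pullback.snd G.t u).isOpenMap

omit [Flat G.s] [Flat G.t] [LocallyOfFinitePresentation G.t] [AlgebraicGeometry.IsNoetherian G.U] in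
theorem locallyOfFiniteType_sv {U₁ : Scheme.{u}} (u : U₁ ⟶ G.U) [IsImmersion u] : LocallyOfFiniteType (sv G u) :=
  have : LocallyOfFiniteType u := inferInstance
  inferInstance

/-- One step: a smaller slice. -/
theorem exists_step [LocallyQuasiFinite G.j] [LocallyOfFiniteType G.j] {Z : Scheme.{u}} (ι : Z ⟶ G.U)
    [IsPreimmersion ι] [LocallyQuasiFinite (ι ≫ G.pU)] {z : G.U} (hz : Set.range ι = {z})
    (C : CommRingCat.{u}) (u : Spec C ⟶ G.U) [IsImmersion u] [Flat (sv G u)]
    (v v' : ↥(pullback G.t u)) (hsp : v ⤳ v') (hne : v ≠ v') (hv : sv G u v = z) (hv' : sv G u v' = z) :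
    ∃ (C' : CommRingCat.{u}) (u' : Spec C' ⟶ G.U), IsImmersion u' ∧ Flat (sv G u') ∧ z ∈ Set.range (sv G u') ∧
      closure (Set.range u') ⊂ closure (Set.range u) := by
  have := locallyOfFiniteType_sv G u
  let V := pullback G.t u
  obtain ⟨W, hW, hzW, -⟩ := exists_isAffineOpen_mem_and_subset (X := G.U) (x := z) (U := ⊤) trivial
  obtain ⟨Ω, hΩ, hvΩ', hΩW⟩ := exists_isAffineOpen_mem_and_subset (X := V) (x := v') (U := sv G u ⁻¹ᵁ W)
    (show sv G u v' ∈ W by rw [hv']; exact hzW)
  have hvΩ : v ∈ Ω := hsp.mem_open Ω.2 hvΩ'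
  let _ : Algebra Γ(G.U, W) Γ(V, Ω) := ((sv G u).appLE W Ω hΩW).hom.toAlgebra
  have : Algebra.FiniteType Γ(G.U, W) Γ(V, Ω) :=
    HasRingHomProperty.appLE @LocallyOfFiniteType (sv G u) inferInstance ⟨W, hW⟩ ⟨Ω, hΩ⟩ hΩW
  have : Module.Flat Γ(G.U, W) Γ(V, Ω) := (sv G u).flat_appLE hW hΩ hΩW
  have : IsNoetherianRing Γ(G.U, W) := IsLocallyNoetherian.component_noetherian ⟨W, hW⟩
  let φ : C ⟶ Γ(V, Ω) := Spec.preimage (hΩ.fromSpec ≫ pullback.snd G.t u)
  have hφ : Spec.map φ = hΩ.fromSpec ≫ pullback.snd G.t u := Spec.map_preimage _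
  have hA : Spec.map (CommRingCat.ofHom (algebraMap Γ(G.U, W) Γ(V, Ω))) ≫ hW.fromSpec = hΩ.fromSpec ≫ sv G u :=
    IsAffineOpen.SpecMap_appLE_fromSpec (sv G u) hW hΩ hΩW
  obtain ⟨pz, hpz⟩ : z ∈ Set.range hW.fromSpec := by rw [hW.range_fromSpec]; exact hzW
  obtain ⟨Qv, hQv⟩ : v ∈ Set.range hΩ.fromSpec := by rw [hΩ.range_fromSpec]; exact hvΩ
  obtain ⟨Qv', hQv'⟩ : v' ∈ Set.range hΩ.fromSpec := by rw [hΩ.range_fromSpec]; exact hvΩ'
  have hover : ∀ q : PrimeSpectrum Γ(V, Ω), sv G u (hΩ.fromSpec q) = z ↔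
      q.asIdeal.comap (algebraMap Γ(G.U, W) Γ(V, Ω)) = pz.asIdeal := by
    intro q
    have : sv G u (hΩ.fromSpec q) =
        hW.fromSpec (Spec.map (CommRingCat.ofHom (algebraMap Γ(G.U, W) Γ(V, Ω))) q) := by
      rw [← Scheme.Hom.comp_apply, ← Scheme.Hom.comp_apply, hA]
    rw [this, ← hpz, hW.fromSpec.isOpenEmbedding.injective.eq_iff]
    exact PrimeSpectrum.ext_iff
  have hlt : Qv.asIdeal < Qv'.asIdeal := by
    refine lt_of_le_of_ne ((PrimeSpectrum.le_iff_specializes Qv Qv').2
      (hΩ.fromSpec.isOpenEmbedding.isInducing.specializes_iff.1 (by rw [hQv, hQv']; exact hsp))) fun h => hne ?_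
    rw [← hQv, ← hQv', show Qv = Qv' from PrimeSpectrum.ext h]
  have hinc : ∀ q q' : Ideal Γ(V, Ω), q.IsPrime → q'.IsPrime →
      q.comap (algebraMap Γ(G.U, W) Γ(V, Ω)) = pz.asIdeal → q'.comap (algebraMap Γ(G.U, W) Γ(V, Ω)) = pz.asIdeal →
      q < q' → q.comap φ.hom ≠ q'.comap φ.hom := by
    intro q q' hq hq' hqp hq'p hqq hc
    let y : PrimeSpectrum Γ(V, Ω) := ⟨q, hq⟩
    let y' : PrimeSpectrum Γ(V, Ω) := ⟨q', hq'⟩
    have hy : hΩ.fromSpec y ⤳ hΩ.fromSpec y' :=
      ((PrimeSpectrum.le_iff_specializes y y').1 hqq.le).map hΩ.fromSpec.continuous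
    have hsnd : pullback.snd G.t u (hΩ.fromSpec y) = pullback.snd G.t u (hΩ.fromSpec y') := by
      rw [← Scheme.Hom.comp_apply, ← Scheme.Hom.comp_apply, ← hφ]
      exact PrimeSpectrum.ext hc
    have hR := eq_of_arrow G ι hz (pullback.fst G.t u (hΩ.fromSpec y)) (pullback.fst G.t u (hΩ.fromSpec y'))
      (hy.map (pullback.fst G.t u).continuous)
      (by rw [← (hover y).2 hqp, Scheme.Hom.comp_apply]) (by rw [← (hover y').2 hq'p, Scheme.Hom.comp_apply])
      (by rw [← Scheme.Hom.comp_apply, ← Scheme.Hom.comp_apply (pullback.fst G.t u), pullback.condition,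
            Scheme.Hom.comp_apply, Scheme.Hom.comp_apply, hsnd])
    exact hqq.ne (congrArg PrimeSpectrum.asIdeal (hΩ.fromSpec.isOpenEmbedding.injective
      ((pullback.fst G.t u).isEmbedding.injective hR)))
  obtain ⟨g, a, P, hP, hPp, hgQ, hgP, haP, hflat⟩ := exists_cut φ.hom pz.asIdeal Qv.asIdeal Qv'.asIdeal
    ((hover Qv).1 (by rw [hQv, hv])) ((hover Qv').1 (by rw [hQv', hv'])) hlt hinc
  let Ba := Localization.Away a
  let ψ : C →+* Ba := (algebraMap Γ(V, Ω) Ba).comp φ.hom
  let cl : Spec (CommRingCat.of (C ⧸ Ideal.span {g})) ⟶ Spec C :=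
    Spec.map (CommRingCat.ofHom (Ideal.Quotient.mk (Ideal.span {g})))
  have : IsClosedImmersion cl := IsClosedImmersion.spec_of_surjective _ Ideal.Quotient.mk_surjective
  let u₁ := cl ≫ u
  let d : Spec (CommRingCat.of Ba) ⟶ V := Spec.map (CommRingCat.ofHom (algebraMap Γ(V, Ω) Ba)) ≫ hΩ.fromSpec
  have : IsOpenImmersion (Spec.map (CommRingCat.ofHom (algebraMap Γ(V, Ω) Ba))) :=
    IsOpenImmersion.of_isLocalization a
  have hd : d ≫ pullback.snd G.t u = Spec.map (CommRingCat.ofHom ψ) := by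
    simp only [d, Category.assoc, ← hφ, ← Spec.map_comp]
    rfl
  have hsq := isPullback_SpecMap_of_isPushout _ _ _ _ (isPushout_quotient ψ g)
  rw [← hd] at hsq
  let m : Spec (CommRingCat.of (Ba ⧸ Ideal.span {ψ g})) ⟶ Spec (CommRingCat.of Ba) :=
    Spec.map (CommRingCat.ofHom (Ideal.Quotient.mk (Ideal.span {ψ g})))
  let n : Spec (CommRingCat.of (Ba ⧸ Ideal.span {ψ g})) ⟶ Spec (CommRingCat.of (C ⧸ Ideal.span {g})) :=
    Spec.map (CommRingCat.ofHom (Ideal.quotientMap (Ideal.span {ψ g}) ψ (by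
      rw [Ideal.span_le, Set.singleton_subset_iff]; exact Ideal.subset_span rfl)))
  replace hsq : IsPullback m n (d ≫ pullback.snd G.t u) cl := hsq
  let e : Spec (CommRingCat.of (Ba ⧸ Ideal.span {ψ g})) ⟶ pullback G.t u₁ :=
    pullback.lift (m ≫ d ≫ pullback.fst G.t u) n (by
      simp only [u₁, Category.assoc, pullback.condition]
      rw [← reassoc_of% hsq.w, Category.assoc])
  let v₁ : pullback G.t u₁ ⟶ V :=
    pullback.lift (pullback.fst G.t u₁) (pullback.snd G.t u₁ ≫ cl) (by rw [Category.assoc, pullback.condition])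
  have hev : e ≫ v₁ = m ≫ d := by
    apply pullback.hom_ext
    · simp only [e, v₁, Category.assoc, pullback.lift_fst]
    · simp only [e, v₁, Category.assoc, pullback.lift_snd, pullback.lift_snd_assoc, hsq.w]
  have hv₁ : IsPullback v₁ (pullback.snd G.t u₁) (pullback.snd G.t u) cl := by
    refine IsPullback.of_right ?_ (pullback.lift_snd _ _ _) (IsPullback.of_hasPullback G.t u).flip.flip
    rw [pullback.lift_fst]
    exact IsPullback.of_hasPullback G.t u₁
  have : IsOpenImmersion e := by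
    have h : IsPullback e m v₁ d := (IsPullback.of_right
      (by rw [pullback.lift_snd]; exact hsq.flip) hev hv₁.flip)
    exact MorphismProperty.of_isPullback (P := @IsOpenImmersion) h.flip inferInstance
  let Ω₁ := e.opensRange
  have hfe : Flat (e ≫ sv G u₁) := by
    have : e ≫ sv G u₁ = Spec.map (CommRingCat.ofHom ((Ideal.Quotient.mk (Ideal.span {ψ g})).comp
        ((algebraMap Γ(V, Ω) Ba).comp (algebraMap Γ(G.U, W) Γ(V, Ω))))) ≫ hW.fromSpec := by
      rw [CommRingCat.ofHom_comp, CommRingCat.ofHom_comp, Spec.map_comp, Spec.map_comp, Category.assoc,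
        Category.assoc, hA]
      simp only [e, d, m, pullback.lift_fst_assoc, Category.assoc]
    rw [this]
    have : Flat (Spec.map (CommRingCat.ofHom ((Ideal.Quotient.mk (Ideal.span {ψ g})).comp
        ((algebraMap Γ(V, Ω) Ba).comp (algebraMap Γ(G.U, W) Γ(V, Ω)))))) := by
      rw [HasRingHomProperty.Spec_iff (P := @Flat)]
      exact hflat
    infer_instance
  have : Flat (Ω₁.ι ≫ sv G u₁) := by
    rw [← MorphismProperty.cancel_left_of_respectsIso @Flat (Scheme.Hom.isoOpensRange e).hom,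
      Scheme.Hom.isoOpensRange_hom_ι_assoc]
    exact hfe
  let O : (Spec (CommRingCat.of (C ⧸ Ideal.span {g}))).Opens :=
    ⟨pullback.snd G.t u₁ '' (Ω₁ : Set ↥(pullback G.t u₁)), snd_isOpenMap G u₁ _ Ω₁.2⟩
  have := flat_sv_of_image G u₁ Ω₁ O rfl
  -- the point over `z`
  obtain ⟨Pa, hPa⟩ : (⟨P, hP⟩ : PrimeSpectrum Γ(V, Ω)) ∈
      Set.range (PrimeSpectrum.comap (algebraMap Γ(V, Ω) Ba)) := by
    rw [PrimeSpectrum.localization_away_comap_range Ba a]; exact haP
  have hgPa : ψ g ∈ Pa.asIdeal := by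
    have := congrArg PrimeSpectrum.asIdeal hPa
    exact (Ideal.ext_iff.1 this (φ.hom g)).2 hgP
  obtain ⟨w, hw⟩ : Pa ∈ Set.range m := by
    refine (range_comap_of_surjective _ (Ideal.Quotient.mk (Ideal.span {ψ g})) Ideal.Quotient.mk_surjective).symm.le ?_
    rw [Ideal.mk_ker, PrimeSpectrum.mem_zeroLocus, SetLike.coe_subset_coe, Ideal.span_le, Set.singleton_subset_iff]
    exact hgPa
  have hx : e w ∈ Ω₁ := ⟨w, rfl⟩
  have hxs : sv G u₁ (e w) = z := by
    have h : pullback.fst G.t u₁ (e w) = pullback.fst G.t u (hΩ.fromSpec ⟨P, hP⟩) := by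
      rw [← Scheme.Hom.comp_apply, pullback.lift_fst, Scheme.Hom.comp_apply, hw, Scheme.Hom.comp_apply,
        Scheme.Hom.comp_apply, ← hPa]
      rfl
    rw [Scheme.Hom.comp_apply, h, ← Scheme.Hom.comp_apply]
    exact (hover ⟨P, hP⟩).2 hPp
  have hyO : pullback.snd G.t u₁ (e w) ∈ O := ⟨_, hx, rfl⟩
  obtain ⟨T, hT, hyT, hTO⟩ := exists_isAffineOpen_mem_and_subset (U := O) hyO
  refine ⟨Γ(_, T), hT.fromSpec ≫ u₁, inferInstance, ?_, ?_, ?_⟩
  · have hr : Set.range hT.fromSpec ⊆ Set.range O.ι := by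
      rw [hT.range_fromSpec, Scheme.Opens.range_ι]; exact hTO
    let k := IsOpenImmersion.lift O.ι hT.fromSpec hr
    have hk : k ≫ O.ι = hT.fromSpec := IsOpenImmersion.lift_fac _ _ _
    have : IsOpenImmersion k := by
      have : IsOpenImmersion (k ≫ O.ι) := hk ▸ inferInstance
      exact IsOpenImmersion.of_comp k O.ι
    let kk : pullback G.t (hT.fromSpec ≫ u₁) ⟶ pullback G.t (O.ι ≫ u₁) :=
      pullback.map _ _ _ _ (𝟙 _) k (𝟙 _) (by simp) (by simp [reassoc_of% hk])
    have : sv G (hT.fromSpec ≫ u₁) = kk ≫ sv G (O.ι ≫ u₁) := by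
      simp [kk, pullback.map, pullback.lift_fst_assoc]
    rw [this]
    infer_instance
  · obtain ⟨y, hy⟩ : pullback.snd G.t u₁ (e w) ∈ Set.range hT.fromSpec := by rw [hT.range_fromSpec]; exact hyT
    obtain ⟨x, hx1, -⟩ := Scheme.Pullback.exists_preimage_pullback (f := G.t) (g := hT.fromSpec ≫ u₁)
      (pullback.fst G.t u₁ (e w)) y (by
        rw [Scheme.Hom.comp_apply, hy]
        exact congrArg (fun f => f (e w)) (pullback.condition (f := G.t) (g := u₁)))
    refine ⟨x, ?_⟩
    rw [Scheme.Hom.comp_apply, hx1, ← Scheme.Hom.comp_apply]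
    exact hxs
  · -- the closure drops
    let gz : Set (Spec C) := PrimeSpectrum.zeroLocus {g}
    have hsub : Set.range (hT.fromSpec ≫ u₁) ⊆ u '' gz := by
      rintro _ ⟨y, rfl⟩
      refine ⟨cl (hT.fromSpec y), ?_, by simp only [u₁, Scheme.Hom.comp_apply]⟩
      have h := (range_comap_of_surjective _ (Ideal.Quotient.mk (Ideal.span {g})) Ideal.Quotient.mk_surjective).le
        ⟨hT.fromSpec y, rfl⟩
      rw [Ideal.mk_ker, PrimeSpectrum.zeroLocus_span] at h
      exact h
    refine ⟨closure_mono (hsub.trans (Set.image_subset_range _ _)), fun hle => ?_⟩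
    have h1 : u (pullback.snd G.t u v) ∈ closure (u '' gz) := closure_mono hsub (hle (subset_closure ⟨_, rfl⟩))
    have h2 : pullback.snd G.t u v ∈ gz := by
      have h3 : pullback.snd G.t u v ∈ u ⁻¹' closure (u '' gz) := h1
      rw [← u.isEmbedding.isInducing.closure_eq_preimage_closure_image] at h3
      exact IsClosed.closure_subset (PrimeSpectrum.isClosed_zeroLocus {g}) h3
    refine hgQ ?_
    rw [← hQv, ← Scheme.Hom.comp_apply, ← hφ] at h2
    exact h2 (Set.mem_singleton g)

/-- A flat slice with finite fibre over the generic point of some component, meeting a given open. -/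
theorem exists_slice [LocallyQuasiFinite G.j] [LocallyOfFiniteType G.j] [LocallyOfFiniteType G.pU]
    [QuasiCompact G.s] (O : G.U.Opens) (hO : (O : Set G.U).Nonempty) :
    ∃ (C : CommRingCat.{u}) (u : Spec C ⟶ G.U) (_ : IsImmersion u) (η : G.U),
      Flat (sv G u) ∧ η ∈ O ∧ closure {η} ∈ irreducibleComponents (G.U : Type u) ∧
      η ∈ Set.range (sv G u) ∧ (sv G u ⁻¹' {η}).Finite := by
  obtain ⟨Z, ι, _, _, z, hzO, hz⟩ := exists_pt G.pU O hO
  obtain ⟨W, hW, hzW, -⟩ := exists_isAffineOpen_mem_and_subset (X := G.U) (x := z) (U := ⊤) trivial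
  -- initial slice
  have hinit : ∃ (C : CommRingCat.{u}) (u : Spec C ⟶ G.U) (_ : IsImmersion u),
      Flat (sv G u) ∧ z ∈ Set.range (sv G u) := by
    refine ⟨_, hW.fromSpec, inferInstance, inferInstance, ?_⟩
    obtain ⟨p, hp⟩ : z ∈ Set.range hW.fromSpec := by rw [hW.range_fromSpec]; exact hzW
    obtain ⟨x, hx, -⟩ := Scheme.Pullback.exists_preimage_pullback (f := G.t) (g := hW.fromSpec) (G.e z) p (by
      rw [← Scheme.Hom.comp_apply, G.e_t, hp]; rfl)
    refine ⟨x, ?_⟩
    rw [Scheme.Hom.comp_apply, hx, ← Scheme.Hom.comp_apply, G.e_s]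
    rfl
  let P : TopologicalSpace.Closeds G.U → Prop := fun F => ∃ (C : CommRingCat.{u}) (u : Spec C ⟶ G.U)
    (_ : IsImmersion u), Flat (sv G u) ∧ z ∈ Set.range (sv G u) ∧ (F : Set G.U) = closure (Set.range u)
  have hne : ∃ F, P F := by
    obtain ⟨C, u, hu, h1, h2⟩ := hinit
    exact ⟨⟨_, isClosed_closure⟩, C, u, hu, h1, h2, rfl⟩
  obtain ⟨F, hF, hmin⟩ := wellFounded_lt.has_min {F | P F} hne
  obtain ⟨C, u, _, _, hzr, hFu⟩ := hF
  have := locallyOfFiniteType_sv G u
  have hincomp : ∀ v v' : ↥(pullback G.t u), v ⤳ v' → sv G u v = z → sv G u v' = z → v = v' := by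
    intro v v' hsp hv hv'
    by_contra hne
    obtain ⟨C', u', h1, h2, h3, h4⟩ := exists_step G ι hz C u v v' hsp hne hv hv'
    exact hmin ⟨_, isClosed_closure⟩ ⟨C', u', h1, h2, h3, rfl⟩
      (SetLike.coe_ssubset_coe.1 (by rw [hFu]; exact h4))
  -- the fibre over `z` is quasi-finite
  obtain ⟨v, hv⟩ := hzr
  have : IsLocallyNoetherian G.R := LocallyOfFiniteType.isLocallyNoetherian G.s
  have hqf : (sv G u).QuasiFiniteAt v := by
    subst hv
    let f := sv G u
    rw [Scheme.Hom.quasiFiniteAt_iff_isOpen_singleton_asFiber]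
    let p := f.fiberToSpecResidueField (f v)
    have : LocallyOfFiniteType p := inferInstanceAs (LocallyOfFiniteType (pullback.snd f (G.U.fromSpecResidueField (f v))))
    have : IsLocallyNoetherian (f.fiber (f v)) := LocallyOfFiniteType.isLocallyNoetherian p
    have hall : ∀ a b : f.fiber (f v), a ⤳ b → a = b := fun a b hab => by
      have hr : ∀ c, f (f.fiberι (f v) c) = f v := fun c => by
        have : f.fiberι (f v) c ∈ Set.range (f.fiberι (f v)) := ⟨c, rfl⟩
        rwa [Scheme.Hom.range_fiberι] at this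
      have : IsPreimmersion (f.fiberι (f v)) :=
        inferInstanceAs (IsPreimmersion (pullback.fst f (G.U.fromSpecResidueField (f v))))
      exact (f.fiberι (f v)).isEmbedding.injective
        (hincomp _ _ (hab.map (f.fiberι (f v)).continuous) (hr a) (hr b))
    exact isOpen_singleton_of_forall_eq hall _
  have := (sv G u).quasiFiniteLocus
  let Ω := (sv G u).quasiFiniteLocus
  have : LocallyQuasiFinite (Ω.ι ≫ sv G u) := inferInstance
  let O₁ : (Spec C).Opens := ⟨pullback.snd G.t u '' (Ω : Set ↥(pullback G.t u)), snd_isOpenMap G u _ Ω.2⟩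
  obtain ⟨T, hT, hyT, hTO⟩ := exists_isAffineOpen_mem_and_subset (U := O₁) (x := pullback.snd G.t u v) ⟨v, hqf, rfl⟩
  let u₂ := hT.fromSpec ≫ u
  have hr : Set.range hT.fromSpec ⊆ Set.range O₁.ι := by
    rw [hT.range_fromSpec, Scheme.Opens.range_ι]; exact hTO
  let k := IsOpenImmersion.lift O₁.ι hT.fromSpec hr
  have hk : k ≫ O₁.ι = hT.fromSpec := IsOpenImmersion.lift_fac _ _ _
  have : IsOpenImmersion k := by
    have : IsOpenImmersion (k ≫ O₁.ι) := hk ▸ inferInstance
    exact IsOpenImmersion.of_comp k O₁.ι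
  let kk : pullback G.t u₂ ⟶ pullback G.t (O₁.ι ≫ u) :=
    pullback.map _ _ _ _ (𝟙 _) k (𝟙 _) (by simp) (by simp [u₂, reassoc_of% hk])
  have hkk : sv G u₂ = kk ≫ sv G (O₁.ι ≫ u) := by simp [kk, pullback.map, pullback.lift_fst_assoc]
  let mm : pullback G.t u₂ ⟶ pullback G.t u :=
    pullback.map _ _ _ _ (𝟙 _) hT.fromSpec (𝟙 _) (by simp) (by simp [u₂])
  have hmm : sv G u₂ = mm ≫ sv G u := by simp [mm, pullback.map, pullback.lift_fst_assoc]
  have hflat₂ : Flat (sv G u₂) := by rw [hmm]; infer_instance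
  have hzmem : z ∈ Set.range (sv G u₂) := by
    obtain ⟨y, hy⟩ : pullback.snd G.t u v ∈ Set.range hT.fromSpec := by rw [hT.range_fromSpec]; exact hyT
    obtain ⟨x, hx1, -⟩ := Scheme.Pullback.exists_preimage_pullback (f := G.t) (g := u₂) (pullback.fst G.t u v) y (by
      rw [Scheme.Hom.comp_apply, hy, ← Scheme.Hom.comp_apply, ← Scheme.Hom.comp_apply, pullback.condition])
    exact ⟨x, by rw [← hv, Scheme.Hom.comp_apply, hx1, ← Scheme.Hom.comp_apply]⟩
  have := locallyOfFiniteType_sv G u₂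
  have : LocallyOfFinitePresentation (sv G u₂) := by
    have : IsLocallyNoetherian G.U := inferInstance
    infer_instance
  have hop : IsOpen (Set.range (sv G u₂)) := (sv G u₂).isOpenMap.isOpen_range
  -- the generic point of a component through `z`
  have hirr := isIrreducible_irreducibleComponent (x := z)
  let η := hirr.genericPoint
  have hη : IsGenericPoint η (closure (irreducibleComponent z)) := hirr.isGenericPoint_genericPoint_closure
  rw [isClosed_irreducibleComponent.closure_eq] at hη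
  have hηz : η ⤳ z := hη.specializes mem_irreducibleComponent
  refine ⟨_, u₂, inferInstance, η, hflat₂, hηz.mem_open O.2 hzO, by
    rw [hη.def]; exact irreducibleComponent_mem_irreducibleComponents z, hηz.mem_open hop hzmem, ?_⟩
  let f := sv G u₂
  let p := f.fiberToSpecResidueField η
  have : LocallyOfFiniteType p := inferInstanceAs (LocallyOfFiniteType (pullback.snd f (G.U.fromSpecResidueField η)))
  have : IsLocallyNoetherian (f.fiber η) := LocallyOfFiniteType.isLocallyNoetherian p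
  have : QuasiCompact (hT.fromSpec ≫ u) := inferInstance
  have : QuasiCompact f := inferInstance
  have : QuasiCompact p := inferInstanceAs (QuasiCompact (pullback.snd f (G.U.fromSpecResidueField η)))
  have : CompactSpace (f.fiber η) := QuasiCompact.compactSpace_of_compactSpace p
  have : IsPreimmersion (f.fiberι η) :=
    inferInstanceAs (IsPreimmersion (pullback.fst f (G.U.fromSpecResidueField η)))
  have hall : ∀ a b : f.fiber η, a ⤳ b → a = b := fun a b hab => by
    have hr : ∀ c, f (f.fiberι η c) = η := fun c => by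
      have : f.fiberι η c ∈ Set.range (f.fiberι η) := ⟨c, rfl⟩
      rwa [Scheme.Hom.range_fiberι] at this
    have e1 := eq_of_specializes_of_image G u Ω O₁ rfl (kk (f.fiberι η a)) (kk (f.fiberι η b))
      ((hab.map (f.fiberι η).continuous).map kk.continuous)
      (by rw [← Scheme.Hom.comp_apply kk, ← Scheme.Hom.comp_apply kk, ← hkk]; exact (hr a).trans (hr b).symm)
    exact (f.fiberι η).isEmbedding.injective (kk.isEmbedding.injective e1)
  have : Finite (f.fiber η) := finite_of_forall_eq hall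
  rw [← Scheme.Hom.range_fiberι]
  exact Set.finite_range _

end Groth.Agent.Lib.GrpdGen
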