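import Groth.Agent.Lib.GrpdGen.Dense
import Groth.Agent.Lib.GrpdGen.AffineCoeq
import Groth.Agent.Lib.GrpdGen.FiniteTypeDesc

/-!
Generic quotients of groupoids with quasi-finite `(t, s)`.
-/

set_option autoImplicit false

universe u

open CategoryTheory CategoryTheory.Limits AlgebraicGeometry
open Groth.Agent.H63.GrpdBasic

namespace Groth.Agent.Lib.GrpdGen

variable {S : Scheme.{u}} (G : Grpd.GroupoidScheme S)

/-- The properties of a generic quotient. -/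
def IsGenQuot (W : G.U.Opens) (hW : G.t ⁻¹ᵁ W = G.s ⁻¹ᵁ W) {V : Scheme.{u}} (σ : (G.s ⁻¹ᵁ W).toScheme ⟶ W.toScheme)
    (p : W.toScheme ⟶ V) (w : G.t.resLE W (G.s ⁻¹ᵁ W) hW.ge ≫ p = σ ≫ p) (q : V ⟶ S) : Prop :=
  Nonempty (IsColimit (Cofork.ofπ p w)) ∧ p ≫ q = W.ι ≫ G.pU ∧
    Surjective p ∧ IsOpenMap p.base ∧ LocallyOfFinitePresentation p ∧
    LocallyOfFinitePresentation q ∧ QuasiCompact q ∧ QuasiSeparated q ∧
    Function.Surjective (pullback.lift (G.t.resLE W (G.s ⁻¹ᵁ W) hW.ge) σ w).base ∧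
    (Mono G.j → IsPullback (G.t.resLE W (G.s ⁻¹ᵁ W) hW.ge) σ p p ∧ Flat p)

theorem exists_genQuot [IsNoetherian S] [Flat G.s] [LocallyOfFiniteType G.s] [QuasiCompact G.s]
    [LocallyOfFiniteType G.pU] [QuasiCompact G.pU] [LocallyQuasiFinite G.j] [LocallyOfFiniteType G.j] :
    ∃ (W : G.U.Opens) (hW : G.t ⁻¹ᵁ W = G.s ⁻¹ᵁ W), Dense (W : Set G.U) ∧
      ∃ (V : Scheme.{u}) (p : (W : Scheme.{u}) ⟶ V)
        (w : G.t.resLE W (G.s ⁻¹ᵁ W) hW.ge ≫ p = (G.s ∣_ W) ≫ p) (q : V ⟶ S),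
        IsGenQuot G W hW (G.s ∣_ W) p w q := by
  have : IsLocallyNoetherian G.U := LocallyOfFiniteType.isLocallyNoetherian G.pU
  have : CompactSpace G.U := QuasiCompact.compactSpace_of_compactSpace G.pU
  have : AlgebraicGeometry.IsNoetherian G.U := ⟨⟩
  have : LocallyOfFinitePresentation G.s := inferInstance
  have : IsIso G.i := ⟨G.i, i_i G, i_i G⟩
  have : Flat G.t := by rw [← G.i_s]; infer_instance
  have : LocallyOfFinitePresentation G.t := by rw [← G.i_s]; infer_instance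
  obtain ⟨W, U', u, _, _, hd, H⟩ := exists_qs_dense G
  obtain ⟨uR, huR, _, hf, hfl, hlfp, hs⟩ := restrict_qs G H.sat.symm H
  let GR := GrpdQuot.restrictGrpd G W H.sat.symm
  have hvv : H81.GrpdCoeq.QuasiSec.vv GR uR = (pullbackSymmetry uR GR.t).hom ≫ sv GR uR := by
    rw [H81.GrpdCoeq.QuasiSec.vv_eq, pullbackSymmetry_hom_comp_fst_assoc]
  have : IsFinite (H81.GrpdCoeq.QuasiSec.vv GR uR) := by rw [hvv]; infer_instance
  have : Flat (H81.GrpdCoeq.QuasiSec.vv GR uR) := by rw [hvv]; infer_instance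
  have : LocallyOfFinitePresentation (H81.GrpdCoeq.QuasiSec.vv GR uR) := by rw [hvv]; infer_instance
  have : Surjective (H81.GrpdCoeq.QuasiSec.vv GR uR) := by rw [hvv]; infer_instance
  obtain ⟨V, p, hp, _, hint, hinj⟩ := exists_isGood_affine GR uR
  obtain ⟨p, rfl⟩ : ∃ p' : W.toScheme ⟶ V, p' = p := ⟨p, rfl⟩
  let tW := GrpdQuot.tW G W H.sat.symm
  let sW := GrpdQuot.sW G W
  have hcond : tW ≫ p = sW ≫ p := hp.cond
  have hsW : G.s ∣_ W = sW := (Scheme.Hom.resLE_eq_morphismRestrict _).symm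
  suffices main : ∀ σ : (G.s ⁻¹ᵁ W).toScheme ⟶ W.toScheme, σ = sW →
      ∃ (w : G.t.resLE W (G.s ⁻¹ᵁ W) H.sat.ge ≫ p = σ ≫ p) (q : V ⟶ S), IsGenQuot G W H.sat σ p w q by
    obtain ⟨w, q, hq⟩ := main (G.s ∣_ W) hsW
    exact ⟨W, H.sat, hd, V, p, w, q, hq⟩
  rintro σ rfl
  have hh : tW ≫ W.ι ≫ G.pU = sW ≫ W.ι ≫ G.pU := by
    simp only [tW, sW, GrpdQuot.tW, GrpdQuot.sW, Scheme.Hom.resLE_comp_ι_assoc, G.t_over, G.s_over]
  let q : V ⟶ S := hp.colim.some.desc (Cofork.ofπ (W.ι ≫ G.pU) hh)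
  have hpq : p ≫ q = W.ι ≫ G.pU :=
    hp.colim.some.fac (Cofork.ofπ (W.ι ≫ G.pU) hh) WalkingParallelPair.one
  obtain ⟨uR, rfl⟩ : ∃ v : U' ⟶ W.toScheme, v = uR := ⟨uR, rfl⟩
  have hqLFT : LocallyOfFiniteType q := by
    let f : U' ⟶ V := uR ≫ p
    have : IsIntegralHom f := hint
    have : LocallyOfFiniteType (f ≫ q) := by
      rw [show f ≫ q = (uR ≫ W.ι) ≫ G.pU by simp only [f, Category.assoc, hpq]]
      have : IsImmersion (uR ≫ W.ι) := huR ▸ ‹IsImmersion u›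
      infer_instance
    exact locallyOfFiniteType_of_integral f q hinj
  have : IsLocallyNoetherian V := LocallyOfFiniteType.isLocallyNoetherian q
  have : LocallyOfFiniteType (p ≫ q) := by rw [hpq]; infer_instance
  have : LocallyOfFiniteType p := locallyOfFiniteType_of_comp p q
  have : IsNoetherian V := ⟨⟩
  have hW' : Flat tW := by
    have : Flat (tW ≫ W.ι) := by rw [Scheme.Hom.resLE_comp_ι]; infer_instance
    exact MorphismProperty.of_postcomp (W := @Flat) (W' := @IsOpenImmersion) _ W.ι inferInstance ‹_›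
  have hop : IsOpenMap tW := by
    intro A hA
    rw [W.ι.isOpenEmbedding.isOpen_iff_image_isOpen, ← Set.image_comp]
    have e : (W.ι ∘ tW : _ → G.U) = G.t ∘ (G.s ⁻¹ᵁ W).ι := by
      funext x
      simp only [Function.comp_apply, ← Scheme.Hom.comp_apply, tW, GrpdQuot.tW, Scheme.Hom.resLE_comp_ι]
    rw [e, Set.image_comp]
    exact G.t.isOpenMap _ ((G.s ⁻¹ᵁ W).ι.isOpenEmbedding.isOpenMap _ hA)
  refine ⟨hcond, q, hp.colim, hpq, hp.surj, hp.openMap hop, inferInstance, inferInstance,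
    inferInstance, inferInstance, hp.pair, fun hj => ?_⟩
  have := GrpdQuot.mono_j G W H.sat.symm
  obtain ⟨hsq, hfp⟩ := hp.mono this
  exact ⟨hsq, hfp hW'⟩

end Groth.Agent.Lib.GrpdGen
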