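import Groth.Agent.Lib.GrpdGen.QuasiSection
import Groth.Agent.Lib.DescAlg.Descends
import Groth.Agent.Lib.AlgSpDecent.Restrict
import Groth.Agent.H63.GrpdRestrict
import Groth.Agent.Lib.GrpdQuot.Invariant
import Groth.Agent.Lib.GrpdQuot.Restrict

/-!
Saturated opens with an affine quasi-section.
-/

set_option autoImplicit false

universe u

open CategoryTheory CategoryTheory.Limits AlgebraicGeometry
open Groth.Agent.H63.GrpdBasic Groth.Agent.H63

namespace Groth.Agent.Lib.GrpdGen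

/-- A square of open immersions is cartesian as soon as the ranges match. -/
theorem isPullback_of_range {A B W T : Scheme.{u}} (k : A ⟶ B) [IsOpenImmersion k] (g : A ⟶ W) (f : B ⟶ T)
    (j : W ⟶ T) [IsOpenImmersion j] (w : k ≫ f = g ≫ j) (hr : Set.range k = f ⁻¹' Set.range j) :
    IsPullback k g f j := by
  have hc : ∀ c : PullbackCone f j, Set.range c.fst ⊆ Set.range k := fun c => by
    rintro _ ⟨x, rfl⟩
    rw [hr]
    exact ⟨c.snd x, by rw [← Scheme.Hom.comp_apply, ← c.condition, Scheme.Hom.comp_apply]⟩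
  exact ⟨⟨w⟩, ⟨PullbackCone.IsLimit.mk w (fun c => IsOpenImmersion.lift k c.fst (hc c))
    (fun c => IsOpenImmersion.lift_fac _ _ _)
    (fun c => by rw [← cancel_mono j, Category.assoc, ← w, IsOpenImmersion.lift_fac_assoc, c.condition])
    (fun c m h1 _ => by rw [← cancel_mono k, h1, IsOpenImmersion.lift_fac])⟩⟩

variable {S : Scheme.{u}} (G : Grpd.GroupoidScheme S)

/-- The range of the base change of a map to the objects. -/
theorem range_mapArrows {A U' : Scheme.{u}} (k : A ⟶ U') (u : U' ⟶ G.U) :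
    Set.range (pullback.map G.t (k ≫ u) G.t u (𝟙 _) k (𝟙 _) (by simp) (by simp)) =
      pullback.snd G.t u ⁻¹' Set.range k := by
  rw [Scheme.Pullback.range_map]
  ext x
  simp

/-- `u` is a quasi-section over the saturated open `W`. -/
structure Qs (W : G.U.Opens) {U' : Scheme.{u}} (u : U' ⟶ G.U) : Prop where
  sat : G.t ⁻¹ᵁ W = G.s ⁻¹ᵁ W
  range_le : Set.range u ⊆ W
  exists_lift : ∃ lw : pullback G.t u ⟶ W, lw ≫ W.ι = sv G u ∧
    IsFinite lw ∧ Flat lw ∧ LocallyOfFinitePresentation lw ∧ Surjective lw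

theorem mem_iff {W : G.U.Opens} (h : G.t ⁻¹ᵁ W = G.s ⁻¹ᵁ W) (r : G.R) : G.t r ∈ W ↔ G.s r ∈ W :=
  iff_of_eq (congrArg (fun O : G.R.Opens => r ∈ O) h)

theorem sv_mem_iff {U' : Scheme.{u}} (u : U' ⟶ G.U) {W : G.U.Opens} (h : G.t ⁻¹ᵁ W = G.s ⁻¹ᵁ W)
    (v : ↥(pullback G.t u)) : sv G u v ∈ W ↔ pullback.snd G.t u v ∈ u ⁻¹ᵁ W := by
  change sv G u v ∈ W ↔ u (pullback.snd G.t u v) ∈ W
  rw [Scheme.Hom.comp_apply, ← mem_iff G h, ← Scheme.Hom.comp_apply, ← Scheme.Hom.comp_apply, pullback.condition]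

/-- The arrows into `u⁻¹W`, for a saturated `W`. -/
theorem exists_restrict_square {U' : Scheme.{u}} (u : U' ⟶ G.U) {W : G.U.Opens} (h : G.t ⁻¹ᵁ W = G.s ⁻¹ᵁ W) :
    ∃ (k : pullback G.t ((u ⁻¹ᵁ W).ι ≫ u) ⟶ pullback G.t u) (lw : pullback G.t ((u ⁻¹ᵁ W).ι ≫ u) ⟶ W),
      IsOpenImmersion k ∧ lw ≫ W.ι = sv G ((u ⁻¹ᵁ W).ι ≫ u) ∧ IsPullback k lw (sv G u) W.ι := by
  let k := pullback.map G.t ((u ⁻¹ᵁ W).ι ≫ u) G.t u (𝟙 _) (u ⁻¹ᵁ W).ι (𝟙 _) (by simp) (by simp)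
  have hk : Set.range k = sv G u ⁻¹' Set.range W.ι := by
    rw [range_mapArrows, Scheme.Opens.range_ι, Scheme.Opens.range_ι]
    ext v
    exact (sv_mem_iff G u h v).symm
  have hks : k ≫ sv G u = sv G ((u ⁻¹ᵁ W).ι ≫ u) := by simp [k, pullback.map, pullback.lift_fst_assoc]
  have hr : Set.range (sv G ((u ⁻¹ᵁ W).ι ≫ u)) ⊆ Set.range W.ι := by
    rintro _ ⟨v, rfl⟩
    rw [← hks, Scheme.Hom.comp_apply]
    exact hk.le ⟨v, rfl⟩
  refine ⟨k, IsOpenImmersion.lift W.ι _ hr, inferInstance, IsOpenImmersion.lift_fac _ _ _,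
    isPullback_of_range k _ _ _ ?_ hk⟩
  rw [IsOpenImmersion.lift_fac, hks]

/-- Quasi-sections restrict to smaller saturated opens. -/
theorem Qs.shrink {W W' : G.U.Opens} {U' : Scheme.{u}} {u : U' ⟶ G.U} (H : Qs G W u) (hle : W' ≤ W)
    (h' : G.t ⁻¹ᵁ W' = G.s ⁻¹ᵁ W') : Qs G W' ((u ⁻¹ᵁ W').ι ≫ u) := by
  obtain ⟨lw, hlw, h1, h2, h3, h4⟩ := H.exists_lift
  obtain ⟨k, lw', hk, hlw', hsq⟩ := exists_restrict_square G u h'
  have hsq' : IsPullback k lw' lw (G.U.homOfLE hle) := by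
    refine isPullback_of_range k lw' lw _ ?_ ?_
    · rw [← cancel_mono W.ι, Category.assoc, Category.assoc, hlw, Scheme.homOfLE_ι, hsq.w]
    · ext v
      constructor
      · rintro ⟨x, rfl⟩
        refine ⟨lw' x, W.ι.isOpenEmbedding.injective ?_⟩
        simp only [← Scheme.Hom.comp_apply, Category.assoc, Scheme.homOfLE_ι, hlw, hsq.w]
      · rintro ⟨w, hw⟩
        obtain ⟨x, hx, -⟩ := Scheme.exists_preimage_of_isPullback hsq v w (by
          rw [← hlw, Scheme.Hom.comp_apply, ← hw, ← Scheme.Hom.comp_apply, Scheme.homOfLE_ι])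
        exact ⟨x, hx⟩
  refine ⟨h', ?_, lw', hlw', MorphismProperty.of_isPullback (P := @IsFinite) hsq' h1,
    MorphismProperty.of_isPullback (P := @Flat) hsq' h2,
    MorphismProperty.of_isPullback (P := @LocallyOfFinitePresentation) hsq' h3,
    MorphismProperty.of_isPullback (P := @Surjective) hsq' h4⟩
  rintro _ ⟨x, rfl⟩
  exact x.2

/-- The points of a quasi-section in one class are finite. -/
theorem Qs.finite_class {W : G.U.Opens} {U' : Scheme.{u}} {u : U' ⟶ G.U} (H : Qs G W u) (y : U') :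
    {x : U' | ∃ r : G.R, G.t r = u x ∧ G.s r = u y}.Finite := by
  obtain ⟨lw, hlw, h1, -⟩ := H.exists_lift
  refine ((lw.finite_preimage_singleton ⟨u y, H.range_le ⟨y, rfl⟩⟩).image (pullback.snd G.t u)).subset ?_
  rintro x ⟨r, hrt, hrs⟩
  obtain ⟨v, hv1, hv2⟩ := Scheme.Pullback.exists_preimage_pullback r x hrt
  refine ⟨v, W.ι.isOpenEmbedding.injective ?_, hv2⟩
  rw [← Scheme.Hom.comp_apply, hlw, Scheme.Hom.comp_apply, hv1, hrs]
  rfl

theorem restrict_qs {W : G.U.Opens} (hW : G.s ⁻¹ᵁ W = G.t ⁻¹ᵁ W) {U' : Scheme.{u}} {u : U' ⟶ G.U}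
    [IsImmersion u] (H : Qs G W u) :
    ∃ uR : U' ⟶ (GrpdQuot.restrictGrpd G W hW).U, uR ≫ W.ι = u ∧ IsImmersion uR ∧
      IsFinite (sv (GrpdQuot.restrictGrpd G W hW) uR) ∧ Flat (sv (GrpdQuot.restrictGrpd G W hW) uR) ∧
      LocallyOfFinitePresentation (sv (GrpdQuot.restrictGrpd G W hW) uR) ∧
      Surjective (sv (GrpdQuot.restrictGrpd G W hW) uR) := by
  obtain ⟨lw, hlw, h1, h2, h3, h4⟩ := H.exists_lift
  have hr : Set.range u ⊆ Set.range W.ι := by rw [Scheme.Opens.range_ι]; exact H.range_le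
  let uR : U' ⟶ W.toScheme := IsOpenImmersion.lift W.ι u hr
  have huR : uR ≫ W.ι = u := IsOpenImmersion.lift_fac _ _ _
  have : IsImmersion uR := by
    have : IsImmersion (uR ≫ W.ι) := huR ▸ ‹_›
    exact IsImmersion.of_comp uR W.ι
  let tW := GrpdQuot.tW G W hW
  let sW := GrpdQuot.sW G W
  let ε : pullback tW uR ⟶ pullback G.t u := pullback.map tW uR G.t u (G.s ⁻¹ᵁ W).ι (𝟙 _) W.ι
    (by simp only [tW, GrpdQuot.tW, Scheme.Hom.resLE_comp_ι]) (by simpa using huR)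
  have hεs : ε ≫ lw = pullback.fst tW uR ≫ sW := by
    rw [← cancel_mono W.ι, Category.assoc, hlw, Category.assoc]
    simp only [ε, sW, GrpdQuot.sW, pullback.map, pullback.lift_fst_assoc, Scheme.Hom.resLE_comp_ι, Category.assoc]
  have hf : Set.range (pullback.fst G.t u) ⊆ Set.range (G.s ⁻¹ᵁ W).ι := by
    rintro _ ⟨v, rfl⟩
    rw [Scheme.Opens.range_ι]
    change G.s _ ∈ W
    rw [← Scheme.Hom.comp_apply]
    refine (sv_mem_iff G u H.sat v).2 ?_
    exact H.range_le ⟨_, rfl⟩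
  let ε' : pullback G.t u ⟶ pullback tW uR := pullback.lift (IsOpenImmersion.lift _ _ hf) (pullback.snd G.t u) (by
    rw [← cancel_mono W.ι]
    simp only [Category.assoc, huR, tW, GrpdQuot.tW, Scheme.Hom.resLE_comp_ι, IsOpenImmersion.lift_fac_assoc,
      pullback.condition])
  have : IsIso ε := by
    refine ⟨ε', pullback.hom_ext ?_ ?_, pullback.hom_ext ?_ ?_⟩
    · rw [← cancel_mono (G.s ⁻¹ᵁ W).ι]
      simp only [ε, ε', Category.assoc, IsOpenImmersion.lift_fac, pullback.map,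
        pullback.lift_fst, Category.id_comp]
    · simp only [ε, ε', Category.assoc, pullback.lift_snd, pullback.map, Category.comp_id, Category.id_comp]
    · simp only [ε, ε', Category.assoc, pullback.lift_fst, pullback.map, pullback.lift_fst_assoc,
        IsOpenImmersion.lift_fac, Category.id_comp]
    · simp only [ε, ε', Category.assoc, pullback.lift_snd, pullback.map, Category.comp_id, Category.id_comp]
  refine ⟨uR, huR, ‹_›, ?_⟩
  change IsFinite (pullback.fst tW uR ≫ sW) ∧ Flat (pullback.fst tW uR ≫ sW) ∧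
    LocallyOfFinitePresentation (pullback.fst tW uR ≫ sW) ∧ Surjective (pullback.fst tW uR ≫ sW)
  rw [← hεs]
  exact ⟨inferInstance, inferInstance, inferInstance, inferInstance⟩

variable [Flat G.s] [Flat G.t] [LocallyOfFinitePresentation G.s] [LocallyOfFinitePresentation G.t]
  [AlgebraicGeometry.IsNoetherian G.U] [LocallyQuasiFinite G.j] [LocallyOfFiniteType G.j]
  [LocallyOfFiniteType G.pU] [QuasiCompact G.s]

/-- A saturated open meeting a given open, with a quasi-section in an affine scheme. -/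
theorem exists_qs_nonempty (O : G.U.Opens) (hO : (O : Set G.U).Nonempty) :
    ∃ (W : G.U.Opens) (η : G.U) (C : CommRingCat.{u}) (V : (Spec C).Opens) (u : Spec C ⟶ G.U) (_ : IsImmersion u),
      η ∈ W ∧ η ∈ O ∧ (G.t ⁻¹ᵁ O = G.s ⁻¹ᵁ O → W ≤ O) ∧ Qs G W (V.ι ≫ u) := by
  obtain ⟨C, u, _, η, _, hηO, hηc, hηr, hfin⟩ := exists_slice G O hO
  let f := sv G u
  have := locallyOfFiniteType_sv G u
  have hRn : IsLocallyNoetherian G.R := LocallyOfFiniteType.isLocallyNoetherian G.s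
  have : CompactSpace G.R := QuasiCompact.compactSpace_of_compactSpace G.s
  have : AlgebraicGeometry.IsNoetherian G.R := ⟨⟩
  have : LocallyOfFinitePresentation f := inferInstance
  have : QuasiCompact f := inferInstance
  have : IsLocallyNoetherian (pullback G.t u) := LocallyOfFiniteType.isLocallyNoetherian f
  have : QuasiSeparated f := inferInstance
  obtain ⟨W₀, -, hηW₀, _⟩ := (S2080.result f η hηc).1 hfin
  let W₁ : G.U.Opens := W₀ ⊓ ⟨Set.range f, f.isOpenMap.isOpen_range⟩ ⊓ O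
  have : IsFinite (f ∣_ W₁) := AlgSpDecent.Restrict.isFinite_restrict_mono f (inf_le_left.trans inf_le_left : W₁ ≤ W₀)
  have hsurj : Surjective (f ∣_ W₁) := ⟨fun w => by
    obtain ⟨v, hv⟩ := w.2.1.2
    refine ⟨⟨v, show f v ∈ W₁ by rw [hv]; exact w.2⟩, W₁.ι.isOpenEmbedding.injective ?_⟩
    rw [← Scheme.Hom.comp_apply, morphismRestrict_ι, Scheme.Hom.comp_apply]
    exact hv⟩
  let R₀ : G.R.Opens := G.t ⁻¹ᵁ W₁
  let W : G.U.Opens := ⟨G.s '' (R₀ : Set G.R), G.s.isOpenMap _ R₀.2⟩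
  have hsat : G.t ⁻¹ᵁ W = G.s ⁻¹ᵁ W := by
    refine TopologicalSpace.Opens.ext (Set.ext fun r => ⟨?_, ?_⟩)
    · rintro ⟨a, ha, e⟩
      obtain ⟨b, hbt, hbs⟩ := GrpdQuot.exists_comp_point G a r e
      exact ⟨b, show G.t b ∈ W₁ from hbt ▸ ha, hbs⟩
    · rintro ⟨a, ha, e⟩
      obtain ⟨b, hbt, hbs⟩ := GrpdQuot.exists_comp_point G a (G.i r) (by rw [GrpdQuot.t_i_apply, e])
      exact ⟨b, show G.t b ∈ W₁ from hbt ▸ ha, by rw [hbs, GrpdQuot.s_i_apply]⟩
  have hηW : η ∈ W :=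
    ⟨G.e η, show G.t (G.e η) ∈ W₁ by rw [GrpdQuot.t_e_apply]; exact ⟨⟨hηW₀, hηr⟩, hηO⟩, GrpdQuot.s_e_apply G η⟩
  -- descent from `W₁`
  let j := R₀.ι
  let σ : R₀.toScheme ⟶ W.toScheme := IsOpenImmersion.lift W.ι (j ≫ G.s) (by
    rintro _ ⟨r, rfl⟩
    rw [Scheme.Opens.range_ι, Scheme.Hom.comp_apply]
    exact ⟨_, r.2, rfl⟩)
  have hσ : σ ≫ W.ι = j ≫ G.s := IsOpenImmersion.lift_fac _ _ _
  have : Flat σ := by
    have : Flat (σ ≫ W.ι) := by rw [hσ]; infer_instance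
    exact MorphismProperty.of_postcomp (W := @Flat) (W' := @IsOpenImmersion) _ W.ι inferInstance ‹_›
  have : Surjective σ := ⟨fun w => by
    obtain ⟨r, hr, e⟩ := w.2
    refine ⟨⟨r, hr⟩, W.ι.isOpenEmbedding.injective ?_⟩
    rw [← Scheme.Hom.comp_apply, hσ, Scheme.Hom.comp_apply]
    exact e⟩
  have : QuasiCompact σ := by
    have : QuasiCompact (σ ≫ W.ι) := by rw [hσ]; infer_instance
    exact QuasiCompact.of_comp σ W.ι
  let τ : R₀.toScheme ⟶ W₁.toScheme := G.t.resLE W₁ R₀ le_rfl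
  have hτ : τ ≫ W₁.ι = j ≫ G.t := Scheme.Hom.resLE_comp_ι _ _
  have hT : IsPullback (pullback.lift (pullback.fst (sv G u) (j ≫ G.t)) (pullback.snd (sv G u) (j ≫ G.t) ≫ τ)
      (by rw [Category.assoc, hτ, pullback.condition]))
      (pullback.snd (sv G u) (j ≫ G.t)) (pullback.snd (sv G u) W₁.ι) τ := by
    refine IsPullback.of_right ?_ (pullback.lift_snd _ _ _) (IsPullback.of_hasPullback (sv G u) W₁.ι)
    rw [pullback.lift_fst, hτ]
    exact IsPullback.of_hasPullback _ _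
  have hS : IsPullback (pullback.lift (shift G u j) (pullback.snd (sv G u) (j ≫ G.t) ≫ σ)
      (by rw [Category.assoc, hσ]; exact (isPullback_shift G u j).w))
      (pullback.snd (sv G u) (j ≫ G.t)) (pullback.snd (sv G u) W.ι) σ := by
    refine IsPullback.of_right ?_ (pullback.lift_snd _ _ _) (IsPullback.of_hasPullback (sv G u) W.ι)
    rw [pullback.lift_fst, hσ]
    exact isPullback_shift G u j
  have key : ∀ (P : MorphismProperty Scheme.{u}) [P.IsStableUnderBaseChange]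
      [P.DescendsAlong (@Surjective ⊓ @Flat ⊓ @QuasiCompact)], P (f ∣_ W₁) → P (pullback.snd (sv G u) W.ι) := by
    intro P _ _ h
    have h1 : P (pullback.snd (sv G u) W₁.ι) :=
      (P.arrow_mk_iso_iff (Arrow.isoMk (pullbackRestrictIsoRestrict f W₁) (Iso.refl _)
        ((pullbackRestrictIsoRestrict_hom_morphismRestrict f W₁).trans (Category.comp_id _).symm))).2 h
    exact MorphismProperty.of_isPullback_of_descendsAlong (P := P) (Q := @Surjective ⊓ @Flat ⊓ @QuasiCompact) hS.flip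
      ⟨⟨‹_›, ‹_›⟩, ‹_›⟩ (MorphismProperty.of_isPullback hT h1)
  obtain ⟨k, lw, hk, hlw, hsq⟩ := exists_restrict_square G u hsat
  have key' : ∀ (P : MorphismProperty Scheme.{u}) [P.IsStableUnderBaseChange]
      [P.DescendsAlong (@Surjective ⊓ @Flat ⊓ @QuasiCompact)], P (f ∣_ W₁) → P lw := fun P _ _ h => by
    rw [← hsq.isoPullback_hom_snd]
    exact (P.cancel_left_of_respectsIso _ _).2 (key P h)
  refine ⟨W, η, C, u ⁻¹ᵁ W, u, ‹_›, hηW, hηO, ?_, hsat, ?_, lw, hlw, key' @IsFinite ‹_›,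
    key' @Flat inferInstance, key' @LocallyOfFinitePresentation inferInstance, key' @Surjective hsurj⟩
  · rintro hO x ⟨r, hr, rfl⟩
    exact (mem_iff G hO r).1 hr.2
  rintro _ ⟨x, rfl⟩
  exact x.2

omit [Flat G.s] [Flat G.t] [LocallyOfFinitePresentation G.s] [LocallyOfFinitePresentation G.t]
  [AlgebraicGeometry.IsNoetherian G.U] [LocallyQuasiFinite G.j] [LocallyOfFiniteType G.j]
  [LocallyOfFiniteType G.pU] [QuasiCompact G.s] in
/-- Invariant affine neighbourhoods in a quasi-section. -/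
theorem exists_invariant {W : G.U.Opens} {U' : Scheme.{u}} {u : U' ⟶ G.U} [IsImmersion u] (H : Qs G W u) (y : U')
    (A : U'.Opens) (hA : IsAffineOpen A)
    (hEA : {x : U' | ∃ r : G.R, G.t r = u x ∧ G.s r = u y} ⊆ (A : Set U')) :
    ∃ T : U'.Opens, IsAffineOpen T ∧ y ∈ T ∧
      ∀ (r : G.R) (x x' : U'), G.t r = u x → G.s r = u x' → (x ∈ T ↔ x' ∈ T) := by
  obtain ⟨uR, huR, _, _, _, _, _⟩ := restrict_qs G H.sat.symm H
  obtain ⟨uR, rfl⟩ : ∃ uR' : U' ⟶ W.toScheme, uR' = uR := ⟨uR, rfl⟩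
  let GR := GrpdQuot.restrictGrpd G W H.sat.symm
  let vR : U' ⟶ GR.U := uR
  let G' := GrpdRestrict.restrict GR vR
  have hvv : IsFinite (pullback.snd vR GR.t ≫ GR.s) ∧ Flat (pullback.snd vR GR.t ≫ GR.s) ∧
      LocallyOfFinitePresentation (pullback.snd vR GR.t ≫ GR.s) := by
    rw [← pullbackSymmetry_hom_comp_fst_assoc]
    refine ⟨?_, ?_, ?_⟩ <;> infer_instance
  have : IsFinite G'.s := MorphismProperty.pullback_snd (P := (@IsFinite : MorphismProperty Scheme.{u})) _ _ hvv.1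
  have : Flat G'.s := MorphismProperty.pullback_snd (P := (@Flat : MorphismProperty Scheme.{u})) _ _ hvv.2.1
  have : LocallyOfFinitePresentation G'.s :=
    MorphismProperty.pullback_snd (P := (@LocallyOfFinitePresentation : MorphismProperty Scheme.{u})) _ _ hvv.2.2
  let tt : GrpdRestrict.RR GR vR ⟶ U' := GrpdRestrict.tt GR vR
  let ss : GrpdRestrict.RR GR vR ⟶ U' := GrpdRestrict.ss GR vR
  let pr : GrpdRestrict.RR GR vR ⟶ (G.s ⁻¹ᵁ W).toScheme := GrpdRestrict.pr GR vR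
  have hpt : pr ≫ GrpdQuot.tW G W H.sat.symm = tt ≫ uR := GrpdRestrict.pr_t GR vR
  have hps : pr ≫ GrpdQuot.sW G W = ss ≫ uR := GrpdRestrict.pr_s GR vR
  have h1 : pr ≫ (G.s ⁻¹ᵁ W).ι ≫ G.t = tt ≫ u := by
    rw [← huR, ← Scheme.Hom.resLE_comp_ι G.t H.sat.symm.le]
    exact (reassoc_of% hpt) W.ι
  have h2 : pr ≫ (G.s ⁻¹ᵁ W).ι ≫ G.s = ss ≫ u := by
    rw [← huR, ← Scheme.Hom.resLE_comp_ι G.s (le_refl (G.s ⁻¹ᵁ W))]
    exact (reassoc_of% hps) W.ι
  obtain ⟨T, hT, -, hyT, hTinv⟩ := GrpdQuot.exists_invariant_affineOpen G' y A hA fun r' hr => hEA (by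
    obtain ⟨r', rfl⟩ : ∃ r'' : GrpdRestrict.RR GR vR, r'' = r' := ⟨r', rfl⟩
    refine ⟨(pr ≫ (G.s ⁻¹ᵁ W).ι) r', ?_, ?_⟩
    · refine (Scheme.Hom.comp_apply _ G.t r').symm.trans ?_
      rw [Category.assoc, h1]
      exact Scheme.Hom.comp_apply tt u r'
    · refine (Scheme.Hom.comp_apply _ G.s r').symm.trans ?_
      rw [Category.assoc, h2]
      exact (Scheme.Hom.comp_apply ss u r').trans (congrArg u hr))
  refine ⟨T, hT, hyT, fun r x x' hx hx' => ?_⟩
  have hrW : G.s r ∈ W := hx' ▸ H.range_le ⟨x', rfl⟩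
  let r' : (G.s ⁻¹ᵁ W).toScheme := ⟨r, hrW⟩
  have ht : GrpdQuot.tW G W H.sat.symm r' = uR x := W.ι.isOpenEmbedding.injective (by
    refine (Scheme.Hom.comp_apply _ W.ι r').symm.trans (Eq.trans ?_ (Scheme.Hom.comp_apply uR W.ι x))
    refine Eq.trans ?_ (congrArg (fun m : U' ⟶ G.U => m x) huR).symm
    rw [← hx]
    exact (congrArg (fun m => m r') (Scheme.Hom.resLE_comp_ι G.t H.sat.symm.le)).trans (Scheme.Hom.comp_apply _ G.t r'))
  have hs : GrpdQuot.sW G W r' = uR x' := W.ι.isOpenEmbedding.injective (by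
    refine (Scheme.Hom.comp_apply _ W.ι r').symm.trans (Eq.trans ?_ (Scheme.Hom.comp_apply uR W.ι x'))
    refine Eq.trans ?_ (congrArg (fun m : U' ⟶ G.U => m x') huR).symm
    rw [← hx']
    exact (congrArg (fun m => m r') (Scheme.Hom.resLE_comp_ι G.s (le_refl (G.s ⁻¹ᵁ W)))).trans
      (Scheme.Hom.comp_apply _ G.s r'))
  obtain ⟨b, hb1, hb2⟩ := Scheme.Pullback.exists_preimage_pullback (f := vR) (g := GR.t) x r' ht.symm
  obtain ⟨c, hc1, hc2⟩ := Scheme.Pullback.exists_preimage_pullback (f := pullback.snd vR GR.t ≫ GR.s) (g := vR) b x'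
    (by rw [Scheme.Hom.comp_apply, hb2]; exact hs)
  have hct : G'.t c = x := by
    refine (Scheme.Hom.comp_apply (pullback.fst _ vR) (pullback.fst vR GR.t) c).trans ?_
    rw [hc1]; exact hb1
  have hcs : G'.s c = x' := hc2
  have h := congrArg (fun O : G'.R.Opens => c ∈ O) hTinv
  rw [← hct, ← hcs]
  exact (iff_of_eq h).symm

/-- A nonempty saturated open with an affine quasi-section meeting a given open. -/
theorem exists_qs_affine (O : G.U.Opens) (hO : (O : Set G.U).Nonempty) :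
    ∃ (W : G.U.Opens) (U' : Scheme.{u}) (u : U' ⟶ G.U) (_ : IsImmersion u),
      IsAffine U' ∧ (∃ x ∈ W, x ∈ O) ∧ (G.t ⁻¹ᵁ O = G.s ⁻¹ᵁ O → W ≤ O) ∧ Qs G W u := by
  obtain ⟨W, η, C, V, u, _, hηW, hηO, hWO, H⟩ := exists_qs_nonempty G O hO
  obtain ⟨lw, hlw, h1, h2, h3, h4⟩ := H.exists_lift
  obtain ⟨v, hv⟩ := h4.1 ⟨η, hηW⟩
  let y := pullback.snd G.t (V.ι ≫ u) v
  obtain ⟨A, hA, hEA⟩ : ∃ A : V.toScheme.Opens, IsAffineOpen A ∧
      {x : V.toScheme | ∃ r : G.R, G.t r = (V.ι ≫ u) x ∧ G.s r = (V.ι ≫ u) y} ⊆ (A : Set V.toScheme) := by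
    have hE := Qs.finite_class G H y
    obtain ⟨g, hg, hgE⟩ := GrpdQuot.exists_basicOpen_le_of_finite (W := V) (isAffineOpen_top (Spec C))
      (V.ι '' _) (hE.image _) (by rintro _ ⟨x, -, rfl⟩; exact x.2) (fun _ _ => trivial)
    refine ⟨V.ι ⁻¹ᵁ (Spec C).basicOpen g, ((isAffineOpen_top _).basicOpen g).preimage_of_isOpenImmersion V.ι
      (by rw [Scheme.Opens.opensRange_ι]; exact hg), fun x hx => hgE ⟨x, hx, rfl⟩⟩
  obtain ⟨T, hT, hyT, hTinv⟩ := exists_invariant G H y A hA hEA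
  have hcond : ∀ w, G.t (pullback.fst G.t (V.ι ≫ u) w) = (V.ι ≫ u) (pullback.snd G.t (V.ι ≫ u) w) := fun w =>
    (Scheme.Hom.comp_apply _ G.t w).symm.trans ((congrArg (fun m : pullback G.t (V.ι ≫ u) ⟶ G.U => m w) pullback.condition).trans
      (Scheme.Hom.comp_apply _ (V.ι ≫ u) w))
  -- the saturated open
  let W' : G.U.Opens := ⟨sv G (V.ι ≫ u) '' (pullback.snd G.t (V.ι ≫ u) ⁻¹' (T : Set V.toScheme)), by
    rw [← hlw, Scheme.Hom.comp_base, TopCat.coe_comp, Set.image_comp]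
    exact W.ι.isOpenEmbedding.isOpenMap _ (lw.isOpenMap _ (T.2.preimage (pullback.snd G.t (V.ι ≫ u)).continuous))⟩
  have hpt : ∀ r : G.R, (∃ x ∈ T, G.t r = (V.ι ≫ u) x) → G.s r ∈ W' := by
    rintro r ⟨x, hx, e⟩
    obtain ⟨w, hw1, hw2⟩ := Scheme.Pullback.exists_preimage_pullback r x e
    exact ⟨w, show pullback.snd G.t (V.ι ≫ u) w ∈ T by rw [hw2]; exact hx, by rw [Scheme.Hom.comp_apply, hw1]⟩
  have hW'e : ∀ x ∈ W', ∃ r : G.R, (∃ x' ∈ T, G.t r = (V.ι ≫ u) x') ∧ G.s r = x := by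
    rintro _ ⟨w, hw, rfl⟩
    exact ⟨pullback.fst G.t (V.ι ≫ u) w, ⟨_, hw, hcond w⟩, (Scheme.Hom.comp_apply _ _ _).symm⟩
  have hsat' : G.t ⁻¹ᵁ W' = G.s ⁻¹ᵁ W' := by
    refine TopologicalSpace.Opens.ext (Set.ext fun r => ⟨fun h => ?_, fun h => ?_⟩)
    · obtain ⟨a, hat, has⟩ := hW'e _ h
      obtain ⟨b, hbt, hbs⟩ := GrpdQuot.exists_comp_point G a r has
      change G.s r ∈ W'
      rw [← hbs]; exact hpt b (hbt ▸ hat)
    · obtain ⟨a, hat, has⟩ := hW'e _ h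
      obtain ⟨b, hbt, hbs⟩ := GrpdQuot.exists_comp_point G a (G.i r) (by rw [GrpdQuot.t_i_apply, has])
      change G.t r ∈ W'
      rw [← GrpdQuot.s_i_apply, ← hbs]; exact hpt b (hbt ▸ hat)
  have hle : W' ≤ W := by
    rintro _ ⟨w, -, rfl⟩
    rw [← hlw, Scheme.Hom.comp_apply]
    exact (lw w).2
  have hpre : (V.ι ≫ u) ⁻¹ᵁ W' = T := by
    refine TopologicalSpace.Opens.ext (Set.ext fun x => ⟨fun h => ?_, fun h => ?_⟩)
    · obtain ⟨a, ⟨x', hx', hat⟩, has⟩ := hW'e _ h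
      exact (hTinv a x' x hat has).1 hx'
    · change (V.ι ≫ u) x ∈ W'
      rw [← GrpdQuot.s_e_apply G ((V.ι ≫ u) x)]
      exact hpt _ ⟨x, h, GrpdQuot.t_e_apply G _⟩
  refine ⟨W', ((V.ι ≫ u) ⁻¹ᵁ W').toScheme, ((V.ι ≫ u) ⁻¹ᵁ W').ι ≫ V.ι ≫ u, inferInstance, by rw [hpre]; exact hT,
    ⟨η, ⟨v, hyT, ?_⟩, hηO⟩, fun h => hle.trans (hWO h), H.shrink G hle hsat'⟩
  rw [← hlw, Scheme.Hom.comp_apply, hv]
  rfl

end Groth.Agent.Lib.GrpdGen
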